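import Cfsg.Agent.H34.L32.Sections

/-! Two configurations ruled out by the rank hypothesis. -/

set_option autoImplicit false

namespace Cfsg.Agent.H34.L32

open Subgroup

universe u

theorem norm_E_inv : ∀ v : V3, v + act E⁻¹ v = 0 ∨ v + act E⁻¹ v = vc := by decide +kernel

theorem coord_RS_inv : ∀ v : V3, (act (R * S)⁻¹ v + v) 0 = 0 := by decide +kernel

theorem vc_coord : vc 0 = 0 := by decide +kernel

variable {X : Type u} [Group X] [Finite X]

theorem four_le_map {ρ : X →* G3} (K : Subgroup X) (hT : T ∈ K.map ρ) (hS : S ∈ K.map ρ) :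
    4 ≤ Nat.card (K.map ρ) := by
  have hE : E ∈ K.map ρ := T_S ▸ mul_mem hT hS
  let f : Fin 4 → K.map ρ := ![1, ⟨T, hT⟩, ⟨S, hS⟩, ⟨E, hE⟩]
  have hfi : ∀ i, (f i : G3) = (![1, T, S, E] : Fin 4 → G3) i := by
    intro i; fin_cases i <;> rfl
  have hinj : Function.Injective (![1, T, S, E] : Fin 4 → G3) := by decide +kernel
  have h := Nat.card_le_card_of_injective f fun i j e => hinj (by rw [← hfi, ← hfi, e])
  rwa [Nat.card_fin] at h

theorem card_mul_four {ρ : X →* G3} (K U : Subgroup X) (hU : U ≤ K) (hUk : U ≤ ρ.ker)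
    (hT : T ∈ K.map ρ) (hS : S ∈ K.map ρ) : 4 * Nat.card U ≤ Nat.card K := by
  have h := (ρ.comp K.subtype).ker.card_mul_index
  rw [index_ker] at h
  have hr : (ρ.comp K.subtype).range = K.map ρ := by
    ext y
    exact ⟨fun ⟨k, hk⟩ => ⟨k, k.2, hk⟩, fun ⟨k, hk, e⟩ => ⟨⟨k, hk⟩, e⟩⟩
  rw [hr] at h
  have hle : Nat.card U ≤ Nat.card (ρ.comp K.subtype).ker :=
    Nat.card_le_card_of_injective (fun u => ⟨⟨u, hU u.2⟩, hUk u.2⟩) fun a b e =>
      Subtype.ext (congrArg (fun w : (ρ.comp K.subtype).ker => ((w : K) : X)) e)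
  rw [← h, mul_comm 4]
  exact Nat.mul_le_mul hle (four_le_map K hT hS)

/-- no central involution outside a natural module on which lifts square inside -/
theorem kill_A {ρ : X →* G3} (hρ : Function.Surjective ρ) (hrank : Cfsg.SectionalPRankLE 2 4 X)
    (V : Subgroup X) [hV : V.Normal] {π : X → V3} (hπ : Coord ρ V ⊥ π) (hVk : V ≤ ρ.ker)
    (hcV : ∀ q, ρ q = 1 → ∀ v ∈ V, q * v = v * q)
    (z : X) (hzc : ∀ g, g * z = z * g) (hzz : z * z = 1) (hzk : ρ z = 1) (hzV : z ∉ V)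
    (hQ : ∀ q, ρ q = 1 → ∃ v ∈ V, q = v ∨ q = z * v)
    (r : X) (hr : ρ r = R) (hr4 : r ^ 4 ∈ V) : False := by
  obtain ⟨c, hcV', hc⟩ := hπ.surj vc
  have heq : ∀ {v w : X}, v ∈ V → w ∈ V → π v = π w → v = w := fun hv hw e =>
    inv_mul_eq_one.mp (mem_bot.mp (hπ.same hv hw e))
  set Zc := zpowers c
  have hmem : ∀ v ∈ V, (π v = 0 ∨ π v = vc) → v ∈ Zc := by
    rintro v hv (e | e)
    · rw [heq hv V.one_mem (e.trans hπ.one.symm)]; exact one_mem _
    · rw [heq hv hcV' (e.trans hc.symm)]; exact mem_zpowers c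
  have hcc : c * c = 1 := mem_bot.mp (hπ.sq hcV')
  obtain ⟨h, hh⟩ := hρ H
  obtain ⟨a, ha⟩ : ∃ a, a = r * r := ⟨_, rfl⟩
  obtain ⟨b, hb⟩ : ∃ b, b = h * a * h⁻¹ := ⟨_, rfl⟩
  obtain ⟨e, he⟩ : ∃ e, e = h * b * h⁻¹ := ⟨_, rfl⟩
  have hρa : ρ a = T := by rw [ha, map_mul, hr]; rfl
  have hρb : ρ b = S := by rw [hb, map_mul, map_mul, map_inv, hh, hρa]; rfl
  have hρe : ρ e = E := by rw [he, map_mul, map_mul, map_inv, hh, hρb]; rfl
  have hfixc : ∀ g, act (ρ g) vc = vc → g * c = c * g := fun g hg =>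
    mul_inv_eq_iff_eq_mul.mp (heq (hV.conj_mem c hcV' g) hcV' (by rw [hπ.equiv g c hcV', hc, hg]))
  have hh' : ∀ x ∈ Zc, h * x * h⁻¹ = x := by
    rintro _ ⟨k, rfl⟩
    rw [mul_inv_eq_iff_eq_mul]
    exact ((show Commute h c from hfixc h (by rw [hh, H_vc])).zpow_right k)
  have haa : a * a ∈ Zc := by
    have e4 : a * a = r ^ 4 := by rw [ha]; simp only [pow_succ, pow_zero, one_mul, mul_assoc]
    rw [e4]
    refine hmem _ hr4 (fix_R _ ?_)
    rw [← hr, ← hπ.equiv r _ hr4]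
    congr 1
    group
  have hbb : b * b ∈ Zc := by
    rw [hb, conj_mul, hh' _ haa]; exact haa
  have hee : e * e ∈ Zc := by
    rw [he, conj_mul, hh' _ hbb]; exact hbb
  have hVg : ∀ v ∈ V, ∀ g, (π v + act (ρ g) (π v) = 0 ∨ π v + act (ρ g) (π v) = vc) →
      v * (g * v * g⁻¹) ∈ Zc := by
    intro v hv g hg
    refine hmem _ (mul_mem hv (hV.conj_mem v hv g)) ?_
    rwa [hπ.add _ hv _ (hV.conj_mem v hv g), hπ.equiv g v hv]
  have hinv : ∀ v ∈ V, v⁻¹ = v := fun v hv => inv_eq_of_mul_eq_one_right (mem_bot.mp (hπ.sq hv))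
  have hva : ∀ v ∈ V, v * a * v⁻¹ * a⁻¹ ∈ Zc := fun v hv => by
    have := hVg v hv a (hρa ▸ norm_T _)
    rwa [hinv v hv, mul_assoc v a v, mul_assoc v]
  have hvb : ∀ v ∈ V, v * b * v⁻¹ * b⁻¹ ∈ Zc := fun v hv => by
    have := hVg v hv b (hρb ▸ norm_S _)
    rwa [hinv v hv, mul_assoc v b v, mul_assoc v]
  have hab : a * b * a⁻¹ * b⁻¹ ∈ Zc := by
    set q := e⁻¹ * (a * b) with hq
    have hq1 : ρ q = 1 := by rw [hq, map_mul, map_mul, map_inv, hρe, hρa, hρb, T_S, inv_mul_cancel]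
    have hsq : a * b * (a * b) ∈ Zc := by
      rw [show a * b = e * q by rw [hq, mul_inv_cancel_left]]
      rw [show e * q * (e * q) = e * e * ((e⁻¹ * q * e) * q) by group]
      refine mul_mem hee ?_
      obtain ⟨v, hv, hq' | hq'⟩ := hQ q hq1 <;> rw [hq']
      · have := hVg v hv e⁻¹ (by rw [map_inv, hρe]; exact norm_E_inv _)
        rw [inv_inv] at this
        rwa [show e⁻¹ * v * e * v = v * (e⁻¹ * v * e) from
          hcV _ (hVk (by simpa using hV.conj_mem v hv e⁻¹)) v hv]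
      · have := hVg v hv e⁻¹ (by rw [map_inv, hρe]; exact norm_E_inv _)
        rw [inv_inv] at this
        have hz' : Commute z (e⁻¹ * v * e) := (hzc _).symm
        rw [show e⁻¹ * (z * v) * e = z * (e⁻¹ * v * e) by rw [← mul_assoc, hzc e⁻¹]; group,
          hz'.symm.mul_mul_mul_comm z v, hzz, one_mul,
          show e⁻¹ * v * e * v = v * (e⁻¹ * v * e) from
            hcV _ (hVk (by simpa using hV.conj_mem v hv e⁻¹)) v hv]
        exact this
    have haab : Commute (a * a)⁻¹ b⁻¹ := by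
      obtain ⟨k, hk⟩ := mem_zpowers_iff.mp haa
      rw [← hk]
      exact (((show Commute b c from hfixc b (by rw [hρb]; decide +kernel)).symm.zpow_left k).inv_left).inv_right
    rw [show a * b * a⁻¹ * b⁻¹ = a * b * (a * b) * (b⁻¹ * (a * a)⁻¹ * b⁻¹) by group,
      ← haab.eq, mul_assoc ((a * a)⁻¹), ← mul_inv_rev b b]
    exact mul_mem hsq (mul_mem (inv_mem haa) (inv_mem hbb))
  let S' : Set X := (V : Set X) ∪ {z, a, b}
  set K := closure S'
  have hVK : V ≤ K := fun v hv => subset_closure (Or.inl hv)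
  have hkK : ρ.ker ≤ K := fun q hq => by
    obtain ⟨v, hv, rfl | rfl⟩ := hQ q hq
    · exact hVK hv
    · exact mul_mem (subset_closure (Or.inr (by simp))) (hVK hv)
  refine rank_contra hrank S' Zc (zpowers_le.mpr (hVK hcV')) ?_ ?_ ?_ ?_
  · intro x hx t ht
    obtain ⟨k, rfl⟩ := mem_zpowers_iff.mp hx
    refine ((show Commute t c from ?_).zpow_right k).symm.eq
    rcases ht with ht | rfl | rfl | rfl
    · exact hcV t (hVk ht) c hcV'
    · exact (hzc c).symm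
    · exact hfixc _ (by rw [hρa]; decide +kernel)
    · exact hfixc _ (by rw [hρb]; decide +kernel)
  · rintro x (hx | rfl | rfl | rfl)
    · rw [mem_bot.mp (hπ.sq hx)]; exact one_mem _
    · rw [hzz]; exact one_mem _
    · exact haa
    · exact hbb
  · have hzero : ∀ x, x * z * x⁻¹ * z⁻¹ ∈ Zc := fun x => by
      rw [hzc, mul_inv_cancel_right, mul_inv_cancel]; exact one_mem _
    have hsymm : ∀ x y, x * y * x⁻¹ * y⁻¹ ∈ Zc → y * x * y⁻¹ * x⁻¹ ∈ Zc := fun x y hxy => by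
      rw [show y * x * y⁻¹ * x⁻¹ = (x * y * x⁻¹ * y⁻¹)⁻¹ by group]; exact inv_mem hxy
    have hself : ∀ x, x * x * x⁻¹ * x⁻¹ ∈ Zc := fun x => by simp
    rintro x (hx | rfl | rfl | rfl) y (hy | rfl | rfl | rfl) <;>
      first
        | exact hzero _
        | exact hsymm _ _ (hzero _)
        | exact hself _
        | exact hab
        | exact hsymm _ _ hab
        | exact hva _ hx
        | exact hvb _ hx
        | exact hsymm _ _ (hva _ hy)
        | exact hsymm _ _ (hvb _ hy)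
        | (rw [hcV x (hVk hx) y hy, mul_inv_cancel_right, mul_inv_cancel]; exact one_mem _)
  · have hZ : Nat.card Zc ≤ 2 := by
      rw [Nat.card_zpowers]
      exact Nat.le_of_dvd two_pos (orderOf_dvd_of_pow_eq_one (by rw [pow_two]; exact hcc))
    have hV8 : Nat.card V = 8 := by rw [hπ.card, card_bot]
    have hker : 16 ≤ Nat.card ρ.ker := by
      obtain ⟨k, hk⟩ := card_dvd_of_le hVk
      rcases Nat.lt_or_ge k 2 with h2 | h2
      · exfalso
        have he : V = ρ.ker := eq_of_le_of_card_ge hVk (by rw [hk]; exact Nat.mul_le_of_le_div _ _ _ (by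
          rw [Nat.div_self Nat.card_pos]; omega) |>.trans_eq' (mul_comm _ _))
        exact hzV (he ▸ hzk)
      · rw [hk, hV8]; omega
    show 16 * _ < Nat.card K
    have h4 := card_mul_four K ρ.ker hkK le_rfl ⟨a, subset_closure (Or.inr (by simp)), hρa⟩
      ⟨b, subset_closure (Or.inr (by simp)), hρb⟩
    omega

/-- a twisted double cover on a module with a fixed point -/
theorem kill_twist {ρ : X →* G3} (hρ : Function.Surjective ρ)
    (U : Subgroup X) [hU : U.Normal] (n : X) (hn1 : n ≠ 1)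
    {π : X → V3} (hπ : Coord ρ U (zpowers n) π) (hUk : U ≤ ρ.ker)
    (hsq : ∀ v ∈ U, v * v = 1) (hcU : ∀ q, ρ q = 1 → ∀ v ∈ U, q * v = v * q)
    (z : X) (hzc : ∀ g, g * z = z * g) (hzn : z * z = n)
    (hQ : ∀ q, ρ q = 1 → ∃ v ∈ U, q = v ∨ q = z * v)
    (r : X) (hr : ρ r = R) (e : X) (he : e ∈ U) (hr4 : r ^ 4 = z * e) : False := by
  have hnc : ∀ g, g * n = n * g := fun g => by
    rw [← hzn]; exact ((show Commute g z from hzc g).mul_right (hzc g)).eq
  have hnn : n * n = 1 := hsq n (hπ.le (mem_zpowers n))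
  have hncP : ∀ g, ∀ x ∈ zpowers n, g * x * g⁻¹ = x := by
    rintro g _ ⟨k, rfl⟩
    rw [mul_inv_eq_iff_eq_mul]
    exact (show Commute g n from hnc g).zpow_right k
  have hnsq : ∀ x ∈ zpowers n, x * x = 1 := fun x hx => hsq x (hπ.le hx)
  have hcomm : ∀ v ∈ U, ∀ w ∈ U, v * w = w * v := fun v hv w hw => hcU v (hUk hv) w hw
  -- the norm of `r`
  let N : X → X := fun v => (r ^ 3 * v * (r ^ 3)⁻¹) * (r ^ 2 * v * (r ^ 2)⁻¹) * (r * v * r⁻¹) * v
  have hker4 : ρ (r ^ 4) = 1 := by rw [map_pow, hr, R_four]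
  have hN : ∀ v ∈ U, π v 0 = 0 → N v = 1 := by
    intro v hv hv0
    obtain ⟨w, hw⟩ := coord_zero _ hv0
    obtain ⟨u, hu, rfl⟩ := hπ.surj w
    have h1 : π (u * (r * u * r⁻¹)) = π v := by
      rw [hπ.add _ hu _ (hU.conj_mem u hu r), hπ.equiv r u hu, hr, hw]
    have hm := hπ.same (mul_mem hu (hU.conj_mem u hu r)) hv h1
    set m := (u * (r * u * r⁻¹))⁻¹ * v
    have hv' : v = u * (r * u * r⁻¹) * m := (mul_inv_cancel_left _ _).symm
    letI : CommGroup U := { (inferInstance : Group U) with mul_comm := fun x y => Subtype.ext (hcomm x x.2 y y.2) }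
    let c : X → U →* U := fun g => (MulAut.conjNormal g : MulAut U).toMonoidHom
    have hc : ∀ g (x : U), (c g x : X) = g * x * g⁻¹ := fun g x => rfl
    have key : ∀ x y : U, x * x = 1 → y * y = 1 → ∀ z : U, z * z = 1 → ∀ w : U, w * w = 1 → ∀ p : U, p * p = 1 →
        (p * w * y) * (z * w * y) * (z * x * y) * (p * x * y) = 1 := by
      intro x y hx hy z hz w hw p hp
      calc (p * w * y) * (z * w * y) * (z * x * y) * (p * x * y)
          = (p * p) * (w * w) * (z * z) * (x * x) * ((y * y) * (y * y)) := by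
            simp only [mul_comm, mul_left_comm, mul_assoc]
        _ = 1 := by rw [hp, hw, hz, hx, hy]; simp
    have hsqU : ∀ x : U, x * x = 1 := fun x => Subtype.ext (hsq x x.2)
    have h4 : r ^ 4 * u * (r ^ 4)⁻¹ = u := by rw [hcU _ hker4 u hu, mul_inv_cancel_right]
    have := congrArg Subtype.val (key (c r ⟨u, hu⟩) ⟨m, hπ.le hm⟩ (hsqU _) (hsqU _) (c (r ^ 2) ⟨u, hu⟩)
      (hsqU _) (c (r ^ 3) ⟨u, hu⟩) (hsqU _) ⟨u, hu⟩ (hsqU _))
    simp only [Subgroup.coe_mul, Subgroup.coe_one, hc] at this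
    show (r ^ 3 * v * (r ^ 3)⁻¹) * (r ^ 2 * v * (r ^ 2)⁻¹) * (r * v * r⁻¹) * v = 1
    have hmf : ∀ g, g * m * g⁻¹ = m := fun g => hncP g m hm
    rw [hv']
    have hsplit : ∀ g, g * (u * (r * u * r⁻¹) * m) * g⁻¹ = g * u * g⁻¹ * (g * (r * u * r⁻¹) * g⁻¹) * m := by
      intro g
      calc g * (u * (r * u * r⁻¹) * m) * g⁻¹
          = g * u * g⁻¹ * (g * (r * u * r⁻¹) * g⁻¹) * (g * m * g⁻¹) := by group
        _ = _ := by rw [hmf]
    rw [hsplit, hsplit, hsplit]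
    rw [show r ^ 3 * (r * u * r⁻¹) * (r ^ 3)⁻¹ = r ^ 4 * u * (r ^ 4)⁻¹ by group, h4,
      show r ^ 2 * (r * u * r⁻¹) * (r ^ 2)⁻¹ = r ^ 3 * u * (r ^ 3)⁻¹ by group,
      show r * (r * u * r⁻¹) * r⁻¹ = r ^ 2 * u * (r ^ 2)⁻¹ by rw [pow_two]; group,
      hcomm _ (hU.conj_mem u hu (r ^ 3)) u hu,
      hcomm (r * u * r⁻¹) (hU.conj_mem u hu r) _ (hU.conj_mem u hu (r ^ 2))]
    exact this
  obtain ⟨h, hh⟩ := hρ H
  obtain ⟨K, hK, hKc⟩ := exists_K
  obtain ⟨k, hk⟩ := hρ K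
  set u := h * r * h⁻¹ with hu
  have hρu : ρ u = L32.U := by rw [hu, map_mul, map_mul, map_inv, hh, hr]; rfl
  set s := u * u with hs
  have hρs : ρ s = S := by rw [hs, map_mul, hρu, U_sq]
  have hre : r * e * r⁻¹ = e := by
    have h1 : r * (r ^ 4) * r⁻¹ = r ^ 4 := by group
    rw [hr4, ← mul_assoc, hzc r, show z * r * e * r⁻¹ = z * (r * e * r⁻¹) by group] at h1
    exact mul_left_cancel h1
  have hπe : π e = 0 ∨ π e = vc := fix_R _ (by rw [← hr, ← hπ.equiv r e he, hre])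
  have hse : s * e * s⁻¹ = e := by
    have h1 : e⁻¹ * (u * e * u⁻¹) ∈ zpowers n := hπ.same he (hU.conj_mem e he u) (by
      rw [hπ.equiv u e he, hρu]
      rcases hπe with h0 | h0 <;> rw [h0]
      · rw [act_zero]
      · rw [U_vc])
    set d := e⁻¹ * (u * e * u⁻¹)
    have hue : u * e * u⁻¹ = e * d := (mul_inv_cancel_left _ _).symm
    rw [hs, mul_inv_rev, show u * u * e * (u⁻¹ * u⁻¹) = u * (u * e * u⁻¹) * u⁻¹ by group, hue,
      ← conj_mul, hue, hncP u d h1, mul_assoc, hnsq d h1, mul_one]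
  have hss : s * s = z * (h * e * h⁻¹) := by
    rw [hs, hu, show h * r * h⁻¹ * (h * r * h⁻¹) * (h * r * h⁻¹ * (h * r * h⁻¹)) = h * r ^ 4 * h⁻¹ by
      simp only [conj_mul, pow_succ, pow_zero, one_mul, mul_assoc, inv_mul_cancel_left], hr4, ← mul_assoc, hzc h]
    group
  obtain ⟨kk, hkk⟩ : ∃ kk, kk = k * (r * r) * k⁻¹ := ⟨_, rfl⟩
  set q := kk⁻¹ * (r * s) with hq
  have hρkk : ρ kk = R * S := by
    rw [hkk, map_mul, map_mul, map_mul, map_inv, hk, hr, ← hK]; rfl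
  have hq1 : ρ q = 1 := by rw [hq, map_mul, map_inv, hρkk, map_mul, hr, hρs, inv_mul_cancel]
  obtain ⟨v, hv, hqv⟩ := hQ q hq1
  have hkk2 : kk * kk = z * (k * e * k⁻¹) := by
    rw [hkk, conj_mul, show r * r * (r * r) = r ^ 4 by simp only [pow_succ, pow_zero, one_mul, mul_assoc],
      hr4, ← mul_assoc, hzc k]
    group
  obtain ⟨m, hm, hrs⟩ : ∃ m ∈ zpowers n, r * s * (r * s) = z * ((k * e * k⁻¹) * (m * (kk⁻¹ * v * kk * v))) := by
    rw [show r * s = kk * q from (mul_inv_cancel_left _ _).symm,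
      show kk * q * (kk * q) = kk * kk * ((kk⁻¹ * q * kk) * q) by group, hkk2]
    rcases hqv with h1 | h1 <;> rw [h1]
    · exact ⟨1, one_mem _, by group⟩
    · refine ⟨n, mem_zpowers n, ?_⟩
      have hz' : Commute z (kk⁻¹ * v * kk) := (hzc _).symm
      rw [show kk⁻¹ * (z * v) * kk = z * (kk⁻¹ * v * kk) by rw [← mul_assoc, hzc kk⁻¹]; group,
        hz'.symm.mul_mul_mul_comm z v, hzn]
      group
  set c := r * s * r * s⁻¹ with hc
  have hceq : c = (k * e * k⁻¹) * (m * (kk⁻¹ * v * kk * v)) * (h * e * h⁻¹)⁻¹ := by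
    have hz1 : ∀ A B : X, z * A * (B * z⁻¹) = A * B := fun A B => by
      rw [← mul_assoc, mul_assoc z A, ← hzc (A * B), mul_inv_cancel_right]
    rw [hc, show r * s * r * s⁻¹ = r * s * (r * s) * (s * s)⁻¹ by group, hrs, hss, mul_inv_rev, hz1]
  have hkv : kk⁻¹ * v * kk ∈ U := by simpa using hU.conj_mem v hv kk⁻¹
  have hA := hU.conj_mem e he k
  have hB := inv_mem (hU.conj_mem e he h)
  have hC : m * (kk⁻¹ * v * kk * v) ∈ U := mul_mem (hπ.le hm) (mul_mem hkv hv)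
  have hcU' : c ∈ U := hceq ▸ mul_mem (mul_mem hA hC) hB
  have hc0 : π c 0 = 0 := by
    rw [hceq, hπ.add _ (mul_mem hA hC) _ hB, hπ.add _ hA _ hC, hπ.add _ (hπ.le hm) _ (mul_mem hkv hv),
      hπ.add _ hkv _ hv, (hπ.zero m (hπ.le hm)).mpr hm, zero_add, hπ.inv (hU.conj_mem e he h),
      hπ.equiv k e he, hπ.equiv h e he]
    have h1 : π (kk⁻¹ * v * kk) = act (ρ kk⁻¹) (π v) := by
      have := hπ.equiv kk⁻¹ v hv; rwa [inv_inv] at this
    rw [h1, map_inv, hρkk, Pi.add_apply, Pi.add_apply, coord_RS_inv, add_zero, hk, hh]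
    rcases hπe with h0 | h0 <;> rw [h0]
    · simp [act_zero]
    · rw [H_vc, hKc, vc_coord, add_zero]
  have hNc := hN c hcU' hc0
  have hlhs : (r⁻¹ * c) ^ 4 = z * e := by
    rw [show r⁻¹ * c = s * r * s⁻¹ by rw [hc]; group, conj_pow, hr4, ← mul_assoc, hzc s,
      show z * s * e * s⁻¹ = z * (s * e * s⁻¹) by group, hse]
  have hrhs : (r⁻¹ * c) ^ 4 = (r ^ 4)⁻¹ * N c := by
    show _ = (r ^ 4)⁻¹ * ((r ^ 3 * c * (r ^ 3)⁻¹) * (r ^ 2 * c * (r ^ 2)⁻¹) * (r * c * r⁻¹) * c)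
    simp only [pow_succ, pow_zero, one_mul, mul_inv_rev, mul_assoc, inv_mul_cancel_left]
  rw [hrhs, hNc, mul_one, hr4] at hlhs
  refine hn1 ?_
  have h2 : z * e * (z * e) = 1 := by
    have := mul_inv_cancel (z * e)
    rwa [hlhs] at this
  rwa [(show Commute z e from (hzc e).symm).symm.mul_mul_mul_comm, hzn, hsq e he, mul_one] at h2

end Cfsg.Agent.H34.L32
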