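import Cfsg.Agent.H34.L32.Kill

/-! A natural homocyclic radical of type `(4,4,4)` is impossible. -/

set_option autoImplicit false

namespace Cfsg.Agent.H34.L32

open Subgroup
open scoped Matrix

universe u

/-- companion matrix over `ℤ/4` -/
def F4 (b g : ZMod 4) : Matrix (Fin 3) (Fin 3) (ZMod 4) := !![0, 0, 1; 1, 0, b; 0, 1, g]

/-- reduction of coordinates -/
def red (v : Fin 3 → ZMod 4) : V3 :=
  ![((v 0).val : ZMod 2) + (v 1).val + (v 2).val, ((v 1).val : ZMod 2), ((v 2).val : ZMod 2)]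

theorem unit_four : ∀ u : ZMod 4, ∀ w, u * w = 1 → (u : ZMod 4) = 1 ∨ u = 3 := by decide +kernel

theorem red_R3 : act (R * R * R) ![1, 0, 0] = ![1, 1, 1] := by decide +kernel

theorem parity : ∀ a b g : ZMod 4, red ![a, b, g] = ![1, 1, 1] →
    (b = 1 ∨ b = 3) ∧ (g = 1 ∨ g = 3) := by decide +kernel

set_option synthInstance.maxSize 2000 in
theorem four_facts : ∀ b g : ZMod 4, (b = 1 ∨ b = 3) → (g = 1 ∨ g = 3) →
    (F4 b g * F4 b g) * (F4 b g * F4 b g) = 1 →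
    (∀ v, F4 b g *ᵥ v = v → ∃ q, v = q + (F4 b g * F4 b g) *ᵥ q) ∧
    (∀ v, (red v = 0 ∨ red v = vc) →
      v - (F4 b g * F4 b g) *ᵥ v = 0 ∨ v - (F4 b g * F4 b g) *ᵥ v = ![2, 0, 2]) ∧
    (∃ v, red v = ve ∧
      (v + (F4 b g * F4 b g) *ᵥ v = 0 ∨ v + (F4 b g * F4 b g) *ᵥ v = ![2, 0, 2])) ∧
    (∃ v, F4 b g *ᵥ v = v ∧ red v = vc) := by decide +kernel

theorem red_vc : red ![1, 0, 1] = vc ∧ (![1, 0, 1] : Fin 3 → ZMod 4) + ![1, 0, 1] = ![2, 0, 2] := by
  decide +kernel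

variable {X : Type u} [Group X] [Finite X]

theorem pow_four_val {G : Type*} [Group G] {a : G} (ha : a ^ 4 = 1) (x y : ZMod 4) :
    a ^ (x + y).val = a ^ x.val * a ^ y.val := by
  rw [ZMod.val_add, ← pow_add]
  exact (pow_eq_pow_mod _ ha).symm

/-- facts on the action of a regular unipotent element on a homocyclic group -/
theorem z4_facts {ρ : X →* G3} (A : Subgroup X) [hA : A.Normal]
    (hcom : ∀ a ∈ A, ∀ b ∈ A, a * b = b * a) (h64 : Nat.card A = 64) {B : Subgroup X} {π : X → V3}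
    (hπ : Coord ρ A B π) (hB : ∀ a ∈ A, (a * a = 1 ↔ a ∈ B))
    (hQ : ∀ q, ρ q = 1 → ∀ a ∈ A, q * a = a * q)
    (hperf : ∀ f : X →* (ZMod 4)ˣ, ρ.ker ≤ f.ker → f = 1) (r : X) (hr : ρ r = R) :
    ∃ ζ ∈ A, ζ * ζ = 1 ∧ (∀ c ∈ A, π c = vc → c * c = ζ) ∧
      (∀ v ∈ A, r * v * r⁻¹ = v → ∃ q ∈ A, v = q * (r * r * q * (r * r)⁻¹)) ∧
      (∀ v ∈ A, (π v = 0 ∨ π v = vc) → v * (r * r * v⁻¹ * (r * r)⁻¹) ∈ zpowers ζ) ∧
      (∃ x ∈ A, π x = ve ∧ x * (r * r * x * (r * r)⁻¹) ∈ zpowers ζ) ∧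
      (∃ c ∈ A, π c = vc ∧ r * c * r⁻¹ = c) := by
  classical
  letI : CommGroup A :=
    { (inferInstance : Group A) with mul_comm := fun a b => Subtype.ext (hcom a a.2 b b.2) }
  have hsq2 : ∀ a : A, (a * a) * (a * a) = 1 := fun a =>
    Subtype.ext ((hB _ (mul_mem a.2 a.2)).mpr (hπ.sq a.2))
  have h4 : ∀ a : A, a ^ 4 = 1 := fun a => by
    rw [show a ^ 4 = (a * a) * (a * a) by simp only [pow_succ, pow_zero, one_mul, mul_assoc]]
    exact hsq2 a
  let cj : X → MulAut A := fun g => MulAut.conjNormal g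
  have hcj : ∀ g (x : A), (cj g x : X) = g * x * g⁻¹ := fun g x => rfl
  obtain ⟨a0, ha0, hπ0⟩ := hπ.surj ![1, 0, 0]
  set a : A := ⟨a0, ha0⟩
  set b := cj r a
  set c := cj r b
  let Ev : (Fin 3 → ZMod 4) →+ Additive A :=
    { toFun := fun v => Additive.ofMul (a ^ (v 0).val * b ^ (v 1).val * c ^ (v 2).val)
      map_zero' := by simp
      map_add' := fun v w => by
        rw [← ofMul_mul, Pi.add_apply, Pi.add_apply, Pi.add_apply, pow_four_val (h4 a), pow_four_val (h4 b),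
          pow_four_val (h4 c)]
        congr 1
        exact ((mul_mul_mul_comm _ _ _ _).trans (congrArg (fun z : A => z * (c ^ (v 2).val * c ^ (w 2).val)) (mul_mul_mul_comm _ _ _ _))).symm }
  let toX : Additive A → X := fun y => ((Additive.toMul y : A) : X)
  have hπE : ∀ v, π (toX (Ev v)) = red v := by
    intro v
    show π ((a ^ (v 0).val * b ^ (v 1).val * c ^ (v 2).val : A) : X) = _
    have hb : π (b : X) = act R ![1, 0, 0] := by rw [hcj, hπ.equiv r _ ha0, hr, hπ0]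
    have hc : π (c : X) = act R (act R ![1, 0, 0]) := by rw [hcj, hπ.equiv r _ b.2, hr, hb]
    rw [Subgroup.coe_mul, Subgroup.coe_mul, hπ.add _ (mul_mem (a ^ _).2 (b ^ _).2) _ (c ^ _).2,
      hπ.add _ (a ^ _).2 _ (b ^ _).2, SubgroupClass.coe_pow, SubgroupClass.coe_pow, SubgroupClass.coe_pow,
      hπ.pow a.2, hπ.pow b.2, hπ.pow c.2, hb, hc, show (a : X) = a0 from rfl, hπ0,
      show act R ![1, 0, 0] = ![1, 1, 0] by decide +kernel, show act R ![1, 1, 0] = ![1, 0, 1] by decide +kernel]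
    funext i
    fin_cases i <;> simp [red]
  have h8 : Nat.card B = 8 := by
    have := hπ.card
    omega
  let sq : A →* A := powMonoidHom 2
  have hsker : sq.ker = B.subgroupOf A := by
    ext x
    rw [MonoidHom.mem_ker, mem_subgroupOf, ← hB x x.2]
    show x ^ 2 = 1 ↔ _
    rw [pow_two, Subtype.ext_iff]
    rfl
  have hsrange : sq.range = B.subgroupOf A := by
    refine eq_of_le_of_card_ge ?_ ?_
    · rintro _ ⟨x, rfl⟩
      rw [mem_subgroupOf]
      show ((x ^ 2 : A) : X) ∈ B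
      rw [SubgroupClass.coe_pow, pow_two]
      exact hπ.sq x.2
    · have h := sq.ker.card_mul_index
      rw [index_ker, hsker, Nat.card_congr (subgroupOfEquivOfLe hπ.le).toEquiv, h8, h64] at h
      rw [Nat.card_congr (subgroupOfEquivOfLe hπ.le).toEquiv, h8]
      omega
  have hsur : Function.Surjective Ev := by
    intro y
    have lift : ∀ w : V3, ∃ v, red v = w := by decide +kernel
    obtain ⟨v, hv⟩ := lift (π (toX y))
    set x : A := Additive.toMul (Ev v) with hx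
    have hrem : x⁻¹ * Additive.toMul y ∈ B.subgroupOf A := by
      rw [mem_subgroupOf]
      exact hπ.same x.2 (Additive.toMul y).2 ((hπE v).trans hv)
    obtain ⟨w, hw⟩ := (hsrange.ge hrem)
    obtain ⟨v', hv'⟩ := lift (π w)
    set x' : A := Additive.toMul (Ev v') with hx'
    have hk : x'⁻¹ * w ∈ sq.ker := by
      rw [hsker, mem_subgroupOf]
      exact hπ.same x'.2 w.2 ((hπE v').trans hv')
    have hwx : sq w = sq x' := by
      rw [MonoidHom.mem_ker, map_mul, map_inv, inv_mul_eq_one] at hk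
      exact hk.symm
    refine ⟨v + (v' + v'), ?_⟩
    rw [map_add, map_add]
    apply Additive.toMul.injective
    rw [toMul_add, toMul_add, ← hx, ← hx', ← pow_two, show x' ^ 2 = sq x' from rfl, ← hwx, hw,
      mul_inv_cancel_left]
  have hbij : Function.Bijective Ev := (Nat.bijective_iff_surjective_and_card _).mpr ⟨hsur, by
    rw [show Nat.card (Additive A) = Nat.card A from rfl, h64, Nat.card_eq_fintype_card]; rfl⟩
  let e : (Fin 3 → ZMod 4) ≃+ Additive A := AddEquiv.ofBijective Ev hbij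
  let lin : X → ((Fin 3 → ZMod 4) →ₗ[ZMod 4] (Fin 3 → ZMod 4)) := fun g =>
    ((e.symm.toAddMonoidHom.comp (MonoidHom.toAdditive (cj g).toMonoidHom)).comp
      e.toAddMonoidHom).toZModLinearMap 4
  have hlin : ∀ g v, lin g v = e.symm (Additive.ofMul (cj g (Additive.toMul (e v)))) := fun g v => rfl
  let Mg : X →* Matrix (Fin 3) (Fin 3) (ZMod 4) :=
    { toFun := fun g => LinearMap.toMatrix' (lin g)
      map_one' := by
        rw [← LinearMap.toMatrix'_id]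
        congr 1
        refine LinearMap.ext fun v => ?_
        rw [hlin]
        show e.symm (Additive.ofMul (MulAut.conjNormal (1 : X) (Additive.toMul (e v)))) = v
        rw [map_one]
        exact e.symm_apply_apply v
      map_mul' := fun g k => by
        rw [← LinearMap.toMatrix'_comp]
        congr 1
        refine LinearMap.ext fun v => ?_
        rw [LinearMap.comp_apply, hlin, hlin, hlin, e.apply_symm_apply]
        show e.symm (Additive.ofMul (MulAut.conjNormal (g * k) _)) = _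
        rw [map_mul]
        rfl }
  have hM : ∀ g v, toX (Ev (Mg g *ᵥ v)) = g * toX (Ev v) * g⁻¹ := by
    intro g v
    show toX (e (LinearMap.toMatrix' (lin g) *ᵥ v)) = _
    rw [LinearMap.toMatrix'_mulVec, hlin, e.apply_symm_apply]
    rfl
  have hM1 : ∀ g, ρ g = 1 → Mg g = 1 := fun g hg => Matrix.ext_of_mulVec_single fun i => by
    refine hbij.1 (Additive.toMul.injective (Subtype.ext ?_))
    show toX (Ev (Mg g *ᵥ _)) = toX (Ev (1 *ᵥ _))
    rw [hM, Matrix.one_mulVec, hQ g hg _ (Additive.toMul (Ev _)).2, mul_inv_cancel_right]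
  have hdet : (Mg r).det = 1 := by
    have h := congrArg (fun f : X →* (ZMod 4)ˣ => (f r : ZMod 4))
      (hperf ((Units.map Matrix.detMonoidHom).comp Mg.toHomUnits) fun q hq => by
        rw [MonoidHom.mem_ker]
        refine Units.ext ?_
        show (Mg q).det = 1
        rw [hM1 q hq, Matrix.det_one])
    exact h
  have hcolX : ∀ v w, toX (Ev w) = r * toX (Ev v) * r⁻¹ → Mg r *ᵥ v = w := fun v w h => by
    refine hbij.1 (Additive.toMul.injective (Subtype.ext ?_))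
    exact (hM r v).trans h.symm
  have hc0 : Mg r *ᵥ ![1, 0, 0] = ![0, 1, 0] := hcolX _ _ (by
    show ((a ^ (0 : ZMod 4).val * b ^ (1 : ZMod 4).val * c ^ (0 : ZMod 4).val : A) : X) =
      r * ((a ^ (1 : ZMod 4).val * b ^ (0 : ZMod 4).val * c ^ (0 : ZMod 4).val : A) : X) * r⁻¹
    simp [hcj, b, ZMod.val_zero, show (1 : ZMod 4).val = 1 from rfl])
  have hc1 : Mg r *ᵥ ![0, 1, 0] = ![0, 0, 1] := hcolX _ _ (by
    show ((a ^ (0 : ZMod 4).val * b ^ (0 : ZMod 4).val * c ^ (1 : ZMod 4).val : A) : X) =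
      r * ((a ^ (0 : ZMod 4).val * b ^ (1 : ZMod 4).val * c ^ (0 : ZMod 4).val : A) : X) * r⁻¹
    simp [hcj, c, ZMod.val_zero, show (1 : ZMod 4).val = 1 from rfl])
  set w := Mg r *ᵥ ![0, 0, 1] with hw
  have hMeq : Mg r = !![0, 0, w 0; 1, 0, w 1; 0, 1, w 2] := by
    have hcolM : ∀ i j, Mg r i j = (Mg r *ᵥ Pi.single j 1) i := fun i j => by rw [Matrix.mulVec_single_one]; rfl
    have e0 : (Pi.single 0 1 : Fin 3 → ZMod 4) = ![1, 0, 0] := by decide +kernel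
    have e1 : (Pi.single 1 1 : Fin 3 → ZMod 4) = ![0, 1, 0] := by decide +kernel
    have e2 : (Pi.single 2 1 : Fin 3 → ZMod 4) = ![0, 0, 1] := by decide +kernel
    ext i j
    rw [hcolM]
    fin_cases j
    · show (Mg r *ᵥ Pi.single 0 1) i = _
      rw [e0, hc0]; fin_cases i <;> rfl
    · show (Mg r *ᵥ Pi.single 1 1) i = _
      rw [e1, hc1]; fin_cases i <;> rfl
    · show (Mg r *ᵥ Pi.single 2 1) i = _
      rw [e2, ← hw]; fin_cases i <;> rfl
  have hw0 : w 0 = 1 := by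
    rw [hMeq, Matrix.det_fin_three] at hdet
    simpa using hdet
  have hred : red w = ![1, 1, 1] := by
    rw [← hπE w, hw, hM r ![0, 0, 1], hπ.equiv r _ (Additive.toMul (Ev _)).2, hr, hπE]
    decide +kernel
  obtain ⟨hb', hg'⟩ := parity (w 0) (w 1) (w 2) (by
    rw [show (![w 0, w 1, w 2] : Fin 3 → ZMod 4) = w by funext i; fin_cases i <;> rfl]; exact hred)
  have hF : Mg r = F4 (w 1) (w 2) := by rw [hMeq, hw0]; rfl
  have hF4 : F4 (w 1) (w 2) * F4 (w 1) (w 2) * (F4 (w 1) (w 2) * F4 (w 1) (w 2)) = 1 := by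
    rw [← hF, ← map_mul, ← map_mul]
    refine hM1 _ ?_
    rw [show r * r * (r * r) = r ^ 4 by simp only [pow_succ, pow_zero, one_mul, mul_assoc], map_pow, hr, R_four]
  obtain ⟨fa, fb, ⟨xv, hxv, hxv'⟩, ⟨cv, hcv, hcv'⟩⟩ := four_facts _ _ hb' hg' hF4
  have hvmem : ∀ v, toX (Ev v) ∈ A := fun v => (Additive.toMul (Ev v)).2
  have hadd : ∀ v u, toX (Ev (v + u)) = toX (Ev v) * toX (Ev u) := fun v u => by rw [map_add]; rfl
  have hneg : ∀ v, toX (Ev (-v)) = (toX (Ev v))⁻¹ := fun v => by rw [map_neg]; rfl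
  have hsub : ∀ v u, toX (Ev (v - u)) = toX (Ev v) * (toX (Ev u))⁻¹ := fun v u => by
    rw [sub_eq_add_neg, hadd, hneg]
  have hzero : toX (Ev 0) = 1 := by rw [map_zero]; rfl
  have hpre : ∀ x ∈ A, ∃ v, toX (Ev v) = x := fun x hx => by
    obtain ⟨v, hv⟩ := hsur (Additive.ofMul ⟨x, hx⟩)
    exact ⟨v, by rw [hv]; rfl⟩
  have hT : ∀ v, toX (Ev ((F4 (w 1) (w 2) * F4 (w 1) (w 2)) *ᵥ v)) = r * r * toX (Ev v) * (r * r)⁻¹ := fun v => by
    rw [← hF, ← map_mul, hM]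
  set ζ := toX (Ev ![2, 0, 2]) with hζ
  have hmemζ : ∀ u, (u = 0 ∨ u = ![2, 0, 2]) → toX (Ev u) ∈ zpowers ζ := by
    rintro u (rfl | rfl)
    · rw [hzero]; exact one_mem _
    · exact mem_zpowers _
  refine ⟨ζ, hvmem _, ?_, ?_, ?_, ?_, ⟨toX (Ev xv), hvmem _, (hπE xv).trans hxv, ?_⟩,
    ⟨toX (Ev cv), hvmem _, (hπE cv).trans hcv', ?_⟩⟩
  · rw [hζ, ← hadd, show (![2, 0, 2] : Fin 3 → ZMod 4) + ![2, 0, 2] = 0 by decide +kernel, hzero]
  · intro x hx hπx
    have hm : (toX (Ev ![1, 0, 1]))⁻¹ * x ∈ B := hπ.same (hvmem _) hx (by rw [hπE, red_vc.1, hπx])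
    have h2 := (hB _ (hπ.le hm)).mpr hm
    rw [hζ, ← red_vc.2, hadd]
    set y := toX (Ev ![1, 0, 1])
    have hy : y ∈ A := hvmem _
    calc x * x = (y * y) * ((y⁻¹ * x) * (y⁻¹ * x)) := by
          rw [(show Commute y (y⁻¹ * x) from hcom y hy _ (mul_mem (inv_mem hy) hx)).mul_mul_mul_comm,
            mul_inv_cancel_left]
      _ = y * y := by rw [h2, mul_one]
  · intro x hx hfix
    obtain ⟨v, rfl⟩ := hpre x hx
    obtain ⟨q, hq⟩ := fa v (by rw [← hF]; exact hcolX _ _ hfix.symm)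
    exact ⟨toX (Ev q), hvmem _, by rw [← hT, ← hadd, ← hq]⟩
  · intro x hx hπx
    obtain ⟨v, rfl⟩ := hpre x hx
    rw [← conj_inv, ← hT, ← hsub]
    rw [hπE] at hπx
    exact hmemζ _ (fb v hπx)
  · rw [← hT, ← hadd]
    exact hmemζ _ hxv'
  · rw [← hM, hF, hcv]

theorem span_E : ∀ d : V3, ∃ i j : Bool,
    act E⁻¹ ((if i then ve else 0) + act T (if j then act H ve else 0)) + d = 0 ∨
    act E⁻¹ ((if i then ve else 0) + act T (if j then act H ve else 0)) + d = vc := by decide +kernel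

/-- Killer: natural `Z4³` -/
theorem kill_B {ρ : X →* G3} (hρ : Function.Surjective ρ) (hrank : Cfsg.SectionalPRankLE 2 4 X)
    (hperf : ∀ f : X →* (ZMod 4)ˣ, ρ.ker ≤ f.ker → f = 1)
    (hcom : ∀ a ∈ ρ.ker, ∀ b ∈ ρ.ker, a * b = b * a) (h64 : Nat.card ρ.ker = 64)
    {B : Subgroup X} {π : X → V3} (hπ : Coord ρ ρ.ker B π)
    (hB : ∀ a ∈ ρ.ker, (a * a = 1 ↔ a ∈ B)) : False := by
  classical
  set A := ρ.ker with hA
  obtain ⟨r, hr⟩ := hρ R
  obtain ⟨ζ, hζA, hζζ, hsqvc, hfix, hU, ⟨x, hx, hπx, hxx⟩, -⟩ :=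
    z4_facts A hcom h64 hπ hB (fun q hq a ha => hcom q hq a ha) hperf r hr
  have hnA : ∀ {g v : X}, v ∈ A → g * v * g⁻¹ ∈ A := fun {g v} hv => (MonoidHom.normal_ker ρ).conj_mem v hv g
  have hnA' : ∀ {g v : X}, v ∈ A → g⁻¹ * v * g ∈ A := fun {g v} hv => by simpa using hnA (g := g⁻¹) hv
  obtain ⟨h, hh⟩ := hρ H
  set Zc := zpowers ζ
  obtain ⟨c, hc, hπc⟩ := hπ.surj vc
  have hcc : c * c = ζ := hsqvc c hc hπc
  have hhζ : ∀ g, act (ρ g) vc = vc → g * ζ = ζ * g := fun g hg => by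
    refine mul_inv_eq_iff_eq_mul.mp ?_
    rw [← hcc, ← conj_mul, hcc]
    exact hsqvc _ (hnA hc) (by rw [hπ.equiv g c hc, hπc, hg])
  have hhZ : ∀ g, act (ρ g) vc = vc → ∀ y ∈ Zc, g * y * g⁻¹ = y := by
    rintro g hg _ ⟨k, rfl⟩
    rw [mul_inv_eq_iff_eq_mul]
    exact (show Commute g ζ from hhζ g hg).zpow_right k
  have hT0 : ρ (r * r) = T := by rw [map_mul, hr]; rfl
  have hr4 : ρ (r ^ 4) = 1 := by rw [map_pow, hr, R_four]
  obtain ⟨q0, hq0, hq4⟩ := hfix (r ^ 4) hr4 (by group)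
  obtain ⟨a, ha⟩ : ∃ a, a = r * r * q0⁻¹ := ⟨_, rfl⟩
  have hρa : ρ a = T := by
    rw [ha, map_mul, map_inv, hT0, show ρ q0 = 1 from hq0, inv_one, mul_one]
  have haa : a * a = 1 := by
    have h1 : r * r * q0 * (r * r)⁻¹ * q0 = r ^ 4 := by rw [hq4]; exact hcom _ (hnA hq0) q0 hq0
    rw [ha, show r * r * q0⁻¹ * (r * r * q0⁻¹) = r * r * q0⁻¹ * (r * r)⁻¹ * (r * r * (r * r)) * q0⁻¹ by simp only [mul_assoc, mul_inv_rev, inv_mul_cancel_left],
      show r * r * (r * r) = r ^ 4 by simp only [pow_succ, pow_zero, one_mul, mul_assoc], ← h1]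
    group
  obtain ⟨b, hb⟩ : ∃ b, b = h * a * h⁻¹ := ⟨_, rfl⟩
  obtain ⟨e, he⟩ : ∃ e, e = h * b * h⁻¹ := ⟨_, rfl⟩
  have hρb : ρ b = S := by rw [hb, map_mul, map_mul, map_inv, hh, hρa]; rfl
  have hρe : ρ e = E := by rw [he, map_mul, map_mul, map_inv, hh, hρb]; rfl
  have hbb : b * b = 1 := by rw [hb, conj_mul, haa, mul_one, mul_inv_cancel]
  have hee : e * e = 1 := by rw [he, conj_mul, hbb, mul_one, mul_inv_cancel]
  let Good : X → Prop := fun g => ∀ v ∈ A, (π v = 0 ∨ π v = vc) → v * (g * v⁻¹ * g⁻¹) ∈ Zc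
  have hGa : Good a := by
    intro v hv hπv
    have := hU v hv hπv
    rw [ha, show v * (r * r * q0⁻¹ * v⁻¹ * (r * r * q0⁻¹)⁻¹) =
      v * (r * r * (q0⁻¹ * v⁻¹ * q0) * (r * r)⁻¹) by group,
      hcom _ (inv_mem hq0) _ (inv_mem hv), inv_mul_cancel_right]
    exact this
  have hGh : ∀ g, Good g → Good (h * g * h⁻¹) := by
    intro g hg v hv hπv
    have hm := hg (h⁻¹ * v * h) (hnA' hv) (by
      have e1 := hπ.equiv h⁻¹ v hv
      rw [inv_inv, map_inv, hh] at e1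
      rw [e1]
      rcases hπv with e2 | e2 <;> rw [e2]
      · exact Or.inl (act_zero _)
      · exact Or.inr (by have := act_inv_act H vc; rwa [H_vc] at this))
    have h' := hhZ h (by rw [hh, H_vc]) _ hm
    rw [← h'] at hm
    convert hm using 1
    group
  have hGb : Good b := hb ▸ hGh a hGa
  have hGe : Good e := he ▸ hGh b hGb
  have hxa : x * (a * x * a⁻¹) ∈ Zc := by
    rw [ha, show r * r * q0⁻¹ * x * (r * r * q0⁻¹)⁻¹ = r * r * (q0⁻¹ * x * q0) * (r * r)⁻¹ by group,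
      hcom _ (inv_mem hq0) x hx, inv_mul_cancel_right]
    exact hxx
  obtain ⟨y, hy⟩ : ∃ y, y = h * x * h⁻¹ := ⟨_, rfl⟩
  have hyA : y ∈ A := hy ▸ hnA hx
  have hπy : π y = act H ve := by rw [hy, hπ.equiv h x hx, hh, hπx]
  have hyb : y * (b * y * b⁻¹) ∈ Zc := by
    rw [hy, hb, show h * x * h⁻¹ * (h * a * h⁻¹ * (h * x * h⁻¹) * (h * a * h⁻¹)⁻¹) =
      h * (x * (a * x * a⁻¹)) * h⁻¹ by group, hhZ h (by rw [hh, H_vc]) _ hxa]
    exact hxa
  set δ := e⁻¹ * (a * b) with hδ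
  have hδA : δ ∈ A := by
    show ρ δ = 1
    rw [hδ, map_mul, map_mul, map_inv, hρe, hρa, hρb, T_S, inv_mul_cancel]
  obtain ⟨i, j, hij⟩ := span_E (π δ)
  let P : X := if i then x else 1
  let P' : X := if j then y else 1
  have hP : P ∈ A ∧ π P = (if i then ve else 0) ∧ (P * a) * (P * a) ∈ Zc := by
    cases i
    · refine ⟨one_mem _, hπ.one, ?_⟩
      show (1 * a) * (1 * a) ∈ Zc
      rw [one_mul, haa]; exact one_mem _
    · refine ⟨hx, hπx, ?_⟩
      show (x * a) * (x * a) ∈ Zc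
      rw [show x * a * (x * a) = x * (a * x * a⁻¹) * (a * a) by group, haa, mul_one]; exact hxa
  have hP' : P' ∈ A ∧ π P' = (if j then act H ve else 0) ∧ (P' * b) * (P' * b) ∈ Zc := by
    cases j
    · refine ⟨one_mem _, hπ.one, ?_⟩
      show (1 * b) * (1 * b) ∈ Zc
      rw [one_mul, hbb]; exact one_mem _
    · refine ⟨hyA, hπy, ?_⟩
      show (y * b) * (y * b) ∈ Zc
      rw [show y * b * (y * b) = y * (b * y * b⁻¹) * (b * b) by group, hbb, mul_one]; exact hyb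
  obtain ⟨a', ha'⟩ : ∃ a', a' = P * a := ⟨_, rfl⟩
  obtain ⟨b', hb'⟩ : ∃ b', b' = P' * b := ⟨_, rfl⟩
  set q := (e⁻¹ * (P * (a * P' * a⁻¹)) * e) * δ with hq
  have hab' : a' * b' = e * q := by rw [ha', hb', hq, hδ]; group
  have hPP : P * (a * P' * a⁻¹) ∈ A := mul_mem hP.1 (hnA hP'.1)
  have hqA : q ∈ A := mul_mem (hnA' hPP) hδA
  have hπq : π q = 0 ∨ π q = vc := by
    have e1 := hπ.equiv e⁻¹ _ hPP
    rw [inv_inv, map_inv, hρe, hπ.add _ hP.1 _ (hnA hP'.1), hπ.equiv a _ hP'.1, hρa, hP.2.1, hP'.2.1] at e1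
    rw [hq, hπ.add _ (hnA' hPP) _ hδA, e1]
    exact hij
  have hqq : q * q ∈ Zc := by
    rcases hπq with e0 | e0
    · rw [(hB q hqA).mpr ((hπ.zero q hqA).mp e0)]; exact one_mem _
    · rw [hsqvc q hqA e0]; exact mem_zpowers _
  have hsqab : a' * b' * (a' * b') ∈ Zc := by
    rw [hab', show e * q * (e * q) = (q * (e * q⁻¹ * e⁻¹))⁻¹ * (e * e) * (q * q) by
      calc e * q * (e * q) = (e * q * e⁻¹) * q⁻¹ * (q * (e * e) * q) := by group
        _ = _ := by rw [hee]; group]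
    rw [hee, mul_one]
    exact mul_mem (inv_mem (hGe q hqA hπq)) hqq
  have hZb : ∀ g, act (ρ g) vc = vc → ∀ z ∈ Zc, z * g = g * z := fun g hg z hz =>
    (mul_inv_eq_iff_eq_mul.mp (hhZ g hg z hz)).symm
  have hρa' : ρ a' = T := by rw [ha', map_mul, show ρ P = 1 from hP.1, one_mul, hρa]
  have hρb' : ρ b' = S := by rw [hb', map_mul, show ρ P' = 1 from hP'.1, one_mul, hρb]
  have hcomm : a' * b' * a'⁻¹ * b'⁻¹ ∈ Zc := by
    have hA2 : a' * a' ∈ Zc := ha' ▸ hP.2.2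
    have hB2 : b' * b' ∈ Zc := hb' ▸ hP'.2.2
    have hc1 : Commute (a' * a')⁻¹ b'⁻¹ :=
      (show Commute (a' * a') b' from hZb b' (by rw [hρb']; decide +kernel) _ hA2).inv_left.inv_right
    rw [show a' * b' * a'⁻¹ * b'⁻¹ = a' * b' * (a' * b') * (b'⁻¹ * (a' * a')⁻¹ * b'⁻¹) by group,
      ← hc1.eq, mul_assoc ((a' * a')⁻¹), ← mul_inv_rev b' b']
    exact mul_mem hsqab (mul_mem (inv_mem hA2) (inv_mem hB2))
  let U : Set X := {v | v ∈ A ∧ (π v = 0 ∨ π v = vc)}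
  let S' : Set X := U ∪ {a', b'}
  set K := closure S'
  have hUK : ∀ v ∈ U, v ∈ K := fun v hv => subset_closure (Or.inl hv)
  have hG' : ∀ {g0 g P0 : X}, Good g0 → g = P0 * g0 → P0 ∈ A → ∀ v ∈ U, v * g * v⁻¹ * g⁻¹ ∈ Zc := by
    intro g0 g P0 hg0 hgg hP0 v hv
    subst hgg
    have h1 : P0 * (g0 * v⁻¹ * g0⁻¹) * P0⁻¹ = g0 * v⁻¹ * g0⁻¹ := by
      rw [hcom _ hP0 _ (hnA (inv_mem hv.1)), mul_inv_cancel_right]
    rw [show v * (P0 * g0) * v⁻¹ * (P0 * g0)⁻¹ = v * (P0 * (g0 * v⁻¹ * g0⁻¹) * P0⁻¹) by group, h1]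
    exact hg0 v hv.1 hv.2
  refine rank_contra hrank S' Zc (zpowers_le.mpr ?_) ?_ ?_ ?_ ?_
  · rw [← hcc]
    exact mul_mem (hUK c ⟨hc, Or.inr hπc⟩) (hUK c ⟨hc, Or.inr hπc⟩)
  · intro z hz t ht
    rcases ht with ht | rfl | rfl
    · exact hcom z ((zpowers_le.mpr hζA : Zc ≤ A) hz) t ht.1
    · exact hZb _ (by rw [hρa']; decide +kernel) z hz
    · exact hZb _ (by rw [hρb']; decide +kernel) z hz
  · rintro v (hv | rfl | rfl)
    · rcases hv.2 with e0 | e0
      · rw [(hB v hv.1).mpr ((hπ.zero v hv.1).mp e0)]; exact one_mem _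
      · rw [hsqvc v hv.1 e0]; exact mem_zpowers _
    · exact ha' ▸ hP.2.2
    · exact hb' ▸ hP'.2.2
  · have hsymm : ∀ x y, x * y * x⁻¹ * y⁻¹ ∈ Zc → y * x * y⁻¹ * x⁻¹ ∈ Zc := fun x y hxy => by
      rw [show y * x * y⁻¹ * x⁻¹ = (x * y * x⁻¹ * y⁻¹)⁻¹ by group]; exact inv_mem hxy
    have hself : ∀ x, x * x * x⁻¹ * x⁻¹ ∈ Zc := fun x => by simp
    rintro v (hv | rfl | rfl) w (hw | rfl | rfl) <;>
      first
        | exact hself _
        | exact hcomm
        | exact hsymm _ _ hcomm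
        | exact hG' hGa ha' hP.1 _ hv
        | exact hG' hGb hb' hP'.1 _ hv
        | exact hsymm _ _ (hG' hGa ha' hP.1 _ hw)
        | exact hsymm _ _ (hG' hGb hb' hP'.1 _ hw)
        | (rw [hcom v hv.1 w hw.1, mul_inv_cancel_right, mul_inv_cancel]; exact one_mem _)
  · show 16 * _ < Nat.card K
    have hZ2 : Nat.card Zc ≤ 2 := by
      rw [Nat.card_zpowers]
      exact Nat.le_of_dvd two_pos (orderOf_dvd_of_pow_eq_one (by rw [pow_two]; exact hζζ))
    have h8 : Nat.card B = 8 := by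
      have := hπ.card
      omega
    have hBA := hπ.le
    have h16 : 16 ≤ Nat.card (K ⊓ A : Subgroup X) := by
      have hinB : ∀ v ∈ B, v ∈ K ⊓ A := fun v hv =>
        ⟨hUK v ⟨hBA hv, Or.inl ((hπ.zero v (hBA hv)).mpr hv)⟩, hBA hv⟩
      have hcB : c ∉ B := fun hcB => not_vc.1 (hπc.symm.trans ((hπ.zero c hc).mpr hcB))
      have hle : B ≤ K ⊓ A := hinB
      obtain ⟨k, hk⟩ := card_dvd_of_le hle
      rcases Nat.lt_or_ge k 2 with h2 | h2
      · exfalso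
        have hk1 : Nat.card (K ⊓ A : Subgroup X) ≤ Nat.card B := by
          rw [hk]; calc Nat.card B * k ≤ Nat.card B * 1 := Nat.mul_le_mul_left _ (by omega)
            _ = Nat.card B := mul_one _
        exact hcB ((eq_of_le_of_card_ge hle hk1).ge ⟨hUK c ⟨hc, Or.inr hπc⟩, hc⟩)
      · rw [hk, h8]; omega
    have h4 := card_mul_four K (K ⊓ A) inf_le_left inf_le_right
      ⟨a', subset_closure (Or.inr (by simp)), hρa'⟩ ⟨b', subset_closure (Or.inr (by simp)), hρb'⟩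
    omega

end Cfsg.Agent.H34.L32
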