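import Cfsg.Agent.H34.L32.Tools

/-! One central layer below an elementary quotient: the only possibility is a layer of order two. -/

set_option autoImplicit false

namespace Cfsg.Agent.H34.L32

open Subgroup

universe u

variable {X : Type u} [Group X]

/-- order two, or order eight with transitive action on the involutions -/
def Small (N : Subgroup X) : Prop :=
  Nat.card N = 2 ∨ (Nat.card N = 8 ∧ ∀ x ∈ N, ∀ y ∈ N, x ≠ 1 → y ≠ 1 → ∃ g, g * x * g⁻¹ = y)

/-- a central elementary layer `N` of `Q` with elementary quotient -/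
structure Layer (Q N : Subgroup X) : Prop where
  le : N ≤ Q
  cen : ∀ n ∈ N, ∀ q ∈ Q, n * q = q * n
  elem : ∀ n ∈ N, n * n = 1
  small : Small N
  sq : ∀ a ∈ Q, a * a ∈ N
  moves : Moves Q N
  ne : ∃ a ∈ Q, a * a ≠ 1

theorem small_fixed_eq {N : Subgroup X} (hN8 : Nat.card N = 8)
    (htr : ∀ x ∈ N, ∀ y ∈ N, x ≠ 1 → y ≠ 1 → ∃ g, g * x * g⁻¹ = y) {x : X} (hx : x ∈ N)
    (hfix : ∀ g, g * x = x * g) : x = 1 := by
  by_contra h1
  have h2 : (N : Set X).ncard ≤ ({1, x} : Set X).ncard := Set.ncard_le_ncard (fun y hy => by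
    by_cases hy1 : y = 1
    · exact Or.inl hy1
    · obtain ⟨g, hg⟩ := htr x hx y hy h1 hy1
      right
      rw [Set.mem_singleton_iff, ← hg, hfix, mul_inv_cancel_right]) (Set.toFinite _)
  rw [← Nat.card_coe_set_eq (N : Set X), show Nat.card (N : Set X) = Nat.card N from rfl, hN8,
    Set.ncard_pair (Ne.symm h1)] at h2
  omega

variable [Finite X] {Q : Subgroup X}

theorem card_map_inj {Y : Type*} [Group Y] (f : X →* Y) (N : Subgroup X) (h : ∀ n ∈ N, f n = 1 → n = 1) :
    Nat.card (N.map f) = Nat.card N := by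
  refine (Nat.card_eq_of_bijective (fun n : N => (⟨f n, mem_map_of_mem f n.2⟩ : N.map f)) ⟨?_, ?_⟩).symm
  · intro a b e
    have e' : f a = f b := congrArg Subtype.val e
    exact Subtype.ext (inv_mul_eq_one.mp (h _ (mul_mem (inv_mem a.2) b.2)
      (by rw [map_mul, map_inv, e', inv_mul_cancel])))
  · rintro ⟨_, a, ha, rfl⟩
    exact ⟨⟨a, ha⟩, rfl⟩

theorem card_map_mk' (M N : Subgroup X) [N.Normal] (hle : N ≤ M) :
    Nat.card M = Nat.card (M.map (QuotientGroup.mk' N)) * Nat.card N := by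
  have := Cfsg.Agent.Signalizer.AltFive.card_eq_map_mul (QuotientGroup.mk' N) M
    (by rw [QuotientGroup.ker_mk']; exact hle)
  rwa [QuotientGroup.ker_mk'] at this

theorem central_of_card_two (H : Hyp Q) (N : Subgroup X) [N.Normal] (h2 : Nat.card N ≤ 4)
    (hc : ∀ n ∈ N, ∀ q ∈ Q, n * q = q * n) : ∀ n ∈ N, ∀ g, g * n = n * g := by
  intro n hn g
  have := not_moves_small H (A := N) (B := ⊥) bot_le
    (fun q hq => mem_secCent.mpr fun m hm => by rw [mem_bot, ← hc m hm q hq, mul_inv_cancel_right, mul_inv_cancel])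
    (by rw [card_bot]; omega)
  by_contra hne
  exact this ⟨g, n, hn, fun h => hne (by
    rw [mem_bot, mul_inv_eq_one, mul_inv_eq_iff_eq_mul] at h; exact h)⟩

theorem secCent_of_sq (H : Hyp Q) {A N : Subgroup X} [N.Normal] (hA : A ≤ Q) (hsq : ∀ a ∈ Q, a * a ∈ N) :
    Q ≤ secCent A N := fun _ hq => mem_secCent.mpr fun a ha => comm_of_sq hsq hq (hA ha)

/-- the case of a quotient of order 8 -/
theorem Layer.eight {N : Subgroup X} [N.Normal] (H : Hyp Q) (L : Layer Q N)
    (h : Nat.card Q = 8 * Nat.card N) : False := by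
  haveI := H.norm
  obtain ⟨ρ, π, hρ, hker, hπ⟩ := coords H Q N L.le h L.sq (secCent_of_sq H le_rfl L.sq) L.moves
  rcases quad hρ hπ N L.cen L.elem L.small L.sq L.elem L.cen with h0 | ⟨h8, hcom, hB⟩
  · obtain ⟨a, ha, hne⟩ := L.ne
    exact hne (h0 a ha)
  · subst hker
    exact kill_B hρ H.rank (fun f hf => H.hom_trivial f hf) hcom (by rw [h, h8]) hπ hB

/-- a fixed involution outside the layer leads to a quotient of order 8 -/
theorem quot_kill (H : Hyp Q) (N : Subgroup X) [hN : N.Normal] (hNQ : N ≤ Q)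
    (hcen : ∀ n ∈ N, ∀ q ∈ Q, n * q = q * n) (helem : ∀ n ∈ N, n * n = 1) (h8 : Nat.card N = 8)
    (htr : ∀ x ∈ N, ∀ y ∈ N, x ≠ 1 → y ≠ 1 → ∃ g, g * x * g⁻¹ = y)
    (x : X) (hxQ : x ∈ Q) (hxN : x ∉ N) (hx2 : x * x = 1) (hxc : ∀ g, g * x = x * g)
    (hcard : Nat.card Q = 128) (hsq : ∀ a ∈ Q, a * a ∈ N)
    (hm : ∃ g, ∃ a ∈ Q, g * a * g⁻¹ * a⁻¹ ∉ N ∧ x * (g * a * g⁻¹ * a⁻¹) ∉ N)
    (hne : ∃ a ∈ Q, a * a ≠ 1) : False := by
  haveI := H.norm
  haveI : (zpowers x).Normal := by
    refine ⟨fun n hn g => ?_⟩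
    obtain ⟨k, rfl⟩ := mem_zpowers_iff.mp hn
    rw [((show Commute g x from hxc g).zpow_right k).eq, mul_inv_cancel_right]
    exact zpow_mem (mem_zpowers x) k
  have hZ : ∀ y ∈ zpowers x, y = 1 ∨ y = x := by
    intro y hy
    obtain ⟨k, rfl⟩ := mem_zpowers_iff.mp hy
    rcases Int.even_or_odd k with ⟨m, rfl⟩ | ⟨m, rfl⟩
    · left; rw [← two_mul, zpow_mul, zpow_two, hx2, one_zpow]
    · right; rw [zpow_add, zpow_mul, zpow_two, hx2, one_zpow, one_mul, zpow_one]
  have hZQ : zpowers x ≤ Q := zpowers_le.mpr hxQ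
  set f := QuotientGroup.mk' (zpowers x)
  have hfs : Function.Surjective f := QuotientGroup.mk'_surjective _
  have hf1 : ∀ {y}, f y = 1 → y = 1 ∨ y = x := fun {y} h => hZ y ((QuotientGroup.eq_one_iff y).mp h)
  have hinj : ∀ n ∈ N, f n = 1 → n = 1 := fun n hn h => (hf1 h).resolve_right (fun e => hxN (e ▸ hn))
  have hmem : ∀ y, f y ∈ N.map f → y ∈ N ∨ x * y ∈ N := by
    rintro y ⟨n, hn, e⟩
    rcases hf1 (show f (n⁻¹ * y) = 1 by rw [map_mul, map_inv, e, inv_mul_cancel]) with e' | e'
    · exact Or.inl (inv_mul_eq_one.mp e' ▸ hn)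
    · refine Or.inr ?_
      rw [inv_mul_eq_iff_eq_mul] at e'
      rw [e', ← mul_assoc, ← (hxc n), mul_assoc, hx2, mul_one]
      exact hn
  haveI : (N.map f).Normal := hN.map f hfs
  have hx2' : Nat.card (zpowers x) = 2 := by
    rw [Nat.card_zpowers]
    exact orderOf_eq_prime (by rw [pow_two]; exact hx2) (fun e => hxN (e ▸ N.one_mem))
  have hN' : Nat.card (N.map f) = 8 := (card_map_inj f N hinj).trans h8
  refine Layer.eight (N := N.map f) (H.quot (zpowers x) hZQ) ⟨map_mono hNQ, ?_, ?_, Or.inr ⟨hN', ?_⟩, ?_, ?_, ?_⟩ ?_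
  · rintro _ ⟨n, hn, rfl⟩ _ ⟨q, hq, rfl⟩
    rw [← map_mul, ← map_mul, hcen n hn q hq]
  · rintro _ ⟨n, hn, rfl⟩
    rw [← map_mul, helem n hn, map_one]
  · rintro _ ⟨a, ha, rfl⟩ _ ⟨b, hb, rfl⟩ ha1 hb1
    obtain ⟨g, hg⟩ := htr a ha b hb (fun e => ha1 (by rw [e, map_one])) (fun e => hb1 (by rw [e, map_one]))
    exact ⟨f g, by rw [← hg, map_mul, map_mul, map_inv]⟩
  · rintro _ ⟨a, ha, rfl⟩
    rw [← map_mul]; exact mem_map_of_mem f (hsq a ha)
  · obtain ⟨g, a, ha, h1, h2⟩ := hm
    refine ⟨f g, f a, mem_map_of_mem f ha, fun h => ?_⟩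
    rw [← map_inv, ← map_inv, ← map_mul, ← map_mul, ← map_mul] at h
    exact (hmem _ h).elim h1 h2
  · obtain ⟨a, ha, hne⟩ := hne
    refine ⟨f a, mem_map_of_mem f ha, fun h => ?_⟩
    rw [← map_mul] at h
    exact (hf1 h).elim hne (fun e => hxN (e ▸ hsq a ha))
  · have := card_map_mk' Q (zpowers x) hZQ
    rw [hcard, hx2'] at this
    change 128 = Nat.card (Q.map f) * 2 at this
    show Nat.card (Q.map f) = 8 * Nat.card (N.map f)
    rw [hN']; omega

/-- quotient of order 16 with an invariant hyperplane -/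
theorem Layer.hyperplane {N : Subgroup X} [hN : N.Normal] (H : Hyp Q) (L : Layer Q N) (W : Subgroup X)
    [hW : W.Normal] (hNW : N ≤ W) (hWQ : W ≤ Q) (hWc : Nat.card W = 8 * Nat.card N)
    (hQc : Nat.card Q = 16 * Nat.card N) : Nat.card N = 2 ∧ ∀ a ∈ Q, ∀ b ∈ Q, a * b = b * a := by
  haveI := H.norm
  have hQW2 : Nat.card Q = 2 * Nat.card W := by omega
  have hsqW : ∀ a ∈ Q, a * a ∈ W := fun a ha => hNW (L.sq a ha)
  have hQW : ∀ g, ∀ a ∈ Q, g * a * g⁻¹ * a⁻¹ ∈ W := by
    intro g a ha
    by_contra hne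
    exact not_moves_small H hWQ (secCent_of_sq H le_rfl hsqW) (by omega) ⟨g, a, ha, hne⟩
  have hmW : Moves W N := by
    by_contra hno
    refine stable H (C := W) (secCent_of_sq H le_rfl L.sq) (fun c hc => L.sq c (hWQ hc)) hQW ?_ L.moves
    intro g c hc
    by_contra hne
    exact hno ⟨g, c, hc, hne⟩
  obtain ⟨ρ, π, hρ, hker, hπ⟩ := coords H W N hNW hWc (fun a ha => L.sq a (hWQ ha))
    (secCent_of_sq H hWQ L.sq) hmW
  have hcen : ∀ n ∈ N, ∀ a ∈ W, n * a = a * n := fun n hn a ha => L.cen n hn a (hWQ ha)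
  obtain ⟨v, hv, hvW⟩ : ∃ v ∈ Q, v ∉ W := by
    by_contra hno
    simp only [not_exists, not_and, not_not] at hno
    have := eq_of_le_of_card_ge hWQ (le_of_eq (by rw [le_antisymm (fun a ha => hno a ha) hWQ]))
    rw [this] at hQW2
    have := Nat.card_pos (α := Q)
    omega
  have hdec : ∀ a ∈ Q, a ∈ W ∨ v⁻¹ * a ∈ W := by
    intro a ha
    have hidx : (W.subgroupOf Q).index = 2 := by
      have h := (W.subgroupOf Q).card_mul_index
      rw [Nat.card_congr (subgroupOfEquivOfLe hWQ).toEquiv, hQW2] at h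
      exact Nat.eq_of_mul_eq_mul_left Nat.card_pos (h.trans (mul_comm _ _))
    by_cases haW : a ∈ W
    · exact Or.inl haW
    · refine Or.inr ?_
      have h' : ((⟨v, hv⟩ : Q)⁻¹ * ⟨a, ha⟩ : Q) ∈ W.subgroupOf Q := by
        rw [mul_mem_iff_of_index_two hidx, inv_mem_iff, mem_subgroupOf, mem_subgroupOf]
        exact iff_of_false hvW haW
      exact h'
  have hab_of : (∀ a ∈ W, ∀ b ∈ W, a * b = b * a) → (∀ w ∈ W, v * w = w * v) →
      ∀ a ∈ Q, ∀ b ∈ Q, a * b = b * a := by
    intro hWab hvc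
    have hW' : ∀ w ∈ W, ∀ a ∈ Q, w * a = a * w := by
      intro w hw a ha
      rcases hdec a ha with h' | h'
      · exact hWab w hw a h'
      · rw [show a = v * (v⁻¹ * a) from (mul_inv_cancel_left v a).symm]
        exact ((show Commute w v from (hvc w hw).symm).mul_right (hWab w hw _ h')).eq
    have hv' : ∀ a ∈ Q, v * a = a * v := by
      intro a ha
      rcases hdec a ha with h' | h'
      · exact hvc a h'
      · rw [show a = v * (v⁻¹ * a) from (mul_inv_cancel_left v a).symm]
        exact ((Commute.refl v).mul_right (hvc _ h')).eq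
    intro a ha b hb
    rcases hdec a ha with h' | h'
    · exact hW' a h' b hb
    · rw [show a = v * (v⁻¹ * a) from (mul_inv_cancel_left v a).symm]
      exact ((show Commute v b from hv' b hb).mul_left (hW' _ h' b hb)).eq
  rcases L.small with h2 | ⟨h8, htr⟩
  · refine ⟨h2, ?_⟩
    have hNX := central_of_card_two H N (by omega) L.cen
    have hWab : ∀ a ∈ W, ∀ b ∈ W, a * b = b * a := fun a ha b hb =>
      inv_form_trivial hρ hπ N hNX L.elem (fun a ha b hb => comm_of_sq L.sq (hWQ ha) (hWQ hb)) hcen ha hb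
    refine hab_of hWab fun w hw => ?_
    let β : X → X := fun w => v * w * v⁻¹ * w⁻¹
    have hβN : ∀ w ∈ W, β w ∈ N := fun w hw => comm_of_sq L.sq hv (hWQ hw)
    have h1 : β w = 1 := inv_hom_trivial hρ hπ β
      (fun a ha b hb => by
        calc v * (a * b) * v⁻¹ * (a * b)⁻¹ = β a * (a * β b * a⁻¹) := by simp only [β]; group
          _ = β a * β b := by rw [hNX _ (hβN b hb) a, mul_inv_cancel_right])
      (fun n hn => by
        show v * n * v⁻¹ * n⁻¹ = 1
        rw [hNX n hn v, mul_inv_cancel_right, mul_inv_cancel])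
      (fun g a ha => by
        have hg' := hQW g v hv
        set w0 := g * v * g⁻¹ * v⁻¹ with hw0
        have e : g * β a * g⁻¹ = w0 * β (g * a * g⁻¹) * w0⁻¹ * (w0 * (g * a * g⁻¹) * w0⁻¹ * (g * a * g⁻¹)⁻¹) := by
          simp only [β, hw0]; group
        rw [hNX _ (hβN a ha) g, mul_inv_cancel_right,
          hNX _ (hβN _ (hW.conj_mem a ha g)) w0, mul_inv_cancel_right,
          hWab w0 hg' _ (hW.conj_mem a ha g), mul_inv_cancel_right, mul_inv_cancel, mul_one] at e
        exact e.symm)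
      hw
    simp only [β, mul_inv_eq_one, mul_inv_eq_iff_eq_mul, one_mul] at h1
    exact h1
  · exfalso
    rcases quad hρ hπ N hcen L.elem L.small (fun a ha => L.sq a (hWQ ha)) L.elem hcen with h0 | ⟨-, hWab, hB⟩
    · have := elem_sub_le H.rank W h0
      rw [hWc, h8] at this
      omega
    obtain ⟨r, hr⟩ := hρ R
    by_cases hr4 : r ^ 4 ∈ W
    · obtain ⟨X0, hWX, hX0, hsur⟩ := exists_supplement H hρ hker W hWQ hQW2 r hr hr4
      set ρ0 : X0 →* G3 := ρ.comp X0.subtype
      have hρ0 : Function.Surjective ρ0 := fun g => by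
        obtain ⟨x, hx, e⟩ := hsur g; exact ⟨⟨x, hx⟩, e⟩
      have hk0 : ρ0.ker = W.subgroupOf X0 := by
        ext x
        have h1 : x ∈ ρ0.ker ↔ (x : X) ∈ Q := by rw [← hker]; rfl
        rw [h1, mem_subgroupOf, ← hX0]
        exact ⟨fun h => ⟨x.2, h⟩, fun h => h.2⟩
      have h2p : IsPGroup 2 ρ0.ker := by
        refine IsPGroup.of_injective H.two
          ({ toFun := fun x => ⟨((x : X0) : X), by rw [← hker]; exact x.2⟩
             map_one' := rfl, map_mul' := fun _ _ => rfl } : ρ0.ker →* Q) ?_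
        intro a b e
        exact Subtype.ext (Subtype.ext (congrArg (fun z : Q => (z : X)) e))
      have H0 : Hyp ρ0.ker := Hyp.of_surj hρ0 rfl simple_G3 h2p (rank_sub H.rank X0)
      have hπ0 := hπ.restrict X0 hWX
      rw [← hk0] at hπ0
      refine kill_B hρ0 H0.rank (fun f hf => H0.hom_trivial f hf) ?_ ?_ hπ0 ?_
      · intro a ha b hb
        rw [hk0, mem_subgroupOf] at ha hb
        exact Subtype.ext (hWab _ ha _ hb)
      · rw [hk0, Nat.card_congr (subgroupOfEquivOfLe hWX).toEquiv, hWc, h8]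
      · intro a ha
        rw [hk0, mem_subgroupOf] at ha
        rw [mem_subgroupOf, Subtype.ext_iff]
        exact hB _ ha
    · have hyQ : r ^ 4 ∈ Q := by
        rw [← hker, MonoidHom.mem_ker, map_pow, hr, R_four]
      obtain ⟨y, hy⟩ : ∃ y, y = r ^ 4 := ⟨_, rfl⟩
      rw [← hy] at hr4 hyQ
      have hry : r * y = y * r := by rw [hy]; group
      let β : X → X := fun w => y * w * y⁻¹ * w⁻¹
      have hβN : ∀ w ∈ W, β w ∈ N := fun w hw => comm_of_sq L.sq hyQ (hWQ hw)
      have hβadd : ∀ a ∈ W, ∀ n ∈ N, β (a * n) = β a := fun a ha n hn => by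
        calc y * (a * n) * y⁻¹ * (a * n)⁻¹ = β a * (a * (y * n * y⁻¹ * n⁻¹) * a⁻¹) := by simp only [β]; group
          _ = β a := by rw [← L.cen n hn y hyQ, mul_inv_cancel_right, mul_inv_cancel, mul_one, mul_inv_cancel, mul_one]
      have hβ1 : ∀ n ∈ N, β n = 1 := fun n hn => by
        show y * n * y⁻¹ * n⁻¹ = 1
        rw [← L.cen n hn y hyQ, mul_inv_cancel_right, mul_inv_cancel]
      have hβg : ∀ g, ∀ a ∈ W, β (g * a * g⁻¹) = g * β a * g⁻¹ := by
        intro g a ha
        have hg' := hQW g y hyQ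
        set w0 := g * y * g⁻¹ * y⁻¹ with hw0
        have e : g * β a * g⁻¹ = w0 * β (g * a * g⁻¹) * w0⁻¹ * (w0 * (g * a * g⁻¹) * w0⁻¹ * (g * a * g⁻¹)⁻¹) := by
          simp only [β, hw0]; group
        rw [← L.cen _ (hβN _ (hW.conj_mem a ha g)) w0 (hWQ hg'), mul_inv_cancel_right,
          hWab w0 hg' _ (hW.conj_mem a ha g), mul_inv_cancel_right, mul_inv_cancel, mul_one] at e
        exact e.symm
      rcases beta_eps hρ hπ hWab hB N h8 (fun a ha => L.sq a (hWQ ha)) β hβN hβ1 hβg hβadd with hε | hε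
      · have hyc : ∀ w ∈ W, y * w = w * y := fun w hw => by
          have := hε w hw
          simp only [β, mul_inv_eq_one, mul_inv_eq_iff_eq_mul, one_mul] at this
          exact this
        have hQab : ∀ a ∈ Q, ∀ b ∈ Q, a * b = b * a := by
          have key : ∀ w ∈ W, v * w = w * v := by
            intro w hw
            rcases hdec y hyQ with h' | h'
            · exact absurd h' hr4
            · have e : v = y * (v⁻¹ * y)⁻¹ := by group
              rw [e]
              exact ((show Commute y w from hyc w hw).mul_left (hWab _ (inv_mem h') w hw)).eq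
          exact hab_of hWab key
        obtain ⟨ζ, -, -, -, -, -, -, c0, hc0, hπc0, hrc0⟩ := z4_facts W hWab (by rw [hWc, h8]) hπ hB
          (fun q hq a ha => hQab q (by rw [← hker]; exact hq) a (hWQ ha))
          (fun f hf => H.hom_trivial f (by rw [← hker]; exact hf)) r hr
        set f := QuotientGroup.mk' N
        have hfs : Function.Surjective f := QuotientGroup.mk'_surjective N
        let ρ' : X ⧸ N →* G3 := QuotientGroup.lift N ρ (hker.symm ▸ L.le)
        have hρ' : Function.Surjective ρ' := fun g => by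
          obtain ⟨x, rfl⟩ := hρ g; exact ⟨f x, rfl⟩
        have hρ'k : ρ'.ker = Q.map f := by rw [QuotientGroup.ker_lift, hker]
        have hW8 : Nat.card (W.map f) = 8 := by
          have := card_map_mk' W N hNW
          rw [hWc] at this
          exact (Nat.eq_of_mul_eq_mul_right Nat.card_pos this).symm
        have hcm : (W.map f).comap f = W := comap_map_eq_self (by rw [QuotientGroup.ker_mk']; exact hNW)
        have hmemW : ∀ {z}, f z ∈ W.map f → z ∈ W := fun {z} h => hcm.le h
        obtain ⟨x1, hx1, hx1fix⟩ := coset_fixed (H.quot N L.le) hρ' hρ'k (W.map f) hW8 (f y) (f r) hr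
          (by rw [← map_mul, ← map_mul, hry])
          (fun z hz g => by
            obtain ⟨z, rfl⟩ := hfs z
            obtain ⟨g, rfl⟩ := hfs g
            rw [← map_inv, ← map_mul] at hz
            have hzW := hmemW hz
            have hzQ : z ∈ Q := by simpa using mul_mem hyQ (hWQ hzW)
            rw [← map_inv, ← map_inv, ← map_mul, ← map_mul, ← map_mul]
            refine mem_map_of_mem f ?_
            rw [show y⁻¹ * (g * z * g⁻¹) = y⁻¹ * (g * z * g⁻¹ * z⁻¹) * y * (y⁻¹ * z) by group]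
            exact mul_mem (by simpa using hW.conj_mem _ (hQW g z hzQ) y⁻¹) hzW)
          (fun z hz q hq => by
            obtain ⟨z, rfl⟩ := hfs z
            obtain ⟨q, hq', rfl⟩ := hq
            rw [← map_inv, ← map_mul] at hz
            have hzQ : z ∈ Q := by simpa using mul_mem hyQ (hWQ (hmemW hz))
            rw [← map_mul, ← map_mul, hQab q hq' z hzQ])
        obtain ⟨x, rfl⟩ := hfs x1
        rw [← map_inv, ← map_mul] at hx1
        have hyx : y⁻¹ * x ∈ W := hmemW hx1
        have hxQ : x ∈ Q := by simpa using mul_mem hyQ (hWQ hyx)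
        have hxW : x ∉ W := fun h => hr4 (by simpa using mul_mem h (inv_mem hyx))
        have hgx : ∀ g, g * x * g⁻¹ * x⁻¹ ∈ N := fun g => (mk_comm_iff N g x).mp (hx1fix (f g))
        have hsqx : ∀ n ∈ N, x * n * (x * n) = x * x := fun n hn => by
          rw [(show Commute n x from L.cen n hn x hxQ).mul_mul_mul_comm, L.elem n hn, mul_one]
        have hx2 : x * x = 1 := by
          refine small_fixed_eq h8 htr (L.sq x hxQ) fun g => ?_
          refine mul_inv_eq_iff_eq_mul.mp ?_
          rw [← conj_mul]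
          have hn := hgx g
          have : g * x * g⁻¹ = x * (g * x * g⁻¹ * x⁻¹) := by
            rw [← L.cen _ hn x hxQ, inv_mul_cancel_right]
          rw [this]
          exact hsqx _ hn
        set w := x⁻¹ * y with hw
        have hwW : w ∈ W := by
          have e : w = (y⁻¹ * x)⁻¹ := by rw [hw, mul_inv_rev, inv_inv]
          rw [e]; exact inv_mem hyx
        have hπw : π w = 0 ∨ π w = vc := by
          refine fix_R _ ?_
          rw [← hr, ← hπ.equiv r w hwW]
          have e : r * w * r⁻¹ = (r * x * r⁻¹ * x⁻¹)⁻¹ * w := by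
            rw [hw, show r * (x⁻¹ * y) * r⁻¹ = (r * x * r⁻¹)⁻¹ * (r * y * r⁻¹) by group, hry, mul_inv_cancel_right,
              show (r * x * r⁻¹ * x⁻¹)⁻¹ * (x⁻¹ * y) = x * ((r * x * r⁻¹)⁻¹ * x⁻¹) * y by group,
              hQab x hxQ _ (mul_mem (inv_mem (by
                simpa using mul_mem (L.le (hgx r)) hxQ)) (inv_mem hxQ)), inv_mul_cancel_right]
          rw [e, hπ.add _ (hNW (inv_mem (hgx r))) _ hwW,
            (hπ.zero _ (hNW (inv_mem (hgx r)))).mpr (inv_mem (hgx r)), zero_add]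
        obtain ⟨u, hu, hru⟩ : ∃ u, x⁻¹ * u ∈ N ∧ r * u = u * r := by
          rcases hπw with e | e
          · exact ⟨y, (hπ.zero w hwW).mp e, hry⟩
          · refine ⟨y * c0⁻¹, ?_, ?_⟩
            · rw [← mul_assoc, ← hw, hWab _ hwW _ (inv_mem hc0)]
              exact hπ.same hc0 hwW (hπc0.trans e.symm)
            · exact ((show Commute r y from hry).mul_right
                (show Commute r c0 from mul_inv_eq_iff_eq_mul.mp hrc0).inv_right).eq
        have hxu : ∀ {z}, u⁻¹ * z ∈ N → x⁻¹ * z ∈ N := fun {z} hz => by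
          simpa [mul_assoc] using mul_mem hu hz
        obtain ⟨x', hx', hx'fix⟩ := coset_fixed H hρ hker N h8 u r hr hru
          (fun z hz g => by
            have h1 := hxu hz
            rw [show u⁻¹ * (g * z * g⁻¹) =
              (x⁻¹ * u)⁻¹ * (x⁻¹ * (g * x * g⁻¹ * x⁻¹) * x * (g * (x⁻¹ * z) * g⁻¹)) by group]
            exact mul_mem (inv_mem hu) (mul_mem (by simpa using hN.conj_mem _ (hgx g) x⁻¹) (hN.conj_mem _ h1 g)))
          (fun z hz q hq => by
            have hzQ : z ∈ Q := by simpa using mul_mem hxQ (L.le (hxu hz))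
            exact hQab q hq z hzQ)
        have hx'x := hxu hx'
        have hx'Q : x' ∈ Q := by simpa using mul_mem hxQ (L.le hx'x)
        have hx'W : x' ∉ W := fun h => hxW (by simpa using mul_mem h (inv_mem (hNW hx'x)))
        have hx'2 : x' * x' = 1 := by
          have := hsqx _ hx'x
          rwa [mul_inv_cancel_left, hx2] at this
        obtain ⟨g, a, ha, hga⟩ := hmW
        refine quot_kill H N L.le L.cen L.elem h8 htr x' hx'Q (fun h => hx'W (hNW h)) hx'2 hx'fix
          (by rw [hQc, h8]) L.sq ⟨g, a, hWQ ha, hga, fun h => hx'W ?_⟩ L.ne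
        have hcW : g * a * g⁻¹ * a⁻¹ ∈ W := mul_mem (hW.conj_mem a ha g) (inv_mem ha)
        have := mul_mem (hNW h) (inv_mem hcW)
        rwa [mul_inv_cancel_right] at this
      · obtain ⟨z, hz, hπz⟩ := hπ.surj ve
        set s := r * r
        have hρs : ρ s = T := by rw [map_mul, hr]; rfl
        have hsz := hW.conj_mem z hz s
        set n := z⁻¹ * (s * z * s⁻¹) with hn
        have hnN : n ∈ N := hπ.same hz hsz (by rw [hπ.equiv s z hz, hρs, hπz, T_ve])
        have hsz' : s * z * s⁻¹ = z * n := (mul_inv_cancel_left _ _).symm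
        have hyz : y * z * y⁻¹ = z * (n * (s * n * s⁻¹)) := by
          rw [hy, show r ^ 4 = s * s by simp only [s, pow_succ, pow_zero, one_mul, mul_assoc],
            show s * s * z * (s * s)⁻¹ = s * (s * z * s⁻¹) * s⁻¹ by group, hsz', ← conj_mul, hsz', mul_assoc]
        have hkey : z * z = n * (s * n * s⁻¹) := by
          rw [← hε z hz]
          show y * z * y⁻¹ * z⁻¹ = _
          rw [hyz, ← L.cen _ (mul_mem hnN (hN.conj_mem n hnN s)) z (hWQ hz), mul_inv_cancel_right]
        obtain ⟨m, hm, hmn⟩ : ∃ m ∈ W, m * m = n := by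
          letI : CommGroup W :=
            { (inferInstance : Group W) with mul_comm := fun a b => Subtype.ext (hWab a a.2 b b.2) }
          let sq : W →* X := W.subtype.comp (powMonoidHom 2)
          have hsqv : ∀ a : W, sq a = (a : X) * a := fun a => by
            show ((a ^ 2 : W) : X) = _
            rw [SubgroupClass.coe_pow, pow_two]
          have hrange : sq.range = N := by
            refine eq_of_le_of_card_ge ?_ ?_
            · rintro _ ⟨a, rfl⟩
              rw [hsqv]; exact L.sq a (hWQ a.2)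
            · have h := sq.ker.card_mul_index
              have hk : sq.ker = N.subgroupOf W := by
                ext a
                rw [MonoidHom.mem_ker, hsqv, mem_subgroupOf]
                exact hB a a.2
              rw [index_ker, hk, Nat.card_congr (subgroupOfEquivOfLe hNW).toEquiv, hWc, h8] at h
              omega
          obtain ⟨m, hm⟩ := hrange.ge hnN
          exact ⟨m, m.2, (hsqv m).symm.trans hm⟩
        have hsm := hW.conj_mem m hm s
        have heq : z * z = m * (s * m * s⁻¹) * (m * (s * m * s⁻¹)) := by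
          rw [(show Commute (s * m * s⁻¹) m from hWab _ hsm m hm).mul_mul_mul_comm, hmn, conj_mul, hmn, hkey]
        have hd : (m * (s * m * s⁻¹))⁻¹ * z ∈ N := by
          refine (hB _ (mul_mem (inv_mem (mul_mem hm hsm)) hz)).mp ?_
          rw [(show Commute z (m * (s * m * s⁻¹))⁻¹ from hWab z hz _ (inv_mem (mul_mem hm hsm))).mul_mul_mul_comm,
            ← mul_inv_rev, heq, inv_mul_cancel]
        have := (hπ.zero _ (mul_mem (inv_mem (mul_mem hm hsm)) hz)).mpr hd
        rw [hπ.add _ (inv_mem (mul_mem hm hsm)) _ hz, hπ.inv (mul_mem hm hsm), hπ.add _ hm _ hsm,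
          hπ.equiv s m hm, hρs, hπz] at this
        exact ne_norm_T _ (funext fun i => CharTwo.add_eq_zero.mp (congrFun this i))

end Cfsg.Agent.H34.L32
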