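import Cfsg.Agent.H34.L32.Layer

/-! One central layer: the case of a fixed point, and the conclusion. -/

set_option autoImplicit false

namespace Cfsg.Agent.H34.L32

open Subgroup

universe u

variable {X : Type u} [Group X]

/-- coordinates pass to a quotient -/
theorem Coord.push {ρ : X →* G3} {A B : Subgroup X} [hA : A.Normal] {π : X → V3} (h : Coord ρ A B π)
    (M : Subgroup X) [M.Normal] (hMB : M ≤ B) (hMk : M ≤ ρ.ker) :
    Coord (QuotientGroup.lift M ρ hMk) (A.map (QuotientGroup.mk' M)) (B.map (QuotientGroup.mk' M))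
      (fun y => π (Quotient.out y)) := by
  set f := QuotientGroup.mk' M
  have hout : ∀ a ∈ A, Quotient.out (f a) ∈ A ∧ π (Quotient.out (f a)) = π a := by
    intro a ha
    have hm : (Quotient.out (f a))⁻¹ * a ∈ M := QuotientGroup.eq.mp (QuotientGroup.out_eq' (f a))
    have hmA : Quotient.out (f a) ∈ A := by
      have := mul_mem ha (inv_mem (h.le (hMB hm)))
      rwa [mul_inv_rev, inv_inv, mul_inv_cancel_left] at this
    refine ⟨hmA, ?_⟩
    have e := h.add _ hmA _ (h.le (hMB hm))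
    rw [mul_inv_cancel_left, (h.zero _ (h.le (hMB hm))).mpr (hMB hm), add_zero] at e
    exact e.symm
  refine ⟨map_mono h.le, ?_, ?_, ?_, ?_⟩
  · rintro _ ⟨a, ha, rfl⟩ _ ⟨b, hb, rfl⟩
    show π (Quotient.out (f a * f b)) = π (Quotient.out (f a)) + π (Quotient.out (f b))
    rw [← map_mul, (hout _ (mul_mem ha hb)).2, (hout a ha).2, (hout b hb).2, h.add a ha b hb]
  · intro v
    obtain ⟨a, ha, e⟩ := h.surj v
    exact ⟨f a, mem_map_of_mem f ha, (hout a ha).2.trans e⟩
  · rintro _ ⟨a, ha, rfl⟩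
    show π (Quotient.out (f a)) = 0 ↔ _
    rw [(hout a ha).2, h.zero a ha]
    refine ⟨mem_map_of_mem f, ?_⟩
    rintro ⟨b, hb, e⟩
    have := mul_mem hb (hMB ((QuotientGroup.eq (s := M)).mp e))
    rwa [mul_inv_cancel_left] at this
  · intro y
    obtain ⟨g, rfl⟩ := QuotientGroup.mk'_surjective M y
    rintro _ ⟨a, ha, rfl⟩
    show π (Quotient.out (f g * f a * (f g)⁻¹)) = act (ρ g) (π (Quotient.out (f a)))
    rw [← map_mul, ← map_inv, ← map_mul, (hout a ha).2]
    rw [(hout _ (hA.conj_mem a ha g)).2, h.equiv g a ha]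

theorem mem_zpowers_two {G : Type*} [Group G] {x y : G} (hxx : x * x = 1) (hy : y ∈ zpowers x) :
    y = 1 ∨ y = x := by
  obtain ⟨k, rfl⟩ := mem_zpowers_iff.mp hy
  rcases Int.even_or_odd k with ⟨m, rfl⟩ | ⟨m, rfl⟩
  · left; rw [← two_mul, zpow_mul, zpow_two, hxx, one_zpow]
  · right; rw [zpow_add, zpow_mul, zpow_two, hxx, one_zpow, one_mul, zpow_one]

variable [Finite X] {Q : Subgroup X}

/-- quotient of order 16 with a fixed point and no invariant hyperplane -/
theorem Layer.fixed {N : Subgroup X} [hN : N.Normal] (H : Hyp Q) (L : Layer Q N) (e : X) (heQ : e ∈ Q)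
    (heN : e ∉ N) (hfix : ∀ g, g * e * g⁻¹ * e⁻¹ ∈ N) (hQc : Nat.card Q = 16 * Nat.card N)
    (hno : ¬ ∃ W : Subgroup X, W.Normal ∧ N ≤ W ∧ W ≤ Q ∧ Nat.card W = 8 * Nat.card N) :
    Nat.card N = 2 ∧ ∀ a ∈ Q, ∀ b ∈ Q, a * b = b * a := by
  haveI := H.norm
  set f := QuotientGroup.mk' N with hf
  have hfs : Function.Surjective f := QuotientGroup.mk'_surjective N
  have hee : f e * f e = 1 := by
    rw [← map_mul]; exact (QuotientGroup.eq_one_iff _).mpr (L.sq e heQ)
  set Z := zpowers (f e) with hZ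
  haveI hZn : Z.Normal := by
    refine ⟨fun n hn g => ?_⟩
    obtain ⟨k, rfl⟩ := mem_zpowers_iff.mp hn
    obtain ⟨g, rfl⟩ := hfs g
    have hc : Commute (f g) (f e) := (mk_comm_iff N g e).mpr (hfix g)
    rw [(hc.zpow_right k).eq, mul_inv_cancel_right]
    exact zpow_mem (mem_zpowers _) k
  set M := Z.comap f with hM
  haveI hMn : M.Normal := hZn.comap f
  have hNM : N ≤ M := fun n hn => by
    rw [hM, mem_comap, show f n = 1 from (QuotientGroup.eq_one_iff n).mpr hn]; exact one_mem _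
  have heM : e ∈ M := mem_zpowers (f e)
  have hMmem : ∀ y ∈ M, y ∈ N ∨ ∃ n ∈ N, y = e * n := by
    intro y hy
    rcases mem_zpowers_two hee hy with h | h
    · exact Or.inl ((QuotientGroup.eq_one_iff y).mp h)
    · exact Or.inr ⟨e⁻¹ * y, QuotientGroup.eq.mp h.symm, (mul_inv_cancel_left e y).symm⟩
  have hMQ : M ≤ Q := fun y hy => by
    rcases hMmem y hy with h | ⟨n, hn, rfl⟩
    · exact L.le h
    · exact mul_mem heQ (L.le hn)
  have hMf : M.map f = Z := map_comap_eq_self_of_surjective hfs Z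
  have hM2 : Nat.card M = 2 * Nat.card N := by
    rw [card_map_mk' M N hNM, show M.map (QuotientGroup.mk' N) = Z from hMf, hZ, Nat.card_zpowers]
    congr 1
    exact orderOf_eq_prime (p := 2) (by rw [pow_two]; exact hee) (fun h => heN ((QuotientGroup.eq_one_iff e).mp h))
  have hMN : ∀ g, ∀ c ∈ M, g * c * g⁻¹ * c⁻¹ ∈ N := by
    intro g c hc
    rcases hMmem c hc with h | ⟨n, hn, rfl⟩
    · exact mul_mem (hN.conj_mem c h g) (inv_mem h)
    · rw [show g * (e * n) * g⁻¹ * (e * n)⁻¹ =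
        g * e * g⁻¹ * e⁻¹ * (e * (g * n * g⁻¹ * n⁻¹) * e⁻¹) by group]
      exact mul_mem (hfix g) (hN.conj_mem _ (mul_mem (hN.conj_mem n hn g) (inv_mem hn)) e)
  have hmM : Moves Q M := by
    by_contra hno'
    refine stable H (C := M) (secCent_of_sq H le_rfl L.sq) (fun c hc => L.sq c (hMQ hc)) ?_ hMN L.moves
    intro g a ha
    by_contra hne
    exact hno' ⟨g, a, ha, hne⟩
  have hsqM : ∀ a ∈ Q, a * a ∈ M := fun a ha => hNM (L.sq a ha)
  obtain ⟨ρ, π, hρ, hker, hπ⟩ := coords H Q M hMQ (by omega) hsqM (secCent_of_sq H le_rfl hsqM) hmM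
  have hρker : ∀ {q}, q ∈ Q → ρ q = 1 := fun {q} hq => by rw [← MonoidHom.mem_ker, hker]; exact hq
  have hkerQ : ∀ {q}, ρ q = 1 → q ∈ Q := fun {q} hq => by rw [← hker]; exact hq
  have hcomM : (∀ a ∈ Q, e * a = a * e) → ∀ b ∈ M, ∀ a ∈ Q, b * a = a * b := by
    intro hec b hb a ha
    rcases hMmem b hb with h | ⟨n, hn, rfl⟩
    · exact L.cen b h a ha
    · exact ((show Commute e a from hec a ha).mul_left (L.cen n hn a ha)).eq
  let β : X → X := fun a => e * a * e⁻¹ * a⁻¹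
  have hβN : ∀ a ∈ Q, β a ∈ N := fun a ha => comm_of_sq L.sq heQ ha
  have hβmul : ∀ a ∈ Q, ∀ b ∈ Q, β (a * b) = β a * β b := fun a ha b hb => by
    calc e * (a * b) * e⁻¹ * (a * b)⁻¹ = β a * (a * β b * a⁻¹) := by simp only [β]; group
      _ = β a * β b := by rw [← L.cen _ (hβN b hb) a ha, mul_inv_cancel_right]
  have hβM : ∀ b ∈ M, β b = 1 := by
    intro b hb
    rcases hMmem b hb with h | ⟨n, hn, rfl⟩
    · show e * b * e⁻¹ * b⁻¹ = 1
      rw [← L.cen b h e heQ, mul_inv_cancel_right, mul_inv_cancel]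
    · show e * (e * n) * e⁻¹ * (e * n)⁻¹ = 1
      rw [show e * (e * n) * e⁻¹ * (e * n)⁻¹ = e * (e * n * e⁻¹ * n⁻¹) * e⁻¹ by group,
        ← L.cen n hn e heQ, mul_inv_cancel_right, mul_inv_cancel, mul_one, mul_inv_cancel]
  have hβg : ∀ g, ∀ a ∈ Q, β (g * a * g⁻¹) = g * β a * g⁻¹ := by
    intro g a ha
    have hm := hfix g
    set m := g * e * g⁻¹ * e⁻¹ with hm'
    have ha' := H.norm.conj_mem a ha g
    have e1 : g * β a * g⁻¹ = m * β (g * a * g⁻¹) * m⁻¹ * (m * (g * a * g⁻¹) * m⁻¹ * (g * a * g⁻¹)⁻¹) := by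
      simp only [β, hm']; group
    rw [L.cen m hm _ (L.le (hβN _ ha')), mul_inv_cancel_right, L.cen m hm _ ha', mul_inv_cancel_right,
      mul_inv_cancel, mul_one] at e1
    exact e1.symm
  have hec_of : (∀ a ∈ Q, β a = 1) → ∀ a ∈ Q, e * a = a * e := fun h a ha => by
    have := h a ha
    simp only [β, mul_inv_eq_one, mul_inv_eq_iff_eq_mul, one_mul] at this
    exact this
  rcases L.small with h2 | ⟨h8, htr⟩
  · refine ⟨h2, ?_⟩
    have hNX := central_of_card_two H N (by omega) L.cen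
    have hec := hec_of fun a ha => inv_hom_trivial hρ hπ β hβmul hβM
      (fun g a ha => by rw [hβg g a ha, hNX _ (hβN a ha) g, mul_inv_cancel_right]) ha
    exact fun a ha b hb => inv_form_trivial hρ hπ N hNX L.elem (fun a ha b hb => comm_of_sq L.sq ha hb)
      (hcomM hec) ha hb
  exfalso
  have he2 : e * e = 1 := by
    refine small_fixed_eq h8 htr (L.sq e heQ) fun g => ?_
    refine mul_inv_eq_iff_eq_mul.mp ?_
    rw [← conj_mul]
    have hm := hfix g
    set m := g * e * g⁻¹ * e⁻¹ with hm'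
    rw [show g * e * g⁻¹ = m * e by rw [hm', inv_mul_cancel_right],
      (show Commute m e from L.cen m hm e heQ).symm.mul_mul_mul_comm, L.elem m hm, one_mul]
  have hMe : ∀ b ∈ M, b * b = 1 := by
    intro b hb
    rcases hMmem b hb with h | ⟨n, hn, rfl⟩
    · exact L.elem b h
    · rw [(show Commute n e from L.cen n hn e heQ).mul_mul_mul_comm, he2, L.elem n hn, one_mul]
  obtain ⟨r, hr⟩ := hρ R
  have hmove : ∀ a ∈ Q, π a = vc → r * a * r⁻¹ * a⁻¹ ∉ N := by
    intro a ha hπa hmem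
    refine hno ?_
    have hNk : N ≤ ρ.ker := fun n hn => hρker (L.le hn)
    have hπ' := hπ.push N hNM hNk
    rw [show M.map (QuotientGroup.mk' N) = zpowers (f e) from hMf] at hπ'
    set ρ' : X ⧸ N →* G3 := QuotientGroup.lift N ρ hNk
    have hρ' : Function.Surjective ρ' := fun g => by
      obtain ⟨x, rfl⟩ := hρ g; exact ⟨f x, rfl⟩
    haveI : (Q.map f).Normal := H.norm.map f hfs
    have hπfa : π (Quotient.out (f a)) = vc := by
      have hm : (Quotient.out (f a))⁻¹ * a ∈ N := QuotientGroup.eq.mp (QuotientGroup.out_eq' (f a))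
      have hA : Quotient.out (f a) ∈ Q := by
        have := mul_mem ha (inv_mem (L.le hm))
        rwa [mul_inv_rev, inv_inv, mul_inv_cancel_left] at this
      have e1 := hπ.add _ hA _ (L.le hm)
      rw [mul_inv_cancel_left, (hπ.zero _ (L.le hm)).mpr (hNM hm), add_zero] at e1
      rw [← e1, hπa]
    obtain ⟨U, hU, hUV, hU8⟩ := split_one_three hρ' (Q.map f)
      (by rintro _ ⟨q, hq, rfl⟩; rw [← map_mul]; exact (QuotientGroup.eq_one_iff _).mpr (L.sq q hq))
      (by rintro _ ⟨q, hq, rfl⟩ _ ⟨q', hq', rfl⟩; exact (mk_comm_iff N q q').mpr (comm_of_sq L.sq hq hq'))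
      (fun q hq => by
        obtain ⟨q, rfl⟩ := hfs q
        rintro _ ⟨q', hq', rfl⟩
        exact (mk_comm_iff N q q').mpr (comm_of_sq L.sq (hkerQ hq) hq'))
      (f e) (mem_map_of_mem f heQ)
      (fun g => by obtain ⟨g, rfl⟩ := hfs g; exact (mk_comm_iff N g e).mpr (hfix g))
      hπ' (f r) hr (f a) (mem_map_of_mem f ha) hπfa ((mk_comm_iff N r a).mpr hmem)
    have hle : U.comap f ≤ Q := fun y hy => by
      obtain ⟨q, hq, e'⟩ := hUV hy
      have := mul_mem hq (L.le (QuotientGroup.eq.mp e'))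
      rwa [mul_inv_cancel_left] at this
    have hNU : N ≤ U.comap f := fun n hn => by
      rw [mem_comap, show f n = 1 from (QuotientGroup.eq_one_iff n).mpr hn]; exact one_mem _
    refine ⟨U.comap f, hU.comap f, hNU, hle, ?_⟩
    rw [card_map_mk' _ N hNU, show (U.comap f).map (QuotientGroup.mk' N) = U from
      map_comap_eq_self_of_surjective hfs U, hU8]
  obtain ⟨ct, hct, hπct⟩ := hπ.surj vc
  obtain ⟨h, hh⟩ := hρ L32.H
  obtain ⟨u, hu⟩ : ∃ u, u = h * r * h⁻¹ := ⟨_, rfl⟩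
  have hρu : ρ u = U := by rw [hu, map_mul, map_mul, map_inv, hh, hr]; rfl
  have hshift : ∀ g, act (ρ g) vc = vc → ∃ m ∈ M, g * ct * g⁻¹ = ct * m := fun g hg =>
    ⟨_, hπ.same hct (H.norm.conj_mem ct hct g) (by rw [hπ.equiv g ct hct, hπct, hg]), (mul_inv_cancel_left _ _).symm⟩
  set p := ct * ct with hp
  have hpN : p ∈ N := L.sq ct hct
  set k := β ct with hk
  have hkN : k ∈ N := hβN ct hct
  have hsqct : ∀ m ∈ M, (m ∈ N → ct * m * (ct * m) = p) ∧ (m ∉ N → ct * m * (ct * m) = p * k) := by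
    intro m hm
    refine ⟨fun hmN => ?_, fun hmN => ?_⟩
    · rw [(show Commute m ct from L.cen m hmN ct hct).mul_mul_mul_comm, L.elem m hmN, mul_one]
    · obtain ⟨n, hn, rfl⟩ := (hMmem m hm).resolve_left hmN
      have h1 : ct * e * (ct * e) = p * k := by
        rw [hp, hk]
        calc ct * e * (ct * e) = ct * (β ct * ct) * (e * e) := by simp only [β]; group
          _ = ct * ct * β ct := by rw [he2, mul_one, L.cen _ hkN ct hct, mul_assoc]
      rw [show ct * (e * n) = ct * e * n from (mul_assoc _ _ _).symm,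
        (show Commute n (ct * e) from L.cen n hn _ (mul_mem hct heQ)).mul_mul_mul_comm, L.elem n hn, mul_one, h1]
  have hrp : r * p * r⁻¹ = p * k := by
    obtain ⟨m, hm, he'⟩ := hshift r (by rw [hr, R_vc])
    have hmN : m ∉ N := fun hmN => hmove ct hct hπct (by
      rw [he', ← L.cen m hmN ct hct, mul_inv_cancel_right]; exact hmN)
    rw [hp, ← conj_mul, he', (hsqct m hm).2 hmN]
  have hup : u * p * u⁻¹ = p ∨ u * p * u⁻¹ = p * k := by
    obtain ⟨m, hm, he'⟩ := hshift u (by rw [hρu, U_vc])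
    rw [hp, ← conj_mul, he']
    by_cases hmN : m ∈ N
    · exact Or.inl ((hsqct m hm).1 hmN)
    · exact Or.inr ((hsqct m hm).2 hmN)
  have hne : ∀ a ∈ Q, a ∉ M → ∀ b ∈ Q, b ∉ M → ∃ g, π (g * a * g⁻¹) = π b := by
    intro a ha haB b hb hbB
    obtain ⟨g1, h1⟩ := trans (π a) (fun e => haB ((hπ.zero a ha).mp e))
    obtain ⟨g2, h2⟩ := trans (π b) (fun e => hbB ((hπ.zero b hb).mp e))
    obtain ⟨g, hg⟩ := hρ (g2 * g1⁻¹)
    exact ⟨g, by rw [hπ.equiv g a ha, hg, ← h1, act_mul, act_inv_act, h2]⟩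
  have hβsame : ∀ a ∈ Q, ∀ b ∈ Q, π a = π b → β a = β b := fun a ha b hb e1 => by
    have hm := hπ.same ha hb e1
    rw [show b = a * (a⁻¹ * b) from (mul_inv_cancel_left a b).symm, hβmul a ha _ (hMQ hm), hβM _ hm, mul_one]
  have hk1 : k = 1 := by
    by_contra hk1
    have hctM : ct ∉ M := fun hc => not_vc.1 (hπct.symm.trans ((hπ.zero ct hct).mpr hc))
    have hβker : ∀ a ∈ Q, β a = 1 → a ∈ M := by
      intro a ha h1
      by_contra haM
      obtain ⟨g, hg⟩ := hne a ha haM ct hct hctM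
      refine hk1 ?_
      rw [hk, ← hβsame _ (H.norm.conj_mem a ha g) ct hct hg, hβg g a ha, h1, mul_one, mul_inv_cancel]
    obtain ⟨P, hP, hPp⟩ : ∃ P ∈ Q, β P = p := by
      by_cases hp1 : p = 1
      · exact ⟨1, Q.one_mem, by rw [hp1]; simp [β]⟩
      · obtain ⟨g, hg⟩ := htr k hkN p hpN hk1 hp1
        exact ⟨_, H.norm.conj_mem ct hct g, by rw [hβg g ct hct, ← hk, hg]⟩
    have hdiff : ∀ g, ∀ b ∈ Q, g * p * g⁻¹ = β b → act (ρ g) (π P) = π b := by
      intro g b hb h1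
      have hgP := H.norm.conj_mem P hP g
      have hm : (g * P * g⁻¹)⁻¹ * b ∈ M := by
        refine hβker _ (mul_mem (inv_mem hgP) hb) ?_
        have h2 := hβmul (g * P * g⁻¹) hgP _ (mul_mem (inv_mem hgP) hb)
        rw [mul_inv_cancel_left, ← h1, hβg g P hP, hPp, left_eq_mul] at h2
        exact h2
      have h3 := hπ.add _ hgP _ (mul_mem (inv_mem hgP) hb)
      rw [mul_inv_cancel_left, (hπ.zero _ (mul_mem (inv_mem hgP) hb)).mpr hm, add_zero, hπ.equiv g P hP] at h3
      exact h3.symm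
    have hPc : β (P * ct) = p * k := by rw [hβmul P hP ct hct, hPp]
    have hπPc : π (P * ct) = π P + vc := by rw [hπ.add P hP ct hct, hπct]
    have hR : act R (π P) = π P + vc := by
      rw [← hr, hdiff r _ (mul_mem hP hct) (hrp.trans hPc.symm), hπPc]
    have hU : act U (π P) = π P ∨ act U (π P) = π P + vc := by
      rw [← hρu]
      rcases hup with h1 | h1
      · exact Or.inl (hdiff u P hP (h1.trans hPp.symm))
      · exact Or.inr (by rw [hdiff u _ (mul_mem hP hct) (h1.trans hPc.symm), hπPc])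
    rcases fix_pair _ (Or.inr hR) hU with h1 | h1 <;> rw [h1] at hR
    · rw [act_zero, zero_add] at hR; exact not_vc.1 hR.symm
    · rw [R_vc] at hR; exact not_vc.1 (left_eq_add.mp hR)
  have hec : ∀ a ∈ Q, e * a = a * e := by
    refine hec_of fun a ha => ?_
    by_cases haM : a ∈ M
    · exact hβM a haM
    have hctM : ct ∉ M := fun hc => not_vc.1 (hπct.symm.trans ((hπ.zero ct hct).mpr hc))
    obtain ⟨g, hg⟩ := hne ct hct hctM a ha haM
    rw [← hβsame _ (H.norm.conj_mem ct hct g) a ha hg, hβg g ct hct, ← hk, hk1, mul_one, mul_inv_cancel]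
  rcases quad hρ hπ N L.cen L.elem L.small L.sq hMe (hcomM hec) with h0 | ⟨-, hab, hB⟩
  · have := elem_sub_le H.rank Q h0
    omega
  letI : CommGroup Q :=
    { (inferInstance : Group Q) with mul_comm := fun a b => Subtype.ext (hab a a.2 b b.2) }
  let c : X → MulAut Q := fun g => MulAut.conjNormal g
  have hcv : ∀ g (x : Q), (c g x : X) = g * x * g⁻¹ := fun g x => rfl
  let D : Q →* Q :=
    { toFun := fun a => c r a * a⁻¹
      map_one' := by rw [map_one, inv_one, mul_one]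
      map_mul' := fun a b => by rw [map_mul, mul_inv, mul_mul_mul_comm] }
  have hDv : ∀ a : Q, (D a : X) = r * a * r⁻¹ * (a : X)⁻¹ := fun a => rfl
  have hπD : ∀ a : Q, π (D a : X) = act R (π (a : X)) + π (a : X) := fun a => by
    rw [hDv, hπ.add _ (H.norm.conj_mem _ a.2 r) _ (inv_mem a.2), hπ.inv a.2, hπ.equiv r _ a.2, hr]
  have h4 : ∀ a : Q, a ^ 4 = 1 := fun a => Subtype.ext (by
    show (a : X) ^ 4 = 1
    rw [show (a : X) ^ 4 = a * a * (a * a) by simp only [pow_succ, pow_zero, one_mul, mul_assoc]]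
    exact L.elem _ (L.sq _ a.2))
  have hr4 : r ^ 4 ∈ Q := hkerQ (by rw [map_pow, hr, R_four])
  have hid : ∀ w : Q, D (D (D (D w))) = D (D (w * w)) := by
    intro w
    have hf4 : c r (c r (c r (c r w))) = w := Subtype.ext (by
      simp only [hcv]
      rw [show r * (r * (r * (r * (w : X) * r⁻¹) * r⁻¹) * r⁻¹) * r⁻¹ = r ^ 4 * w * (r ^ 4)⁻¹ by
          rw [show r ^ 4 = r * r * r * r by simp only [pow_succ, pow_zero, one_mul]]; group,
        hab _ hr4 w w.2, mul_inv_cancel_right])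
    have h4' := h4 (c r (c r w) * (c r (c r (c r w)))⁻¹)
    show c r (c r (c r (c r w * w⁻¹) * (c r w * w⁻¹)⁻¹) * (c r (c r w * w⁻¹) * (c r w * w⁻¹)⁻¹)⁻¹) *
        (c r (c r (c r w * w⁻¹) * (c r w * w⁻¹)⁻¹) * (c r (c r w * w⁻¹) * (c r w * w⁻¹)⁻¹)⁻¹)⁻¹ =
      c r (c r (w * w) * (w * w)⁻¹) * (c r (w * w) * (w * w)⁻¹)⁻¹
    simp only [map_mul, map_inv, hf4]
    set a1 := c r w
    set a2 := c r a1
    set a3 := c r a2
    apply Additive.ofMul.injective
    have h4a := congrArg Additive.ofMul h4'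
    simp only [ofMul_mul, ofMul_inv, ofMul_one, ofMul_pow] at h4a ⊢
    rw [← sub_eq_zero]
    rw [← sub_eq_zero] at h4a
    refine Eq.trans ?_ h4a
    abel
  obtain ⟨w, hw, hπw⟩ := hπ.surj ![1, 0, 0]
  set w0 : Q := ⟨w, hw⟩
  set c0 := D (D w0)
  have hπc0 : π (c0 : X) = vc := by
    rw [hπD, hπD, show ((w0 : Q) : X) = w from rfl, hπw]; decide +kernel
  have hd : (D c0 : X) ∉ N := by rw [hDv]; exact hmove _ c0.2 hπc0
  have hdM : (D c0 : X) ∈ M := by
    rw [← hπ.zero _ (D c0).2, hπD, hπc0, R_vc]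
    exact funext fun i => CharTwo.add_self_eq_zero _
  set n' : Q := D (w0 * w0)
  have hn' : (n' : X) ∈ N := by
    rw [hDv]
    exact mul_mem (hN.conj_mem _ (L.sq w hw) r) (inv_mem (L.sq w hw))
  obtain ⟨n, hn, hdn⟩ := (hMmem _ hdM).resolve_left hd
  set u0 : Q := D c0 * n'⁻¹
  have hu0 : (u0 : X) = e * (n * (n' : X)⁻¹) := by
    show (D c0 : X) * (n' : X)⁻¹ = _
    rw [hdn, mul_assoc]
  have hru0 : r * (u0 : X) = u0 * r := by
    refine mul_inv_eq_iff_eq_mul.mp (mul_inv_eq_one.mp ?_)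
    rw [← hDv]
    have h1 : D u0 = 1 := by
      show D (D c0 * n'⁻¹) = 1
      rw [map_mul, map_inv, mul_inv_eq_one]
      exact hid w0
    rw [h1]; rfl
  have hnn : n * (n' : X)⁻¹ ∈ N := mul_mem hn (inv_mem hn')
  have hconv : ∀ {y}, (u0 : X)⁻¹ * y ∈ N → e⁻¹ * y ∈ N := fun {y} hy => by
    rw [hu0] at hy
    rw [show e⁻¹ * y = (n * (n' : X)⁻¹) * ((e * (n * (n' : X)⁻¹))⁻¹ * y) by group]
    exact mul_mem hnn hy
  obtain ⟨x', hx', hx'fix⟩ := coset_fixed H hρ hker N h8 (u0 : X) r hr hru0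
    (fun y hy g => by
      have h1 := hconv hy
      rw [show (u0 : X)⁻¹ * (g * y * g⁻¹) = (e⁻¹ * u0)⁻¹ *
        (e⁻¹ * (g * e * g⁻¹ * e⁻¹) * e * (g * (e⁻¹ * y) * g⁻¹)) by group]
      refine mul_mem (inv_mem ?_) (mul_mem (by simpa using hN.conj_mem _ (hfix g) e⁻¹) (hN.conj_mem _ h1 g))
      rw [hu0, inv_mul_cancel_left]; exact hnn)
    (fun y hy q hq => by
      have hyQ : y ∈ Q := by simpa using mul_mem u0.2 (L.le hy)
      exact hab q hq y hyQ)
  have hx'e := hconv hx'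
  have hx'M : x' ∈ M := by simpa using mul_mem heM (hNM hx'e)
  have hx'N : x' ∉ N := fun h => heN (by simpa using mul_mem h (inv_mem hx'e))
  obtain ⟨g, a, ha, hga⟩ := hmM
  refine quot_kill H N L.le L.cen L.elem h8 htr x' (hMQ hx'M) hx'N (hMe _ hx'M) hx'fix
    (by rw [hQc, h8]) L.sq ⟨g, a, ha, fun h => hga (hNM h), fun h => hga ?_⟩ L.ne
  have := mul_mem (inv_mem hx'M) (hNM h)
  rwa [inv_mul_cancel_left] at this

/-- the layer lemma -/
theorem Layer.main {N : Subgroup X} [hN : N.Normal] (H : Hyp Q) (L : Layer Q N) :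
    Nat.card N = 2 ∧ Nat.card Q = 32 ∧ ∀ a ∈ Q, ∀ b ∈ Q, a * b = b * a := by
  haveI := H.norm
  set f := QuotientGroup.mk' N
  have hfs : Function.Surjective f := QuotientGroup.mk'_surjective N
  haveI : (Q.map f).Normal := H.norm.map f hfs
  have hsq : ∀ v ∈ Q.map f, v * v = 1 := by
    rintro _ ⟨q, hq, rfl⟩; rw [← map_mul]; exact (QuotientGroup.eq_one_iff _).mpr (L.sq q hq)
  have hm : ∃ g, ∃ v ∈ Q.map f, g * v ≠ v * g := by
    obtain ⟨g, a, ha, hne⟩ := L.moves
    exact ⟨f g, f a, mem_map_of_mem f ha, fun h => hne ((mk_comm_iff N g a).mp h)⟩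
  have hcard := card_map_mk' Q N L.le
  rcases dim_four (H.quot N L.le) (Q.map f) hsq
      (fun q hq v hv => by
        obtain ⟨q, hq, rfl⟩ := hq
        obtain ⟨v, hv, rfl⟩ := hv
        exact (mk_comm_iff N q v).mpr (comm_of_sq L.sq hq hv))
      (elem_sub_le (H.quot N L.le).rank _ hsq) hm with h8 | ⟨h16, hcase⟩
  · change Nat.card Q = Nat.card (Q.map f) * Nat.card N at hcard
    rw [h8] at hcard
    exact (L.eight H hcard).elim
  change Nat.card Q = Nat.card (Q.map f) * Nat.card N at hcard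
  rw [h16] at hcard
  have key : Nat.card N = 2 ∧ ∀ a ∈ Q, ∀ b ∈ Q, a * b = b * a := by
    by_cases hW : ∃ W : Subgroup X, W.Normal ∧ N ≤ W ∧ W ≤ Q ∧ Nat.card W = 8 * Nat.card N
    · obtain ⟨W, hWn, hNW, hWQ, hWc⟩ := hW
      exact L.hyperplane H W hNW hWQ hWc hcard
    rcases hcase with ⟨e, he, he1, hefix⟩ | ⟨U, hU, hUV, hU8⟩
    · obtain ⟨e, heQ, rfl⟩ := he
      exact L.fixed H e heQ (fun h => he1 ((QuotientGroup.eq_one_iff e).mpr h))
        (fun g => (mk_comm_iff N g e).mp (hefix (f g))) hcard hW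
    · refine absurd ⟨U.comap f, hU.comap f, ?_, ?_, ?_⟩ hW
      · intro n hn
        rw [mem_comap, show f n = 1 from (QuotientGroup.eq_one_iff n).mpr hn]; exact one_mem _
      · intro y hy
        obtain ⟨q, hq, e'⟩ := hUV hy
        have := mul_mem hq (L.le (QuotientGroup.eq.mp e'))
        rwa [mul_inv_cancel_left] at this
      · have hNU : N ≤ U.comap f := fun n hn => by
          rw [mem_comap, show f n = 1 from (QuotientGroup.eq_one_iff n).mpr hn]; exact one_mem _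
        rw [card_map_mk' _ N hNU, show (U.comap f).map (QuotientGroup.mk' N) = U from
          map_comap_eq_self_of_surjective hfs U, hU8]
  refine ⟨key.1, ?_, key.2⟩
  rw [hcard, key.1]

end Cfsg.Agent.H34.L32
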