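import Cfsg.Agent.H34.L32.LayerMain

/-! Two layers are impossible. -/

set_option autoImplicit false

namespace Cfsg.Agent.H34.L32

open Subgroup
open scoped Matrix

universe u

variable {X : Type u} [Group X]

/-- the squares of `Q` generate `P`, which has the layer `N` of index two -/
structure Double (Q P N : Subgroup X) : Prop where
  leN : N ≤ P
  leP : P ≤ Q
  cen : ∀ n ∈ N, ∀ q ∈ Q, n * q = q * n
  elem : ∀ n ∈ N, n * n = 1
  small : Small N
  cardP : Nat.card P = 2 * Nat.card N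
  gen : closure {f | ∃ a ∈ Q, a * a = f} = P
  comm : ∀ a ∈ Q, ∀ b ∈ Q, a * b * a⁻¹ * b⁻¹ ∈ N
  cardQ : Nat.card Q = 16 * Nat.card P
  moves : Moves Q P

theorem span_first : ∀ d v : V3, d 0 ≠ 0 → ∃ i j k : Bool,
    v = (if i then d else 0) + (if j then act R d else 0) + (if k then act R (act R d) else 0) := by
  decide +kernel

theorem perm_det :
    ((!![0, 0, 0, 1; 1, 0, 0, 0; 0, 1, 0, 0; 0, 0, 1, 0] : Matrix (Fin 4) (Fin 4) (ZMod 4))).det ≠ 1 := by
  rw [Matrix.det_succ_row_zero, Fin.sum_univ_four]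
  simp [Matrix.det_fin_three, Fin.succAbove]
  decide

variable [Finite X] {Q P N : Subgroup X}

theorem Double.sqP (D : Double Q P N) {a : X} (ha : a ∈ Q) : a * a ∈ P :=
  D.gen.le (subset_closure ⟨a, ha, rfl⟩)

theorem Double.exists_sq (D : Double Q P N) : ∃ x ∈ Q, x * x ∈ P ∧ x * x ∉ N := by
  by_contra hno
  simp only [not_exists, not_and, not_not] at hno
  have hle : P ≤ N := D.gen ▸ (closure_le _).mpr (fun f ⟨a, ha, e⟩ => e ▸ hno a ha (D.sqP ha))
  have := card_le_card_group (⊤ : Subgroup P)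
  have h := D.cardP
  rw [le_antisymm hle D.leN] at h
  have := Nat.card_pos (α := N)
  omega

theorem Double.cover (D : Double Q P N) {z : X} (hz : z ∈ P) (hzN : z ∉ N) {p : X} (hp : p ∈ P) :
    p ∈ N ∨ z⁻¹ * p ∈ N := by
  have hidx : (N.subgroupOf P).index = 2 := by
    have h := (N.subgroupOf P).card_mul_index
    rw [Nat.card_congr (subgroupOfEquivOfLe D.leN).toEquiv, D.cardP] at h
    exact Nat.eq_of_mul_eq_mul_left Nat.card_pos (h.trans (mul_comm _ _))
  by_cases hpN : p ∈ N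
  · exact Or.inl hpN
  · refine Or.inr ?_
    have h' : ((⟨z, hz⟩ : P)⁻¹ * ⟨p, hp⟩ : P) ∈ N.subgroupOf P := by
      rw [mul_mem_iff_of_index_two hidx, inv_mem_iff, mem_subgroupOf, mem_subgroupOf]
      exact iff_of_false hzN hpN
    exact h'

/-- the squaring map of an abelian `Q` -/
theorem sq_range [Q.Normal] (hgen : closure {f | ∃ a ∈ Q, a * a = f} = P)
    (hab : ∀ a ∈ Q, ∀ b ∈ Q, a * b = b * a) :
    ∃ φ : Q →* X, (∀ a : Q, φ a = (a : X) * a) ∧ φ.range = P := by
  letI : CommGroup Q :=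
    { (inferInstance : Group Q) with mul_comm := fun a b => Subtype.ext (hab a a.2 b b.2) }
  have hv : ∀ a : Q, (Q.subtype.comp (powMonoidHom 2)) a = (a : X) * a := fun a => by
    show ((a ^ 2 : Q) : X) = _
    rw [SubgroupClass.coe_pow, pow_two]
  refine ⟨Q.subtype.comp (powMonoidHom 2), hv, le_antisymm ?_ ?_⟩
  · rintro _ ⟨a, rfl⟩
    rw [hv, ← hgen]; exact subset_closure ⟨a, a.2, rfl⟩
  · rw [← hgen, closure_le]
    rintro _ ⟨a, ha, rfl⟩
    exact ⟨⟨a, ha⟩, hv _⟩

/-- the quotient by a central involution of `P` outside `N` -/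
theorem Double.quot_layer (H : Hyp Q) [hP : P.Normal] [hN : N.Normal] (D : Double Q P N) (z : X)
    (hz : z ∈ P) (hzN : z ∉ N) (hz2 : z * z = 1) (hzc : ∀ g, g * z = z * g) :
    Nat.card N = 2 ∧ ∀ a ∈ Q, ∀ b ∈ Q, a * b = b * a := by
  haveI : (zpowers z).Normal := by
    refine ⟨fun n hn g => ?_⟩
    obtain ⟨k, rfl⟩ := mem_zpowers_iff.mp hn
    rw [((show Commute g z from hzc g).zpow_right k).eq, mul_inv_cancel_right]
    exact zpow_mem (mem_zpowers z) k
  have hZQ : zpowers z ≤ Q := zpowers_le.mpr (D.leP hz)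
  set f := QuotientGroup.mk' (zpowers z)
  have hfs : Function.Surjective f := QuotientGroup.mk'_surjective _
  have hf1 : ∀ {y}, f y = 1 → y = 1 ∨ y = z := fun {y} h => mem_zpowers_two hz2 ((QuotientGroup.eq_one_iff y).mp h)
  have hinj : ∀ n ∈ N, f n = 1 → n = 1 := fun n hn h => (hf1 h).resolve_right (fun e => hzN (e ▸ hn))
  have hfz : f z = 1 := (QuotientGroup.eq_one_iff z).mpr (mem_zpowers z)
  have hPN : P.map f = N.map f := by
    refine le_antisymm ?_ (map_mono D.leN)
    rintro _ ⟨p, hp, rfl⟩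
    rcases D.cover hz hzN hp with h | h
    · exact mem_map_of_mem f h
    · refine ⟨z⁻¹ * p, h, ?_⟩
      rw [map_mul, map_inv, hfz, inv_one, one_mul]
  haveI : (N.map f).Normal := hN.map f hfs
  haveI : (zpowers z).Normal := ‹_›
  have hL : Layer (Q.map f) (N.map f) := by
    refine ⟨map_mono (D.leN.trans D.leP), ?_, ?_, ?_, ?_, ?_, ?_⟩
    · rintro _ ⟨n, hn, rfl⟩ _ ⟨q, hq, rfl⟩
      rw [← map_mul, ← map_mul, D.cen n hn q hq]
    · rintro _ ⟨n, hn, rfl⟩
      rw [← map_mul, D.elem n hn, map_one]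
    · rcases D.small with h | ⟨h, htr⟩
      · exact Or.inl ((card_map_inj f N hinj).trans h)
      · refine Or.inr ⟨(card_map_inj f N hinj).trans h, ?_⟩
        rintro _ ⟨a, ha, rfl⟩ _ ⟨b, hb, rfl⟩ ha1 hb1
        obtain ⟨g, hg⟩ := htr a ha b hb (fun e => ha1 (by rw [e, map_one])) (fun e => hb1 (by rw [e, map_one]))
        exact ⟨f g, by rw [← hg, map_mul, map_mul, map_inv]⟩
    · rintro _ ⟨a, ha, rfl⟩
      rw [← map_mul, ← hPN]; exact mem_map_of_mem f (D.sqP ha)
    · obtain ⟨g, a, ha, hne⟩ := D.moves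
      refine ⟨f g, f a, mem_map_of_mem f ha, fun h => hne ?_⟩
      rw [← hPN, ← map_inv, ← map_inv, ← map_mul, ← map_mul, ← map_mul] at h
      obtain ⟨p, hp, e⟩ := h
      have := mul_mem hp ((zpowers_le.mpr hz : zpowers z ≤ P) (QuotientGroup.eq.mp e))
      rwa [mul_inv_cancel_left] at this
    · by_contra hno
      simp only [not_exists, not_and, not_not] at hno
      have hle : P ≤ zpowers z := D.gen ▸ (closure_le _).mpr (fun y ⟨a, ha, e⟩ => by
        have h1 : f (a * a) = 1 := (map_mul f a a).trans (hno (f a) (mem_map_of_mem f ha))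
        exact e ▸ (QuotientGroup.eq_one_iff _).mp h1)
      have h2 := Subgroup.card_le_of_le hle
      rw [D.cardP, Nat.card_zpowers,
        orderOf_eq_prime (p := 2) (by rw [pow_two]; exact hz2) (fun e => hzN (by rw [e]; exact N.one_mem))] at h2
      rcases D.small with h | ⟨h, -⟩ <;> omega
  obtain ⟨h2, -, hab⟩ := hL.main (H.quot (zpowers z) hZQ)
  refine ⟨(card_map_inj f N hinj).symm.trans h2, fun a ha b hb => ?_⟩
  have h1 := hab _ (mem_map_of_mem f ha) _ (mem_map_of_mem f hb)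
  have h3 : f (a * b * a⁻¹ * b⁻¹) = 1 := by
    rw [map_mul, map_mul, map_mul, h1, map_inv, map_inv, mul_inv_cancel_right, mul_inv_cancel]
  have h4 := hinj _ (D.comm a ha b hb) h3
  rw [mul_inv_eq_one, mul_inv_eq_iff_eq_mul] at h4
  exact h4

/-- the four-group case -/
theorem Double.false_four (H : Hyp Q) [hP : P.Normal] [hN : N.Normal] (D : Double Q P N)
    (h2 : Nat.card N = 2) (hab : ∀ a ∈ Q, ∀ b ∈ Q, a * b = b * a) (hP2 : ∀ p ∈ P, p * p = 1)
    (hPX : ∀ p ∈ P, ∀ g, g * p = p * g) : False := by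
  haveI := H.norm
  obtain ⟨φ, hφ, hrange⟩ := sq_range D.gen hab
  set K := φ.ker.map Q.subtype with hK
  have hKmem : ∀ {a}, a ∈ K ↔ a ∈ Q ∧ a * a = 1 := by
    intro a
    constructor
    · rintro ⟨b, hb, rfl⟩
      exact ⟨b.2, (hφ b).symm.trans hb⟩
    · rintro ⟨ha, h1⟩
      exact ⟨⟨a, ha⟩, (hφ _).trans h1, rfl⟩
  haveI : K.Normal := ⟨fun a ha g => by
    rw [hKmem] at ha ⊢
    exact ⟨H.norm.conj_mem a ha.1 g, by rw [conj_mul, ha.2, mul_one, mul_inv_cancel]⟩⟩
  have hKP : P ≤ K := fun p hp => hKmem.mpr ⟨D.leP hp, hP2 p hp⟩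
  have hKQ : K ≤ Q := fun a ha => (hKmem.mp ha).1
  have hKc : Nat.card K = 16 := by
    have h := φ.ker.card_mul_index
    rw [index_ker, hrange, D.cardQ, D.cardP, h2] at h
    rw [hK, card_map_of_injective Q.subtype_injective]
    omega
  have hsc : ∀ {A : Subgroup X}, A ≤ Q → Q ≤ secCent A P := fun hA q hq =>
    mem_secCent.mpr fun a ha => by rw [hab q hq a (hA ha), mul_inv_cancel_right, mul_inv_cancel]; exact one_mem _
  refine stable H (C := K) (hsc le_rfl) (fun c hc => D.sqP (hKQ hc)) ?_ ?_ D.moves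
  · intro g a ha
    have hga := H.norm.conj_mem a ha g
    refine hKmem.mpr ⟨mul_mem hga (inv_mem ha), ?_⟩
    rw [(show Commute a⁻¹ (g * a * g⁻¹) from hab _ (inv_mem ha) _ hga).mul_mul_mul_comm, conj_mul,
      hPX _ (D.sqP ha) g, mul_inv_cancel_right, ← mul_inv_rev, mul_inv_cancel]
  · intro g c hc
    by_contra hne
    exact not_moves_small H hKP (hsc hKQ) (by rw [hKc, D.cardP, h2]) ⟨g, c, hc, hne⟩

/-- two layers are impossible -/
theorem Double.false (H : Hyp Q) [hP : P.Normal] [hN : N.Normal] (D : Double Q P N) : False := by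
  haveI := H.norm
  obtain ⟨x, hx, hzP, hzN⟩ := D.exists_sq
  obtain ⟨z, hz⟩ : ∃ z, z = x * x := ⟨_, rfl⟩
  rw [← hz] at hzP hzN
  have hNQ : N ≤ Q := D.leN.trans D.leP
  have hzQ : ∀ a ∈ Q, z * a = a * z := by
    intro a ha
    obtain ⟨c, hc⟩ : ∃ c, c = x * a * x⁻¹ * a⁻¹ := ⟨_, rfl⟩
    have hcN : c ∈ N := hc ▸ D.comm x hx a ha
    have e1 : x * a = c * a * x := by rw [hc]; group
    rw [hz]
    calc x * x * a = x * (c * a * x) := by rw [mul_assoc, e1]
      _ = c * (x * a) * x := by rw [← mul_assoc x (c * a), ← mul_assoc x c, ← D.cen c hcN x hx, mul_assoc c x a]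
      _ = (c * c) * a * (x * x) := by rw [e1]; group
      _ = a * (x * x) := by rw [D.elem c hcN, one_mul]
  have hPc : ∀ p ∈ P, ∀ q ∈ Q, p * q = q * p := by
    intro p hp q hq
    rcases D.cover hzP hzN hp with h | h
    · exact D.cen p h q hq
    · rw [show p = z * (z⁻¹ * p) from (mul_inv_cancel_left z p).symm]
      exact ((show Commute z q from hzQ q hq).mul_left (D.cen _ h q hq)).eq
  have hgz : ∀ g, g * z * g⁻¹ * z⁻¹ ∈ N := by
    intro g
    by_contra hne
    exact not_moves_small H D.leN (fun q hq => mem_secCent.mpr fun p hp => D.comm q hq p (D.leP hp))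
      (by rw [D.cardP]; omega) ⟨g, z, hzP, hne⟩
  have hzz : z * z ∈ N := by
    rcases D.cover hzP hzN (mul_mem hzP hzP) with h | h
    · exact h
    · rw [inv_mul_cancel_left] at h; exact absurd h hzN
  have hPsq : ∀ p ∈ P, p * p = 1 ∨ p * p = z * z := by
    intro p hp
    rcases D.cover hzP hzN hp with h | h
    · exact Or.inl (D.elem p h)
    · right
      rw [show p = z * (z⁻¹ * p) from (mul_inv_cancel_left z p).symm,
        (show Commute (z⁻¹ * p) z from D.cen _ h z (D.leP hzP)).mul_mul_mul_comm, D.elem _ h, mul_one]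
  set f := QuotientGroup.mk' N with hf
  have hfc : ∀ a ∈ Q, ∀ b ∈ Q, f a * f b = f b * f a := fun a ha b hb => (mk_comm_iff N a b).mpr (D.comm a ha b hb)
  let W : Subgroup X :=
    { carrier := {a | a ∈ Q ∧ a * a ∈ N}
      one_mem' := ⟨Q.one_mem, by rw [mul_one]; exact N.one_mem⟩
      mul_mem' := by
        rintro a b ⟨ha, ha2⟩ ⟨hb, hb2⟩
        refine ⟨mul_mem ha hb, (QuotientGroup.eq_one_iff _).mp ?_⟩
        show f (a * b * (a * b)) = 1
        rw [map_mul, map_mul, (show Commute (f b) (f a) from hfc b hb a ha).mul_mul_mul_comm, ← map_mul,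
          ← map_mul, show f (a * a) = 1 from (QuotientGroup.eq_one_iff _).mpr ha2,
          show f (b * b) = 1 from (QuotientGroup.eq_one_iff _).mpr hb2, one_mul]
      inv_mem' := by
        rintro a ⟨ha, ha2⟩
        exact ⟨inv_mem ha, by rw [← mul_inv_rev]; exact inv_mem ha2⟩ }
  haveI hWn : W.Normal := ⟨fun a ha g => ⟨H.norm.conj_mem a ha.1 g, by rw [conj_mul]; exact hN.conj_mem _ ha.2 g⟩⟩
  have hWQ : W ≤ Q := fun a ha => ha.1
  have hPW : P ≤ W := fun p hp => ⟨D.leP hp, by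
    rcases hPsq p hp with e | e <;> rw [e]
    · exact one_mem _
    · exact hzz⟩
  have hxW : x ∉ W := fun h => hzN (hz ▸ h.2)
  have hdec : ∀ a ∈ Q, a ∈ W ∨ x⁻¹ * a ∈ W := by
    intro a ha
    by_cases haW : a ∈ W
    · exact Or.inl haW
    refine Or.inr ⟨mul_mem (inv_mem hx) ha, (QuotientGroup.eq_one_iff _).mp ?_⟩
    show f (x⁻¹ * a * (x⁻¹ * a)) = 1
    have hzam : z⁻¹ * (a * a) ∈ N := (D.cover hzP hzN (D.sqP ha)).resolve_left fun h => haW ⟨ha, h⟩
    rw [map_mul, map_mul, (show Commute (f a) (f x⁻¹) from hfc a ha _ (inv_mem hx)).mul_mul_mul_comm,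
      ← map_mul, ← map_mul, ← map_mul]
    refine (QuotientGroup.eq_one_iff _).mpr ?_
    rw [← mul_inv_rev, ← hz]
    exact hzam
  have hWc : Nat.card W = 8 * Nat.card P := by
    have hidx : (W.subgroupOf Q).index = 2 := by
      rw [index_eq_two_iff]
      refine ⟨⟨x, hx⟩⁻¹, fun b => ?_⟩
      rcases hdec b b.2 with h | h
      · refine Or.inr ⟨h, fun h' => ?_⟩
        have h'' : (b : X) * x⁻¹ ∈ W := h'
        exact hxW (by simpa using mul_mem (inv_mem h'') h)
      · have h2' : (b : X) * x⁻¹ ∈ W := by simpa using hWn.conj_mem _ h x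
        refine Or.inl ⟨h2', fun hb => hxW ?_⟩
        have hb' : (b : X) ∈ W := hb
        simpa using mul_mem (inv_mem h2') hb'
    have h := (W.subgroupOf Q).card_mul_index
    rw [Nat.card_congr (subgroupOfEquivOfLe hWQ).toEquiv, hidx, D.cardQ] at h
    omega
  have hsqQP : ∀ a ∈ Q, a * a ∈ P := fun a ha => D.sqP ha
  have hQW : ∀ g, ∀ a ∈ Q, g * a * g⁻¹ * a⁻¹ ∈ W := by
    intro g a ha
    by_contra hne
    exact not_moves_small H hWQ (secCent_of_sq H le_rfl (fun a ha => hPW (hsqQP a ha)))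
      (by rw [hWc, D.cardQ]; omega) ⟨g, a, ha, hne⟩
  have hmW : Moves W P := by
    by_contra hno
    refine stable H (C := W) (secCent_of_sq H le_rfl hsqQP) (fun c hc => hsqQP c (hWQ hc)) hQW ?_ D.moves
    intro g c hc
    by_contra hne
    exact hno ⟨g, c, hc, hne⟩
  obtain ⟨ρ, π, hρ, hker, hπ⟩ := coords H W P hPW hWc (fun a ha => hsqQP a (hWQ ha))
    (secCent_of_sq H hWQ hsqQP) hmW
  have hρker : ∀ {q}, q ∈ Q → ρ q = 1 := fun {q} hq => by rw [← MonoidHom.mem_ker, hker]; exact hq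
  have hkerQ : ∀ {q}, ρ q = 1 → q ∈ Q := fun {q} hq => by rw [← hker]; exact hq
  have hPcW : ∀ p ∈ P, ∀ a ∈ W, p * a = a * p := fun p hp a ha => hPc p hp a (hWQ ha)
  let β : X → X := fun a => x * a * x⁻¹ * a⁻¹
  have hβN : ∀ a ∈ W, β a ∈ N := fun a ha => D.comm x hx a (hWQ ha)
  have hβP : ∀ p ∈ P, β p = 1 := fun p hp => by
    show x * p * x⁻¹ * p⁻¹ = 1
    rw [← hPc p hp x hx, mul_inv_cancel_right, mul_inv_cancel]
  have hab_of : (∀ a ∈ W, ∀ b ∈ W, a * b = b * a) → (∀ w ∈ W, β w = 1) → ∀ a ∈ Q, ∀ b ∈ Q, a * b = b * a := by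
    intro hWab hβ1
    have hxc : ∀ w ∈ W, Commute x w := fun w hw => by
      have := hβ1 w hw
      simp only [β, mul_inv_eq_iff_eq_mul, one_mul] at this
      exact this
    have key : ∀ w ∈ W, ∀ a ∈ Q, Commute w a := by
      intro w hw a ha
      rcases hdec a ha with h' | h'
      · exact hWab w hw a h'
      · rw [show a = x * (x⁻¹ * a) from (mul_inv_cancel_left x a).symm]
        exact (hxc w hw).symm.mul_right (hWab w hw _ h')
    have hx' : ∀ a ∈ Q, Commute x a := by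
      intro a ha
      rcases hdec a ha with h' | h'
      · exact hxc a h'
      · rw [show a = x * (x⁻¹ * a) from (mul_inv_cancel_left x a).symm]
        exact (Commute.refl x).mul_right (hxc _ h')
    intro a ha b hb
    rcases hdec a ha with h' | h'
    · exact (key a h' b hb).eq
    · rw [show a = x * (x⁻¹ * a) from (mul_inv_cancel_left x a).symm]
      exact ((hx' b hb).mul_left (key _ h' b hb)).eq
  have hβg : (∀ a ∈ W, ∀ b ∈ W, a * b = b * a) → ∀ g, ∀ a ∈ W, β (g * a * g⁻¹) = g * β a * g⁻¹ := by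
    intro hWab g a ha
    have hg' := hQW g x hx
    set w0 := g * x * g⁻¹ * x⁻¹ with hw0
    have e : g * β a * g⁻¹ = w0 * β (g * a * g⁻¹) * w0⁻¹ * (w0 * (g * a * g⁻¹) * w0⁻¹ * (g * a * g⁻¹)⁻¹) := by
      simp only [β, hw0]; group
    rw [← D.cen _ (hβN _ (hWn.conj_mem a ha g)) w0 (hWQ hg'), mul_inv_cancel_right,
      hWab w0 hg' _ (hWn.conj_mem a ha g), mul_inv_cancel_right, mul_inv_cancel, mul_one] at e
    exact e.symm
  have hβmul : ∀ a ∈ W, ∀ b ∈ W, β (a * b) = β a * β b := fun a ha b hb => by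
    calc x * (a * b) * x⁻¹ * (a * b)⁻¹ = β a * (a * β b * a⁻¹) := by simp only [β]; group
      _ = β a * β b := by rw [← D.cen _ (hβN b hb) a (hWQ ha), mul_inv_cancel_right]
  rcases D.small with h2 | ⟨h8, htr⟩
  · have hPX : ∀ p ∈ P, ∀ g, g * p = p * g := central_of_card_two H P (by rw [D.cardP, h2]) hPc
    by_cases hz1 : z * z = 1
    · obtain ⟨-, hab⟩ := D.quot_layer H z hzP hzN hz1 (hPX z hzP)
      exact D.false_four H h2 hab (fun p hp => (hPsq p hp).elim id (fun e => e.trans hz1)) hPX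
    have hNX : ∀ n ∈ N, ∀ g, g * n = n * g := fun n hn => hPX n (D.leN hn)
    obtain ⟨n, hn⟩ : ∃ n, n = z * z := ⟨_, rfl⟩
    have hn1 : n ≠ 1 := fun e => hz1 (hn ▸ e)
    have hnN : n ∈ N := hn ▸ hzz
    have hnn : n * n = 1 := D.elem n hnN
    have hN2 : zpowers n = N := eq_of_le_of_card_ge (zpowers_le.mpr hnN) (by
      rw [Nat.card_zpowers, orderOf_eq_prime (p := 2) (by rw [pow_two]; exact hnn) hn1, h2])
    have hWab : ∀ a ∈ W, ∀ b ∈ W, a * b = b * a := fun a ha b hb =>
      inv_form_trivial hρ hπ N hNX D.elem (fun a ha b hb => D.comm a (hWQ ha) b (hWQ hb)) hPcW ha hb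
    have hab := hab_of hWab fun w hw => inv_hom_trivial hρ hπ β hβmul hβP
      (fun g a ha => by rw [hβg hWab g a ha, hNX _ (hβN a ha) g, mul_inv_cancel_right]) hw
    let U : Subgroup X :=
      { carrier := {a | a ∈ Q ∧ a * a = 1}
        one_mem' := ⟨Q.one_mem, mul_one 1⟩
        mul_mem' := by
          rintro a b ⟨ha, ha2⟩ ⟨hb, hb2⟩
          refine ⟨mul_mem ha hb, ?_⟩
          rw [(show Commute b a from hab b hb a ha).mul_mul_mul_comm, ha2, hb2, one_mul]
        inv_mem' := by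
          rintro a ⟨ha, ha2⟩
          exact ⟨inv_mem ha, by rw [← mul_inv_rev, ha2, inv_one]⟩ }
    haveI hUn : U.Normal :=
      ⟨fun a ha g => ⟨H.norm.conj_mem a ha.1 g, by rw [conj_mul, ha.2, mul_one, mul_inv_cancel]⟩⟩
    have hUW : U ≤ W := fun a ha => ⟨ha.1, by rw [ha.2]; exact one_mem _⟩
    have hWU : ∀ a ∈ W, a ∈ U ∨ z⁻¹ * a ∈ U := by
      intro a ha
      rcases mem_zpowers_two hnn (hN2.ge ha.2) with e | e
      · exact Or.inl ⟨ha.1, e⟩
      · refine Or.inr ⟨mul_mem (inv_mem (D.leP hzP)) ha.1, ?_⟩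
        rw [(show Commute a z⁻¹ from hab a ha.1 _ (inv_mem (D.leP hzP))).mul_mul_mul_comm, e, ← mul_inv_rev,
          ← hn, inv_mul_cancel]
    have hπU : Coord ρ U (zpowers n) π := by
      refine ⟨?_, fun a ha b hb => hπ.add a (hUW ha) b (hUW hb), ?_, ?_, fun g a ha => hπ.equiv g a (hUW ha)⟩
      · rw [hN2]; exact fun a ha => ⟨hNQ ha, D.elem a ha⟩
      · intro v
        obtain ⟨a, ha, e⟩ := hπ.surj v
        rcases hWU a ha with h | h
        · exact ⟨a, h, e⟩
        · refine ⟨z⁻¹ * a, h, ?_⟩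
          rw [hπ.add _ (hPW (inv_mem hzP)) _ ha, (hπ.zero _ (hPW (inv_mem hzP))).mpr (inv_mem hzP), zero_add, e]
      · intro a ha
        rw [hπ.zero a (hUW ha), hN2]
        refine ⟨fun hp => ?_, fun h => D.leN h⟩
        rcases D.cover hzP hzN hp with h | h
        · exact h
        · exfalso
          refine hz1 ?_
          have e : (z⁻¹ * a) * (z⁻¹ * a) = 1 := D.elem _ h
          rw [(show Commute a z⁻¹ from hab a ha.1 _ (inv_mem (D.leP hzP))).mul_mul_mul_comm, ha.2, mul_one,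
            ← mul_inv_rev, inv_eq_one] at e
          exact e
    -- the fourth power of a lift of `R` lies in `W`
    obtain ⟨r, hr⟩ := hρ R
    have hrW : r ^ 4 ∈ W := by
      obtain ⟨y, hy⟩ : ∃ y, y = r ^ 4 := ⟨_, rfl⟩
      have hyQ : y ∈ Q := hkerQ (by rw [hy, map_pow, hr, R_four])
      rw [← hy]
      by_contra hyW
      obtain ⟨s, hs⟩ := hρ S
      have hq : r * s * r * s⁻¹ ∈ Q := hkerQ (by
        simp only [map_mul, map_inv, hr, hs]
        rw [mul_assoc R S R, mul_assoc R (S * R) S⁻¹, S_inv, mul_inv_cancel])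
      set q := r * s * r * s⁻¹ with hqdef
      letI : CommGroup Q :=
        { (inferInstance : Group Q) with mul_comm := fun a b => Subtype.ext (hab a a.2 b b.2) }
      let c : X → Q →* Q := fun g => (MulAut.conjNormal g : MulAut Q).toMonoidHom
      let q' : Q := ⟨q, hq⟩
      let Nq : Q := c (r ^ 3) q' * c (r ^ 2) q' * c r q' * q'
      have hsy : s * y * s⁻¹ = y⁻¹ * (Nq : X) := by
        show _ = y⁻¹ * ((r ^ 3 * q * (r ^ 3)⁻¹) * (r ^ 2 * q * (r ^ 2)⁻¹) * (r * q * r⁻¹) * q)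
        rw [hy, show s * r ^ 4 * s⁻¹ = (s * r * s⁻¹) ^ 4 from conj_pow.symm,
          show s * r * s⁻¹ = r⁻¹ * q by rw [hqdef]; group]
        simp only [pow_succ, pow_zero, one_mul, mul_inv_rev, mul_assoc, inv_mul_cancel_left]
      have hy2 : y * y ∈ P := D.sqP hyQ
      have hy2N : y * y ∉ N := fun h => hyW ⟨hyQ, h⟩
      have hNq : (Nq : X) * Nq = 1 := by
        have hc : ∀ g, c g (q' * q') = q' * q' := fun g => Subtype.ext (by
          show g * (q * q) * g⁻¹ = q * q
          rw [hPX _ (D.sqP hq) g, mul_inv_cancel_right])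
        have h1 : Nq * Nq = (q' * q') * (q' * q') * ((q' * q') * (q' * q')) := by
          have : Nq * Nq = c (r ^ 3) (q' * q') * c (r ^ 2) (q' * q') * c r (q' * q') * (q' * q') := by
            simp only [Nq, map_mul, mul_comm, mul_left_comm, mul_assoc]
          rw [this, hc, hc, hc, mul_assoc]
        refine (congrArg Subtype.val h1).trans ?_
        show q * q * (q * q) * (q * q * (q * q)) = 1
        rcases hPsq _ (D.sqP hq) with e | e <;> rw [e]
        · exact mul_one 1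
        · rw [← hn, hnn]
      have h4 : y * y = y⁻¹ * y⁻¹ := by
        have h1 : s * y * s⁻¹ * (s * y * s⁻¹) = y * y := by rw [conj_mul, hPX _ hy2 s, mul_inv_cancel_right]
        rw [hsy, (show Commute (Nq : X) y⁻¹ from hab _ Nq.2 _ (inv_mem hyQ)).mul_mul_mul_comm, hNq, mul_one] at h1
        exact h1.symm
      have h5 : y * y * (y * y) = 1 := by
        conv_lhs => enter [2]; rw [h4]
        group
      rcases D.cover hzP hzN hy2 with h | h
      · exact hy2N h
      · rw [show y * y = z * (z⁻¹ * (y * y)) from (mul_inv_cancel_left _ _).symm,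
          (show Commute (z⁻¹ * (y * y)) z from D.cen _ h z (D.leP hzP)).mul_mul_mul_comm, D.elem _ h, mul_one] at h5
        exact hz1 h5
    obtain ⟨X0, hWX, hX0, hsur⟩ := exists_supplement H hρ hker W hWQ (by rw [hWc, D.cardQ]; omega) r hr hrW
    obtain ⟨r0, hr0, hρr0⟩ := hsur R
    set ρ0 : X0 →* G3 := ρ.comp X0.subtype
    have hρ0 : Function.Surjective ρ0 := fun g => by
      obtain ⟨a, ha, e⟩ := hsur g; exact ⟨⟨a, ha⟩, e⟩
    have hk0 : ∀ q : X0, ρ0 q = 1 → (q : X) ∈ W := fun q hq => hX0.le ⟨q.2, hkerQ hq⟩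
    have hzX0 : z ∈ X0 := hWX (hPW hzP)
    have hnX0 : n ∈ X0 := hWX (hPW (D.leN hnN))
    have hπ0 := hπU.restrict X0 (hUW.trans hWX)
    have hz0 : ∀ g : X0, g * ⟨z, hzX0⟩ = ⟨z, hzX0⟩ * g := fun g => Subtype.ext (hPX z hzP g)
    have hQ0 : ∀ q : X0, ρ0 q = 1 → ∃ v ∈ U.subgroupOf X0, q = v ∨ q = ⟨z, hzX0⟩ * v := by
      intro q hq
      rcases hWU _ (hk0 q hq) with h | h
      · exact ⟨q, h, Or.inl rfl⟩
      · exact ⟨⟨z, hzX0⟩⁻¹ * q, h, Or.inr (mul_inv_cancel_left _ _).symm⟩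
    have hnB : (zpowers n).subgroupOf X0 = zpowers (⟨n, hnX0⟩ : X0) := by
      ext a
      rw [mem_subgroupOf, mem_zpowers_iff, mem_zpowers_iff]
      exact ⟨fun ⟨k, e⟩ => ⟨k, Subtype.ext e⟩, fun ⟨k, e⟩ => ⟨k, congrArg Subtype.val e⟩⟩
    rw [hnB] at hπ0
    haveI : (U.subgroupOf X0).Normal := hUn.subgroupOf X0
    have hUk : U.subgroupOf X0 ≤ ρ0.ker := fun a ha => hρker (hWQ (hUW ha))
    rcases hWU _ (hk0 (⟨r0, hr0⟩ ^ 4) (by rw [map_pow]; show ρ r0 ^ 4 = 1; rw [hρr0, R_four])) with h | h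
    · haveI : (zpowers (⟨n, hnX0⟩ : X0)).Normal := by
        rw [← hnB, hN2]; exact hN.subgroupOf X0
      set M0 := zpowers (⟨n, hnX0⟩ : X0)
      have hM0k : M0 ≤ ρ0.ker := hπ0.le.trans hUk
      have hπ1 := hπ0.push M0 le_rfl hM0k
      rw [QuotientGroup.map_mk'_self] at hπ1
      set f0 := QuotientGroup.mk' M0
      have hf0 : Function.Surjective f0 := QuotientGroup.mk'_surjective M0
      haveI : ((U.subgroupOf X0).map f0).Normal := Subgroup.Normal.map ‹_› f0 hf0
      refine kill_A (ρ := QuotientGroup.lift M0 ρ0 hM0k) ?_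
        (Cfsg.Agent.Signalizer.AltFive.rank_map (rank_sub H.rank X0) f0 hf0) _ hπ1 ?_ ?_
        (f0 ⟨z, hzX0⟩) ?_ ?_ ?_ ?_ ?_ (f0 ⟨r0, hr0⟩) hρr0 ?_
      · intro g
        obtain ⟨a, rfl⟩ := hρ0 g
        exact ⟨f0 a, rfl⟩
      · rintro _ ⟨a, ha, rfl⟩; exact hUk ha
      · intro q hq
        obtain ⟨q, rfl⟩ := hf0 q
        rintro _ ⟨v, hv, rfl⟩
        rw [← map_mul, ← map_mul]
        exact congrArg f0 (Subtype.ext (hab _ (hkerQ hq) _ (hWQ (hUW hv))))
      · intro g
        obtain ⟨g, rfl⟩ := hf0 g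
        rw [← map_mul, ← map_mul, hz0 g]
      · rw [← map_mul]
        exact (QuotientGroup.eq_one_iff _).mpr (mem_zpowers_iff.mpr ⟨1, Subtype.ext (by rw [zpow_one]; exact hn)⟩)
      · exact hρker (D.leP hzP)
      · rintro ⟨v, hv, e⟩
        have h' : ((v⁻¹ * ⟨z, hzX0⟩ : X0) : X) ∈ U := hπ0.le (QuotientGroup.eq.mp e)
        exact hz1 (by
          have := mul_mem (show (v : X) ∈ U from hv) h'
          rw [Subgroup.coe_mul, Subgroup.coe_inv, mul_inv_cancel_left] at this
          exact this.2)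
      · intro q hq
        obtain ⟨q, rfl⟩ := hf0 q
        obtain ⟨v, hv, e | e⟩ := hQ0 q hq
        · exact ⟨f0 v, mem_map_of_mem f0 hv, Or.inl (by rw [e])⟩
        · exact ⟨f0 v, mem_map_of_mem f0 hv, Or.inr (by rw [e, map_mul])⟩
      · rw [← map_pow]; exact mem_map_of_mem f0 h
    · refine kill_twist hρ0 (U.subgroupOf X0) ⟨n, hnX0⟩ (fun e => hn1 (congrArg Subtype.val e)) hπ0 hUk
        (fun v hv => Subtype.ext hv.2) (fun q hq v hv => Subtype.ext (hab _ (hkerQ hq) _ (hWQ (hUW hv))))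
        ⟨z, hzX0⟩ hz0 (Subtype.ext hn.symm) hQ0 ⟨r0, hr0⟩ hρr0 (⟨z, hzX0⟩⁻¹ * ⟨r0, hr0⟩ ^ 4) h
        (mul_inv_cancel_left _ _).symm
  · have hz2 : z * z = 1 := by
      refine small_fixed_eq h8 htr hzz fun g => ?_
      refine mul_inv_eq_iff_eq_mul.mp ?_
      rw [← conj_mul]
      have hm := hgz g
      set m := g * z * g⁻¹ * z⁻¹ with hm'
      rw [show g * z * g⁻¹ = m * z by rw [hm', inv_mul_cancel_right],
        (show Commute m z from D.cen m hm z (D.leP hzP)).symm.mul_mul_mul_comm, D.elem m hm, one_mul]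
    have hP2 : ∀ p ∈ P, p * p = 1 := fun p hp => (hPsq p hp).elim id (fun e => e.trans hz2)
    have hnofix : ∀ p ∈ P, p ∉ N → ¬ ∀ g, g * p = p * g := by
      intro p hp hpN hfix
      have := (D.quot_layer H p hp hpN (hP2 p hp) hfix).1
      omega
    rcases quad hρ hπ N (fun n hn a ha => D.cen n hn a (hWQ ha)) D.elem D.small (fun a ha => ha.2) hP2 hPcW
      with h0 | ⟨-, hWab, hB⟩
    · have := elem_sub_le H.rank W h0
      rw [hWc, D.cardP, h8] at this
      omega
    have hcoset : ∀ a ∈ Q, a ∉ W → a * a ∈ P ∧ a * a ∉ N := fun a ha haW =>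
      ⟨D.sqP ha, fun h => haW ⟨ha, h⟩⟩
    rcases beta_eps hρ hπ hWab hB N h8 (fun a ha => ha.2) β hβN hβP (hβg hWab) (fun a ha b hb => by
      rw [hβmul a ha b (hPW hb), hβP b hb, mul_one]) with hε | hε
    swap
    · refine hnofix z hzP hzN fun g => mul_inv_eq_iff_eq_mul.mp ?_
      have hg' := hQW g x hx
      set w := g * x * g⁻¹ * x⁻¹ with hw
      have e : g * x * g⁻¹ = x * (x⁻¹ * w * x) := by rw [hw]; group
      have hw' : x⁻¹ * w * x ∈ W := by simpa using hWn.conj_mem _ hg' x⁻¹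
      rw [hz, ← conj_mul, e]
      set v := x⁻¹ * w * x
      calc x * v * (x * v) = (x * v * x⁻¹ * v⁻¹) * v * (x * x * v) := by group
        _ = v * v * v * (v * (x * x)) := by
          rw [← hz, hzQ v (hWQ hw'), hz, show x * v * x⁻¹ * v⁻¹ = v * v from hε v hw']
        _ = (v * v) * (v * v) * (x * x) := by group
        _ = x * x := by rw [D.elem _ hw'.2, one_mul]
    have hab := hab_of hWab hε
    have hsqiff : ∀ a ∈ Q, (a * a = 1 ↔ a ∈ P) := by
      intro a ha
      refine ⟨fun h1 => ?_, hP2 a⟩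
      by_cases haW : a ∈ W
      · exact (hB a haW).mp h1
      · exact absurd (by rw [h1]; exact one_mem _) (hcoset a ha haW).2
    obtain ⟨r, hr⟩ := hρ R
    have hnolift : ∀ w ∈ W, r * (x * w) * r⁻¹ * (x * w)⁻¹ ∉ P := by
      intro w hw hmem
      set fP := QuotientGroup.mk' P
      have hfP : Function.Surjective fP := QuotientGroup.mk'_surjective P
      have hPk : P ≤ ρ.ker := fun p hp => hρker (D.leP hp)
      let ρ' : X ⧸ P →* G3 := QuotientGroup.lift P ρ hPk
      have hρ' : Function.Surjective ρ' := fun g => by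
        obtain ⟨a, rfl⟩ := hρ g; exact ⟨fP a, rfl⟩
      have hρ'k : ρ'.ker = Q.map fP := by rw [QuotientGroup.ker_lift, hker]
      have hW8 : Nat.card (W.map fP) = 8 := by
        have := card_map_mk' W P hPW
        rw [hWc] at this
        exact (Nat.eq_of_mul_eq_mul_right Nat.card_pos this).symm
      have hcm : (W.map fP).comap fP = W := comap_map_eq_self (by rw [QuotientGroup.ker_mk']; exact hPW)
      have hmemW : ∀ {a}, fP a ∈ W.map fP → a ∈ W := fun {a} h => hcm.le h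
      have hxw : x * w ∈ Q := mul_mem hx (hWQ hw)
      obtain ⟨x1, hx1, hx1fix⟩ := coset_fixed (H.quot P D.leP) hρ' hρ'k (W.map fP) hW8 (fP (x * w)) (fP r) hr
        ((mk_comm_iff P r (x * w)).mpr hmem)
        (fun y hy g => by
          obtain ⟨y, rfl⟩ := hfP y
          obtain ⟨g, rfl⟩ := hfP g
          rw [← map_inv, ← map_mul] at hy
          have hyW := hmemW hy
          have hyQ : y ∈ Q := by
            have := mul_mem hxw (hWQ hyW); rwa [mul_inv_cancel_left] at this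
          rw [← map_inv, ← map_inv, ← map_mul, ← map_mul, ← map_mul]
          refine mem_map_of_mem fP ?_
          rw [show (x * w)⁻¹ * (g * y * g⁻¹) =
            (x * w)⁻¹ * (g * y * g⁻¹ * y⁻¹) * (x * w) * ((x * w)⁻¹ * y) by group]
          exact mul_mem (by simpa using hWn.conj_mem _ (hQW g y hyQ) (x * w)⁻¹) hyW)
        (fun y hy q hq => by
          obtain ⟨y, rfl⟩ := hfP y
          obtain ⟨q, hq', rfl⟩ := hq
          rw [← map_inv, ← map_mul] at hy
          have hyQ : y ∈ Q := by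
            have := mul_mem hxw (hWQ (hmemW hy)); rwa [mul_inv_cancel_left] at this
          rw [← map_mul, ← map_mul, hab q hq' y hyQ])
      obtain ⟨y, rfl⟩ := hfP x1
      rw [← map_inv, ← map_mul] at hx1
      have hyW' := hmemW hx1
      have hyQ : y ∈ Q := by
        have := mul_mem hxw (hWQ hyW'); rwa [mul_inv_cancel_left] at this
      have hyW : y ∉ W := fun h => hxW (by
        have := mul_mem (mul_mem h (inv_mem hyW')) (inv_mem hw)
        rwa [mul_inv_rev, inv_inv, mul_inv_cancel_left, mul_inv_cancel_right] at this)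
      obtain ⟨hy2, hy2N⟩ := hcoset y hyQ hyW
      refine hnofix _ hy2 hy2N fun g => mul_inv_eq_iff_eq_mul.mp ?_
      have hp := (mk_comm_iff P g y).mp (hx1fix (fP g))
      set p := g * y * g⁻¹ * y⁻¹ with hpdef
      rw [← conj_mul, show g * y * g⁻¹ = p * y by rw [hpdef, inv_mul_cancel_right],
        (show Commute p y from hPc p hp y hyQ).symm.mul_mul_mul_comm, hP2 p hp, one_mul]
    letI : CommGroup Q :=
      { (inferInstance : Group Q) with mul_comm := fun a b => Subtype.ext (hab a a.2 b b.2) }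
    let c : X → MulAut Q := fun g => MulAut.conjNormal g
    have hcv : ∀ g (a : Q), (c g a : X) = g * a * g⁻¹ := fun g a => rfl
    have h4 : ∀ a : Q, a ^ 4 = 1 := fun a => Subtype.ext (by
      show (a : X) ^ 4 = 1
      rw [show (a : X) ^ 4 = a * a * (a * a) by simp only [pow_succ, pow_zero, one_mul, mul_assoc]]
      exact hP2 _ (D.sqP a.2))
    set a0 : Q := ⟨x, hx⟩
    set a1 := c r a0
    set a2 := c r a1
    set a3 := c r a2
    let Ev : (Fin 4 → ZMod 4) →+ Additive Q :=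
      { toFun := fun v => Additive.ofMul (a0 ^ (v 0).val * a1 ^ (v 1).val * a2 ^ (v 2).val * a3 ^ (v 3).val)
        map_zero' := by simp
        map_add' := fun v w => by
          rw [← ofMul_mul, Pi.add_apply, Pi.add_apply, Pi.add_apply, Pi.add_apply, pow_four_val (h4 a0),
            pow_four_val (h4 a1), pow_four_val (h4 a2), pow_four_val (h4 a3)]
          congr 1
          simp only [mul_assoc, mul_left_comm] }
    let R0 : Subgroup Q :=
      { carrier := {a | ∃ v, Additive.toMul (Ev v) = a}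
        one_mem' := ⟨0, by rw [map_zero]; rfl⟩
        mul_mem' := by
          rintro a b ⟨v, rfl⟩ ⟨w, rfl⟩
          exact ⟨v + w, by rw [map_add]; rfl⟩
        inv_mem' := by
          rintro a ⟨v, rfl⟩
          exact ⟨-v, by rw [map_neg]; rfl⟩ }
    have hmem0 : a0 ∈ R0 ∧ a1 ∈ R0 ∧ a2 ∈ R0 ∧ a3 ∈ R0 := by
      have one1 : (1 : ZMod 4).val = 1 := rfl
      refine ⟨⟨![1, 0, 0, 0], ?_⟩, ⟨![0, 1, 0, 0], ?_⟩, ⟨![0, 0, 1, 0], ?_⟩, ⟨![0, 0, 0, 1], ?_⟩⟩
      · show a0 ^ (1 : ZMod 4).val * a1 ^ (0 : ZMod 4).val * a2 ^ (0 : ZMod 4).val * a3 ^ (0 : ZMod 4).val = a0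
        simp [one1, ZMod.val_zero]
      · show a0 ^ (0 : ZMod 4).val * a1 ^ (1 : ZMod 4).val * a2 ^ (0 : ZMod 4).val * a3 ^ (0 : ZMod 4).val = a1
        simp [one1, ZMod.val_zero]
      · show a0 ^ (0 : ZMod 4).val * a1 ^ (0 : ZMod 4).val * a2 ^ (1 : ZMod 4).val * a3 ^ (0 : ZMod 4).val = a2
        simp [one1, ZMod.val_zero]
      · show a0 ^ (0 : ZMod 4).val * a1 ^ (0 : ZMod 4).val * a2 ^ (0 : ZMod 4).val * a3 ^ (1 : ZMod 4).val = a3
        simp [one1, ZMod.val_zero]
    set d : Q := a1 * a0⁻¹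
    have hdR : d ∈ R0 := mul_mem hmem0.2.1 (inv_mem hmem0.1)
    have hdv : (d : X) = r * x * r⁻¹ * x⁻¹ := rfl
    have hdW : (d : X) ∈ W := hdv ▸ hQW r x hx
    have hd0 : π (d : X) 0 ≠ 0 := by
      intro h0
      obtain ⟨v, hv⟩ := coord_zero _ h0
      obtain ⟨w, hw, rfl⟩ := hπ.surj v
      refine hnolift w hw ?_
      have hrw := hWn.conj_mem w hw r
      have e : r * (x * w) * r⁻¹ * (x * w)⁻¹ = (d : X) * (x * (r * w * r⁻¹ * w⁻¹) * x⁻¹) := by rw [hdv]; group
      rw [e, hab x hx _ (hWQ (mul_mem hrw (inv_mem hw))), mul_inv_cancel_right]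
      have hwm := mul_mem hrw (inv_mem hw)
      rw [← hπ.zero _ (mul_mem hdW hwm), hπ.add _ hdW _ hwm, hπ.add _ hrw _ (inv_mem hw), hπ.inv hw,
        hπ.equiv r w hw, hr, add_comm (act R (π w)), hv]
      exact funext fun i => CharTwo.add_self_eq_zero _
    have hcd : c r d = a2 * a1⁻¹ := by
      show c r (a1 * a0⁻¹) = a2 * a1⁻¹
      rw [map_mul, map_inv]
    have hccd : c r (c r d) = a3 * a2⁻¹ := by rw [hcd, map_mul, map_inv]
    have hcdR : c r d ∈ R0 := hcd ▸ mul_mem hmem0.2.2.1 (inv_mem hmem0.2.1)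
    have hccdR : c r (c r d) ∈ R0 := hccd ▸ mul_mem hmem0.2.2.2 (inv_mem hmem0.2.2.1)
    have hcdW : (c r d : X) ∈ W := by rw [hcv]; exact hWn.conj_mem _ hdW r
    have hccdW : (c r (c r d) : X) ∈ W := by rw [hcv]; exact hWn.conj_mem _ hcdW r
    have hπcd : π (c r d : X) = act R (π (d : X)) := by rw [hcv, hπ.equiv r _ hdW, hr]
    have hπccd : π (c r (c r d) : X) = act R (act R (π (d : X))) := by rw [hcv, hπ.equiv r _ hcdW, hr, hπcd]
    have hcov : ∀ a : Q, ∃ b ∈ R0, ((b⁻¹ * a : Q) : X) ∈ P := by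
      have hW' : ∀ a : Q, (a : X) ∈ W → ∃ b ∈ R0, ((b⁻¹ * a : Q) : X) ∈ P := by
        intro a haW
        obtain ⟨i, j, k, hv⟩ := span_first _ (π (a : X)) hd0
        have pick : ∀ (i : Bool) (b : Q) (v : V3), b ∈ R0 → (b : X) ∈ W → π (b : X) = v →
            ∃ y ∈ R0, (y : X) ∈ W ∧ π (y : X) = if i then v else 0 := by
          intro i b v h1 h2 h3
          cases i
          · exact ⟨1, one_mem _, one_mem _, hπ.one⟩
          · exact ⟨b, h1, h2, h3⟩
        obtain ⟨b1, h1, h1W, h1π⟩ := pick i d _ hdR hdW rfl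
        obtain ⟨b2, h2, h2W, h2π⟩ := pick j (c r d) _ hcdR hcdW hπcd
        obtain ⟨b3, h3, h3W, h3π⟩ := pick k (c r (c r d)) _ hccdR hccdW hπccd
        refine ⟨b1 * b2 * b3, mul_mem (mul_mem h1 h2) h3, ?_⟩
        exact hπ.same (mul_mem (mul_mem h1W h2W) h3W) haW (by
          rw [Subgroup.coe_mul, Subgroup.coe_mul, hπ.add _ (mul_mem h1W h2W) _ h3W, hπ.add _ h1W _ h2W, h1π,
            h2π, h3π, hv])
      intro a
      rcases hdec a a.2 with h | h
      · exact hW' a h
      · obtain ⟨b, hb, hbP⟩ := hW' (a0⁻¹ * a) h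
        refine ⟨a0 * b, mul_mem hmem0.1 hb, ?_⟩
        rwa [mul_inv_rev, mul_assoc]
    obtain ⟨φ, hφ, hφr⟩ := sq_range D.gen hab
    have hPR : ∀ a : Q, (a : X) ∈ P → a ∈ R0 := by
      intro a ha
      obtain ⟨b, hb⟩ := hφr.ge ha
      obtain ⟨b', hb', hbP⟩ := hcov b
      have e : a = b' * b' := Subtype.ext (by
        rw [← hb, hφ, Subgroup.coe_mul]
        have h1 : (b : X) = (b' : X) * ((b'⁻¹ * b : Q) : X) := by
          rw [Subgroup.coe_mul, Subgroup.coe_inv, mul_inv_cancel_left]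
        rw [h1, (show Commute ((b'⁻¹ * b : Q) : X) (b' : X) from hPc _ hbP _ b'.2).mul_mul_mul_comm,
          hP2 _ hbP, mul_one])
      exact e ▸ mul_mem hb' hb'
    have hsurE : Function.Surjective Ev := by
      intro y
      obtain ⟨b, hb, hbP⟩ := hcov (Additive.toMul y)
      obtain ⟨v, hv⟩ := mul_mem hb (hPR _ hbP)
      rw [mul_inv_cancel_left] at hv
      exact ⟨v, Additive.toMul.injective hv⟩
    have hbij : Function.Bijective Ev := (Nat.bijective_iff_surjective_and_card _).mpr ⟨hsurE, by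
      rw [show Nat.card (Additive Q) = Nat.card Q from rfl, D.cardQ, D.cardP, h8, Nat.card_eq_fintype_card,
        Fintype.card_fun, ZMod.card, Fintype.card_fin]
      norm_num⟩
    let e : (Fin 4 → ZMod 4) ≃+ Additive Q := AddEquiv.ofBijective Ev hbij
    let lin : X → ((Fin 4 → ZMod 4) →ₗ[ZMod 4] (Fin 4 → ZMod 4)) := fun g =>
      ((e.symm.toAddMonoidHom.comp (MonoidHom.toAdditive (c g).toMonoidHom)).comp
        e.toAddMonoidHom).toZModLinearMap 4
    have hlin : ∀ g v, lin g v = e.symm (Additive.ofMul (c g (Additive.toMul (e v)))) := fun g v => rfl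
    let Mg : X →* Matrix (Fin 4) (Fin 4) (ZMod 4) :=
      { toFun := fun g => LinearMap.toMatrix' (lin g)
        map_one' := by
          rw [← LinearMap.toMatrix'_id]
          congr 1
          refine LinearMap.ext fun v => ?_
          rw [hlin]
          show e.symm (Additive.ofMul (MulAut.conjNormal (1 : X) (Additive.toMul (e v)))) = v
          rw [map_one]
          exact e.symm_apply_apply v
        map_mul' := fun g k => by
          rw [← LinearMap.toMatrix'_comp]
          congr 1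
          refine LinearMap.ext fun v => ?_
          rw [LinearMap.comp_apply, hlin, hlin, hlin, e.apply_symm_apply]
          show e.symm (Additive.ofMul (MulAut.conjNormal (g * k) _)) = _
          rw [map_mul]
          rfl }
    have hM : ∀ g v, Additive.toMul (Ev (Mg g *ᵥ v)) = c g (Additive.toMul (Ev v)) := by
      intro g v
      show Additive.toMul (e (LinearMap.toMatrix' (lin g) *ᵥ v)) = _
      rw [LinearMap.toMatrix'_mulVec, hlin, e.apply_symm_apply]
      rfl
    have hM1 : ∀ g, ρ g = 1 → Mg g = 1 := fun g hg => Matrix.ext_of_mulVec_single fun i => by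
      refine hbij.1 (Additive.toMul.injective ?_)
      rw [hM, Matrix.one_mulVec]
      exact Subtype.ext (by rw [hcv, hab g (hkerQ hg) _ (Additive.toMul (Ev _)).2, mul_inv_cancel_right])
    have hdet : (Mg r).det = 1 := by
      have h := congrArg (fun f : X →* (ZMod 4)ˣ => (f r : ZMod 4))
        (H.hom_trivial ((Units.map Matrix.detMonoidHom).comp Mg.toHomUnits) fun q hq => by
          rw [MonoidHom.mem_ker]
          refine Units.ext ?_
          show (Mg q).det = 1
          rw [hM1 q (hρker hq), Matrix.det_one])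
      exact h
    have hcol : ∀ v w, Additive.toMul (Ev w) = c r (Additive.toMul (Ev v)) → Mg r *ᵥ v = w := fun v w h =>
      hbij.1 (Additive.toMul.injective ((hM r v).trans h.symm))
    have hr4 : r ^ 4 ∈ Q := hkerQ (by rw [map_pow, hr, R_four])
    have hca3 : c r a3 = a0 := Subtype.ext (by
      show r * (r * (r * (r * x * r⁻¹) * r⁻¹) * r⁻¹) * r⁻¹ = x
      rw [show r * (r * (r * (r * x * r⁻¹) * r⁻¹) * r⁻¹) * r⁻¹ = r ^ 4 * x * (r ^ 4)⁻¹ by
          rw [show r ^ 4 = r * r * r * r by simp only [pow_succ, pow_zero, one_mul]]; group,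
        hab _ hr4 x hx, mul_inv_cancel_right])
    have hval : ∀ v, Additive.toMul (Ev v) = a0 ^ (v 0).val * a1 ^ (v 1).val * a2 ^ (v 2).val * a3 ^ (v 3).val :=
      fun v => rfl
    have hcolr : ∀ v, Mg r *ᵥ v = ![v 3, v 0, v 1, v 2] := by
      intro v
      refine hcol _ _ ?_
      rw [hval, hval, map_mul, map_mul, map_mul, map_pow, map_pow, map_pow, map_pow,
        show c r a0 = a1 from rfl, show c r a1 = a2 from rfl, show c r a2 = a3 from rfl, hca3]
      show a0 ^ (v 3).val * a1 ^ (v 0).val * a2 ^ (v 1).val * a3 ^ (v 2).val = _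
      simp only [mul_comm, mul_left_comm, mul_assoc]
    have hMr : Mg r = !![0, 0, 0, 1; 1, 0, 0, 0; 0, 1, 0, 0; 0, 0, 1, 0] := by
      refine Matrix.ext_of_mulVec_single fun j => ?_
      rw [hcolr]
      revert j
      decide +kernel
    exact perm_det (hMr ▸ hdet)

end Cfsg.Agent.H34.L32
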