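import Cfsg.Prelude.Def_Transfer
import Cfsg.Agent.H34.L32.Two

/-! The radical of a group of sectional rank four with quotient `GL₃(2)`. -/

set_option autoImplicit false

namespace Cfsg.Agent.H34.L32

open Subgroup

universe u

variable {X : Type u} [Group X] [Finite X] {Q : Subgroup X}

/-- a minimal normal subgroup of `X` inside `Q` -/
theorem min_data (H : Hyp Q) (N : Subgroup X) [hN : N.Normal] (hNQ : N ≤ Q) (hne : N ≠ ⊥)
    (hmin : ∀ K : Subgroup X, K.Normal → K ≤ N → K = ⊥ ∨ K = N) :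
    (∀ n ∈ N, ∀ q ∈ Q, n * q = q * n) ∧ (∀ n ∈ N, n * n = 1) ∧ Small N := by
  haveI := H.norm
  haveI : Fact (Nat.Prime 2) := ⟨Nat.prime_two⟩
  have h2N : IsPGroup 2 N := H.two.to_le hNQ
  have hdvd : 2 ∣ Nat.card N := by
    obtain ⟨k, hk⟩ := IsPGroup.iff_card.mp h2N
    rcases Nat.eq_zero_or_pos k with rfl | hk0
    · exact absurd (Subgroup.card_eq_one.mp (by rw [hk, pow_zero])) hne
    · exact hk ▸ dvd_pow_self 2 hk0.ne'
  have hcen : ∀ n ∈ N, ∀ q ∈ Q, n * q = q * n := by
    haveI : (Subgroup.centralizer (Q : Set X)).Normal := Subgroup.normal_centralizer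
    rcases hmin (N ⊓ centralizer (Q : Set X)) inferInstance inf_le_left with e | e
    · exfalso
      letI : MulAction Q N := MulAction.compHom N ((MulAut.conjNormal (H := N)).comp Q.subtype)
      have h1fix : (1 : N) ∈ MulAction.fixedPoints Q N := fun q =>
        show MulAut.conjNormal (q : X) (1 : N) = 1 from map_one _
      obtain ⟨b, hb, hb1⟩ := H.two.exists_fixed_point_of_prime_dvd_card_of_fixed_point N hdvd h1fix
      have hbc : (b : X) ∈ N ⊓ centralizer (Q : Set X) := ⟨b.2, mem_centralizer_iff.mpr fun q hq => by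
        have h := congrArg Subtype.val (hb ⟨q, hq⟩)
        exact mul_inv_eq_iff_eq_mul.mp (h : q * b * q⁻¹ = b)⟩
      rw [e, mem_bot] at hbc
      exact hb1 (Subtype.ext hbc.symm)
    · intro n hn q hq
      exact (mem_centralizer_iff.mp ((e.ge hn).2) q hq).symm
  have helem : ∀ n ∈ N, n * n = 1 := by
    let K : Subgroup X :=
      { carrier := {n | n ∈ N ∧ n * n = 1}
        one_mem' := ⟨N.one_mem, mul_one 1⟩
        mul_mem' := by
          rintro a b ⟨ha, ha2⟩ ⟨hb, hb2⟩
          refine ⟨mul_mem ha hb, ?_⟩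
          rw [(show Commute b a from hcen b hb a (hNQ ha)).mul_mul_mul_comm, ha2, hb2, one_mul]
        inv_mem' := by
          rintro a ⟨ha, ha2⟩
          exact ⟨inv_mem ha, by rw [← mul_inv_rev, ha2, inv_one]⟩ }
    have hKn : K.Normal := ⟨fun a ha g => ⟨hN.conj_mem a ha.1 g, by rw [conj_mul, ha.2, mul_one, mul_inv_cancel]⟩⟩
    rcases hmin K hKn (fun a ha => ha.1) with e | e
    · exfalso
      obtain ⟨y, hy⟩ := exists_prime_orderOf_dvd_card' (G := N) 2 hdvd
      have h1 : (y : X) ∈ K := ⟨y.2, by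
        have := pow_orderOf_eq_one y
        rw [hy, pow_two] at this
        exact congrArg Subtype.val this⟩
      rw [e, mem_bot] at h1
      rw [show y = 1 from Subtype.ext h1, orderOf_one] at hy
      norm_num at hy
    · exact fun n hn => (e.ge hn).2
  refine ⟨hcen, helem, ?_⟩
  have hsing : ∀ e ∈ N, e ≠ 1 → (∀ g, g * e = e * g) → Nat.card N = 2 := by
    intro e he he1 hfix
    have hn : (zpowers e).Normal := by
      refine ⟨fun n hn g => ?_⟩
      obtain ⟨k, rfl⟩ := mem_zpowers_iff.mp hn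
      rw [((show Commute g e from hfix g).zpow_right k).eq, mul_inv_cancel_right]
      exact zpow_mem (mem_zpowers e) k
    rcases hmin _ hn (zpowers_le.mpr he) with h | h
    · exact absurd (mem_bot.mp (h.le (mem_zpowers e))) he1
    · rw [← h, Nat.card_zpowers]
      exact orderOf_eq_prime (by rw [pow_two]; exact helem e he) he1
  by_cases hm : ∃ g, ∃ v ∈ N, g * v ≠ v * g
  · rcases dim_four H N helem (fun q hq v hv => (hcen v hv q hq).symm) (elem_sub_le H.rank N helem) hm
      with h8 | ⟨h16, hc⟩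
    · refine Or.inr ⟨h8, fun a ha b hb ha1 hb1 => ?_⟩
      obtain ⟨g, v, hv, hne'⟩ := hm
      obtain ⟨ρ, π, hρ, -, hπ⟩ := coords H N ⊥ bot_le (by rw [h8, card_bot]) (fun a ha => mem_bot.mpr (helem a ha))
        (fun q hq => mem_secCent.mpr fun a ha => by
          rw [mem_bot, ← hcen a ha q hq, mul_inv_cancel_right, mul_inv_cancel])
        ⟨g, v, hv, fun h => hne' (by rw [mem_bot, mul_inv_eq_one, mul_inv_eq_iff_eq_mul] at h; exact h)⟩
      obtain ⟨g1, h1⟩ := trans (π a) (fun e => ha1 (mem_bot.mp ((hπ.zero a ha).mp e)))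
      obtain ⟨g2, h2⟩ := trans (π b) (fun e => hb1 (mem_bot.mp ((hπ.zero b hb).mp e)))
      obtain ⟨k, hk⟩ := hρ (g2 * g1⁻¹)
      refine ⟨k, ?_⟩
      have hka := hN.conj_mem a ha k
      exact inv_mul_eq_one.mp (mem_bot.mp (hπ.same hka hb (by
        rw [hπ.equiv k a ha, hk, ← h1, act_mul, act_inv_act, h2])))
    · exfalso
      rcases hc with ⟨e, he, he1, hfix⟩ | ⟨U, hU, hUN, hU8⟩
      · have := hsing e he he1 hfix
        omega
      · rcases hmin U hU hUN with e | e
        · rw [e, card_bot] at hU8; omega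
        · rw [e] at hU8; omega
  · simp only [not_exists, not_and, not_not] at hm
    obtain ⟨e, he, he1⟩ := exists_mem_ne_one_of_ne_bot hne
    exact Or.inl (hsing e he he1 fun g => hm g e he)
where
  exists_mem_ne_one_of_ne_bot {N : Subgroup X} (hne : N ≠ ⊥) : ∃ e ∈ N, e ≠ 1 := by
    by_contra hno
    simp only [not_exists, not_and, not_not] at hno
    exact hne ((Subgroup.eq_bot_iff_forall _).mpr hno)

theorem zmod_two_cases : ∀ k : ZMod 2, k = 0 ∨ k = 1 := by decide +kernel

/-- an abelian group of order 32 with squares of order two is `Z₄ × Z₂³` -/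
theorem iso_four {G : Type u} [Group G] [Finite G] (hab : ∀ a b : G, a * b = b * a) (h32 : Nat.card G = 32)
    (n : G) (hn1 : n ≠ 1) (hsq : ∀ a : G, a * a = 1 ∨ a * a = n) (hne : ∃ a : G, a * a = n) :
    Nonempty (G ≃* Multiplicative (ZMod 4) × (Fin 3 → Multiplicative (ZMod 2))) := by
  classical
  letI : CommGroup G := { (inferInstance : Group G) with mul_comm := hab }
  haveI : Fact (Nat.Prime 2) := ⟨Nat.prime_two⟩
  obtain ⟨x, hx⟩ := hne
  have hsq' : ∀ a : G, a ^ 2 = 1 ∨ a ^ 2 = n := fun a => by rw [pow_two]; exact hsq a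
  set W : Subgroup G := (powMonoidHom 2 : G →* G).ker
  have hWmem : ∀ {a}, a ∈ W ↔ a * a = 1 := fun {a} => by
    show a ^ 2 = 1 ↔ _; rw [pow_two]
  have hxW : x ∉ W := fun h => hn1 (hx.symm.trans (hWmem.mp h))
  have hxx : (x * x) * (x * x) = 1 := by
    rcases hsq (x * x) with h | h
    · exact h
    · exact absurd (mul_eq_left.mp (h.trans hx.symm)) (fun e => hn1 (hx.symm.trans e))
  have hnW : n ∈ W := hWmem.mpr (hx ▸ hxx)
  have hW16 : Nat.card W = 16 := by
    have h := W.card_mul_index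
    rw [index_ker, h32] at h
    have hr : (powMonoidHom 2 : G →* G).range = zpowers n := by
      refine le_antisymm ?_ (zpowers_le.mpr ⟨x, show x ^ 2 = n by rw [pow_two]; exact hx⟩)
      rintro _ ⟨a, rfl⟩
      rcases hsq' a with e | e <;> show a ^ 2 ∈ _ <;> rw [e]
      · exact one_mem _
      · exact mem_zpowers n
    rw [hr, Nat.card_zpowers, orderOf_eq_prime (p := 2) (by rw [pow_two]; exact hWmem.mp hnW) hn1] at h
    omega
  letI : Module (ZMod 2) (Additive W) := AddCommGroup.zmodModule fun a => by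
    show (2 : ℕ) • a = 0
    rw [two_nsmul]
    exact Subtype.ext (hWmem.mp (Additive.toMul a).2)
  haveI : Finite (Additive W) := inferInstanceAs (Finite W)
  set w : Additive W := Additive.ofMul ⟨n, hnW⟩
  have hw : w ≠ 0 := fun e => hn1 (congrArg Subtype.val (ofMul_eq_zero.mp e))
  obtain ⟨C, hC⟩ := Submodule.exists_isCompl (ZMod 2 ∙ w)
  have hd4 : Module.finrank (ZMod 2) (Additive W) = 4 := by
    have h := Module.natCard_eq_pow_finrank (K := ZMod 2) (V := Additive W)
    rw [Nat.card_zmod, show Nat.card (Additive W) = Nat.card W from rfl, hW16] at h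
    exact Nat.pow_right_injective le_rfl (show 2 ^ _ = 2 ^ 4 from h.symm.trans rfl)
  have hd3 : Module.finrank (ZMod 2) C = 3 := by
    have := Submodule.finrank_add_eq_of_isCompl hC
    rw [finrank_span_singleton hw, hd4] at this
    omega
  let eC := (Module.finBasisOfFinrankEq (ZMod 2) C hd3).equivFun
  let toV : (Fin 3 → Multiplicative (ZMod 2)) → (Fin 3 → ZMod 2) := fun v i => Multiplicative.toAdd (v i)
  let fC : (Fin 3 → Multiplicative (ZMod 2)) →* G :=
    { toFun := fun v => ((Additive.toMul ((eC.symm (toV v) : C) : Additive W) : W) : G)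
      map_one' := by
        show ((Additive.toMul ((eC.symm (0 : Fin 3 → ZMod 2) : C) : Additive W) : W) : G) = 1
        rw [map_zero]; rfl
      map_mul' := fun a b => by
        show ((Additive.toMul ((eC.symm (toV a + toV b) : C) : Additive W) : W) : G) = _
        rw [map_add]; rfl }
  have hx4 : x ^ 4 = 1 := by
    rw [show x ^ 4 = x * x * (x * x) by simp only [pow_succ, pow_zero, one_mul, mul_assoc]]; exact hxx
  let fZ : Multiplicative (ZMod 4) →* G :=
    { toFun := fun i => x ^ (Multiplicative.toAdd i).val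
      map_one' := by simp
      map_mul' := fun a b => pow_four_val hx4 _ _ }
  let F := fZ.coprod fC
  have hxF : x ∈ F.range := ⟨(Multiplicative.ofAdd 1, 1), by
    show x ^ (1 : ZMod 4).val * fC 1 = x
    rw [map_one, mul_one]
    exact pow_one x⟩
  have hWF : ∀ a ∈ W, a ∈ F.range := by
    intro a ha
    obtain ⟨y, hy, c, hc, e⟩ := Submodule.mem_sup.mp
      (hC.sup_eq_top.ge (Submodule.mem_top : Additive.ofMul (⟨a, ha⟩ : W) ∈ (⊤ : Submodule (ZMod 2) (Additive W))))
    obtain ⟨k, rfl⟩ := Submodule.mem_span_singleton.mp hy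
    have hcF : ((Additive.toMul c : W) : G) ∈ F.range := by
      refine ⟨(1, fun i => Multiplicative.ofAdd (eC ⟨c, hc⟩ i)), ?_⟩
      rw [MonoidHom.coprod_apply, map_one, one_mul]
      show ((Additive.toMul ((eC.symm (eC ⟨c, hc⟩) : C) : Additive W) : W) : G) = _
      rw [LinearEquiv.symm_apply_apply]
    have e' := congrArg (fun z => ((Additive.toMul z : W) : G)) e
    change ((Additive.toMul (k • w) : W) : G) * ((Additive.toMul c : W) : G) = a at e'
    rw [← e']
    refine mul_mem ?_ hcF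
    have hk := zmod_two_cases k
    rcases hk with rfl | rfl
    · rw [zero_smul]; exact one_mem _
    · rw [one_smul]
      show n ∈ F.range
      rw [← hx]; exact mul_mem hxF hxF
  have hsurF : Function.Surjective F := by
    intro a
    rcases hsq a with h | h
    · exact hWF a (hWmem.mpr h)
    · have h1 : x⁻¹ * a ∈ W := hWmem.mpr (by
        rw [mul_mul_mul_comm, h, ← mul_inv_rev, hx, inv_mul_cancel])
      have := mul_mem hxF (hWF _ h1)
      rwa [mul_inv_cancel_left] at this
  have hbij : Function.Bijective F := (Nat.bijective_iff_surjective_and_card _).mpr ⟨hsurF, by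
    rw [h32, Nat.card_prod, Nat.card_congr (Multiplicative.toAdd (α := ZMod 4)), Nat.card_zmod, Nat.card_pi,
      Fin.prod_univ_three, Nat.card_congr (Multiplicative.toAdd (α := ZMod 2)), Nat.card_zmod]; norm_num⟩
  exact ⟨(MulEquiv.ofBijective F hbij).symm⟩

/-- a maximal normal subgroup properly inside a nontrivial normal subgroup -/
theorem exists_max (P : Subgroup X) [P.Normal] (hP : P ≠ ⊥) :
    ∃ M : Subgroup X, M.Normal ∧ M < P ∧ ∀ K : Subgroup X, K.Normal → M ≤ K → K < P → K = M := by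
  haveI : Finite (Subgroup X) := Finite.of_injective (fun H : Subgroup X => (H : Set X)) SetLike.coe_injective
  obtain ⟨M, ⟨hMn, hMlt⟩, hmax⟩ := (Set.toFinite {K : Subgroup X | K.Normal ∧ K < P}).exists_maximal
    ⟨⊥, normal_bot, bot_lt_iff_ne_bot.mpr hP⟩
  exact ⟨M, hMn, hMlt, fun K hKn hle hlt => le_antisymm (hmax ⟨hKn, hlt⟩ hle) hle⟩

theorem quot_min (P M : Subgroup X) [P.Normal] [M.Normal] (hMP : M < P)
    (hmax : ∀ K : Subgroup X, K.Normal → M ≤ K → K < P → K = M) :
    P.map (QuotientGroup.mk' M) ≠ ⊥ ∧ ∀ K : Subgroup (X ⧸ M), K.Normal →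
      K ≤ P.map (QuotientGroup.mk' M) → K = ⊥ ∨ K = P.map (QuotientGroup.mk' M) := by
  set f := QuotientGroup.mk' M
  have hfs : Function.Surjective f := QuotientGroup.mk'_surjective M
  refine ⟨fun e => not_le_of_gt hMP (fun p hp => ?_), fun K hK hle => ?_⟩
  · exact (QuotientGroup.eq_one_iff p).mp (mem_bot.mp (e ▸ mem_map_of_mem f hp : f p ∈ (⊥ : Subgroup (X ⧸ M))))
  have e := map_comap_eq_self_of_surjective hfs K
  have h1 : K.comap f ≤ P := fun y hy => by
    obtain ⟨p, hp, e'⟩ := hle hy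
    have := mul_mem hp (hMP.le (QuotientGroup.eq.mp e'))
    rwa [mul_inv_cancel_left] at this
  have h2 : M ≤ K.comap f := fun m hm => by
    rw [mem_comap, show f m = 1 from (QuotientGroup.eq_one_iff m).mpr hm]; exact one_mem _
  rcases h1.eq_or_lt with h | h
  · right; rw [← e, h]
  · left; rw [← e, hmax _ (hK.comap f) h2 h]
    exact QuotientGroup.map_mk'_self M

/-- the classification -/
theorem classify (H : Hyp Q) (hm : Moves Q (closure {f | ∃ a ∈ Q, a * a = f})) :
    (Cfsg.IsElementaryAbelian 2 Q ∧ (Nat.card Q = 8 ∨ Nat.card Q = 16)) ∨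
      Nonempty (Q ≃* Multiplicative (ZMod 4) × (Fin 3 → Multiplicative (ZMod 2))) := by
  haveI := H.norm
  haveI hPn : (closure {f | ∃ a ∈ Q, a * a = f}).Normal := closure_sq_normal Q
  set P := closure {f | ∃ a ∈ Q, a * a = f} with hPdef
  have hPQ : P ≤ Q := (closure_le _).mpr (fun f ⟨a, ha, e⟩ => e ▸ mul_mem ha ha)
  have hsqP : ∀ a ∈ Q, a * a ∈ P := fun a ha => subset_closure ⟨a, ha, rfl⟩
  have hcP : ∀ a ∈ Q, ∀ b ∈ Q, a * b * a⁻¹ * b⁻¹ ∈ P := fun a ha b hb => comm_of_sq hsqP ha hb
  by_cases hP : P = ⊥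
  · left
    have h1 : ∀ a ∈ Q, a * a = 1 := fun a ha => mem_bot.mp (hP ▸ hsqP a ha)
    have hc : ∀ a ∈ Q, ∀ b ∈ Q, a * b = b * a := fun a ha b hb => by
      have h := mem_bot.mp (hP ▸ hcP a ha b hb)
      rw [mul_inv_eq_one, mul_inv_eq_iff_eq_mul] at h
      exact h
    refine ⟨⟨⟨⟨fun a b => Subtype.ext (hc a a.2 b b.2)⟩⟩, fun a ha => by rw [pow_two]; exact h1 a ha⟩, ?_⟩
    obtain ⟨g, a, ha, hne⟩ := hm
    have hm' : ∃ g, ∃ v ∈ Q, g * v ≠ v * g := ⟨g, a, ha, fun h => hne (by
      rw [h, mul_inv_cancel_right, mul_inv_cancel]; exact one_mem _)⟩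
    rcases dim_four H Q h1 hc (elem_sub_le H.rank Q h1) hm' with h | ⟨h, -⟩
    · exact Or.inl h
    · exact Or.inr h
  obtain ⟨M, hMn, hMP, hmax⟩ := exists_max P hP
  set f := QuotientGroup.mk' M
  have hfs : Function.Surjective f := QuotientGroup.mk'_surjective M
  haveI : (P.map f).Normal := hPn.map f hfs
  have HY := H.quot M (hMP.le.trans hPQ)
  obtain ⟨hne, hmin⟩ := quot_min P M hMP hmax
  obtain ⟨hcen, helem, hsmall⟩ := min_data HY (P.map f) (map_mono hPQ) hne hmin
  have hmapmoves : ∀ (K : Subgroup X) [K.Normal], K ≤ P → Moves (Q.map (QuotientGroup.mk' K)) (P.map (QuotientGroup.mk' K)) := by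
    intro K _ hK
    obtain ⟨g, a, ha, hne⟩ := hm
    refine ⟨(QuotientGroup.mk' K) g, (QuotientGroup.mk' K) a, mem_map_of_mem _ ha, fun h => hne ?_⟩
    rw [← map_inv, ← map_inv, ← map_mul, ← map_mul, ← map_mul] at h
    obtain ⟨p, hp, e⟩ := h
    have := mul_mem hp (hK (QuotientGroup.eq.mp e))
    rwa [mul_inv_cancel_left] at this
  obtain ⟨hN2, hQ32, hQab⟩ := Layer.main HY (N := P.map f)
    { le := map_mono hPQ
      cen := hcen
      elem := helem
      small := hsmall
      sq := by rintro _ ⟨a, ha, rfl⟩; rw [← map_mul]; exact mem_map_of_mem f (hsqP a ha)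
      moves := hmapmoves M hMP.le
      ne := by
        by_contra hno
        simp only [not_exists, not_and, not_not] at hno
        exact not_le_of_gt hMP ((closure_le _).mpr (fun y ⟨a, ha, e⟩ => by
          have h1 : f (a * a) = 1 := (map_mul f a a).trans (hno (f a) (mem_map_of_mem f ha))
          exact e ▸ (QuotientGroup.eq_one_iff _).mp h1)) }
  have hcP' := card_map_mk' P M hMP.le
  have hcQ := card_map_mk' Q M (hMP.le.trans hPQ)
  change Nat.card P = Nat.card (P.map f) * Nat.card M at hcP'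
  change Nat.card Q = Nat.card (Q.map f) * Nat.card M at hcQ
  rw [hN2] at hcP'
  rw [hQ32] at hcQ
  have hcM : ∀ a ∈ Q, ∀ b ∈ Q, a * b * a⁻¹ * b⁻¹ ∈ M := fun a ha b hb =>
    (mk_comm_iff M a b).mp (hQab _ (mem_map_of_mem f ha) _ (mem_map_of_mem f hb))
  by_cases hM : M = ⊥
  · right
    rw [hM, card_bot, mul_one] at hcQ hcP'
    have hab : ∀ a ∈ Q, ∀ b ∈ Q, a * b = b * a := fun a ha b hb => by
      have h := mem_bot.mp (hM ▸ hcM a ha b hb)
      rw [mul_inv_eq_one, mul_inv_eq_iff_eq_mul] at h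
      exact h
    obtain ⟨a, b, hab', hset⟩ := Nat.card_eq_two_iff.mp hcP'
    obtain ⟨n, hn, hall⟩ : ∃ n : X, n ≠ 1 ∧ ∀ p ∈ P, p = 1 ∨ p = n := by
      have hall : ∀ y : P, y = a ∨ y = b := fun y => by
        have : y ∈ ({a, b} : Set P) := hset ▸ Set.mem_univ y
        exact this
      rcases hall 1 with h1 | h1
      · refine ⟨b, fun h => hab' (h1.symm.trans (Subtype.ext h.symm)), fun y hy => ?_⟩
        rcases hall ⟨y, hy⟩ with h | h
        · exact Or.inl (congrArg Subtype.val (h.trans h1.symm))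
        · exact Or.inr (congrArg Subtype.val h)
      · refine ⟨a, fun h => hab' ((Subtype.ext h).trans h1), fun y hy => ?_⟩
        rcases hall ⟨y, hy⟩ with h | h
        · exact Or.inr (congrArg Subtype.val h)
        · exact Or.inl (congrArg Subtype.val (h.trans h1.symm))
    obtain ⟨x, hx, hxn⟩ : ∃ x ∈ Q, x * x = n := by
      by_contra hno
      simp only [not_exists, not_and] at hno
      exact hP (le_bot_iff.mp ((closure_le _).mpr (fun y ⟨a, ha, e⟩ =>
        mem_bot.mpr (e ▸ (hall _ (hsqP a ha)).resolve_right (hno a ha)))))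
    have hnQ : n ∈ Q := hxn ▸ mul_mem hx hx
    refine iso_four (fun a b => Subtype.ext (hab a a.2 b b.2)) hcQ ⟨n, hnQ⟩
      (fun h => hn (congrArg Subtype.val h)) ?_ ⟨⟨x, hx⟩, Subtype.ext hxn⟩
    intro a
    exact (hall _ (hsqP a a.2)).imp (fun h => Subtype.ext h) (fun h => Subtype.ext h)
  exfalso
  obtain ⟨M', hM'n, hM'M, hmax'⟩ := exists_max M hM
  set g := QuotientGroup.mk' M'
  have hgs : Function.Surjective g := QuotientGroup.mk'_surjective M'
  haveI : (P.map g).Normal := hPn.map g hgs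
  haveI : (M.map g).Normal := hMn.map g hgs
  have HY' := H.quot M' ((hM'M.le.trans hMP.le).trans hPQ)
  obtain ⟨hne', hmin'⟩ := quot_min M M' hM'M hmax'
  obtain ⟨hcen', helem', hsmall'⟩ := min_data HY' (M.map g) (map_mono (hMP.le.trans hPQ)) hne' hmin'
  have e1 := card_map_mk' M M' hM'M.le
  have e2 := card_map_mk' P M' (hM'M.le.trans hMP.le)
  have e3 := card_map_mk' Q M' ((hM'M.le.trans hMP.le).trans hPQ)
  refine Double.false HY' (P := P.map g) (N := M.map g)
    { leN := map_mono hMP.le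
      leP := map_mono hPQ
      cen := hcen'
      elem := helem'
      small := hsmall'
      cardP := ?_
      gen := ?_
      comm := ?_
      cardQ := ?_
      moves := hmapmoves M' (hM'M.le.trans hMP.le) }
  · rw [e2, e1, ← mul_assoc] at hcP'
    exact Nat.eq_of_mul_eq_mul_right Nat.card_pos hcP'
  · rw [hPdef, MonoidHom.map_closure]
    congr 1
    ext y
    constructor
    · rintro ⟨_, ⟨a, ha, rfl⟩, rfl⟩
      exact ⟨_, ⟨a, ha, rfl⟩, map_mul g a a⟩
    · rintro ⟨_, ⟨a, ha, rfl⟩, rfl⟩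
      exact ⟨g a, mem_map_of_mem g ha, (map_mul g a a).symm⟩
  · rintro _ ⟨a, ha, rfl⟩ _ ⟨b, hb, rfl⟩
    rw [← map_inv, ← map_inv, ← map_mul, ← map_mul, ← map_mul]
    exact mem_map_of_mem g (hcM a ha b hb)
  · have h16 : Nat.card Q = 16 * Nat.card P := by omega
    rw [e2, e3, ← mul_assoc] at h16
    exact Nat.eq_of_mul_eq_mul_right Nat.card_pos h16

end Cfsg.Agent.H34.L32
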