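import Mathlib

/-! The concrete group `GL₃(2)` with named elements, and finite facts on its natural module. -/

set_option autoImplicit false

namespace Cfsg.Agent.H34.L32

open Matrix

abbrev G3 := GL (Fin 3) (ZMod 2)

abbrev V3 := Fin 3 → ZMod 2

abbrev M3 := Matrix (Fin 3) (Fin 3) (ZMod 2)

/-- the natural action -/
def act (g : G3) (v : V3) : V3 := (g : M3) *ᵥ v

theorem act_one (v : V3) : act 1 v = v := Matrix.one_mulVec v

theorem act_mul (g k : G3) (v : V3) : act (g * k) v = act g (act k v) := by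
  show ((g * k : G3) : M3) *ᵥ v = (g : M3) *ᵥ ((k : M3) *ᵥ v)
  rw [Matrix.mulVec_mulVec, Units.val_mul]

theorem act_add (g : G3) (v w : V3) : act g (v + w) = act g v + act g w := Matrix.mulVec_add _ _ _

theorem act_zero (g : G3) : act g 0 = 0 := Matrix.mulVec_zero _

theorem act_inv_act (g : G3) (v : V3) : act g⁻¹ (act g v) = v := by
  rw [← act_mul, inv_mul_cancel, act_one]

/-- the regular unipotent element -/
def R : G3 := ⟨!![1, 0, 0; 1, 1, 0; 0, 1, 1], !![1, 0, 0; 1, 1, 0; 1, 1, 1], by decide, by decide⟩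

/-- an element of order three fixing the last basis vector -/
def H : G3 := ⟨!![0, 1, 0; 1, 1, 0; 0, 0, 1], !![1, 1, 0; 1, 0, 0; 0, 0, 1], by decide, by decide⟩

/-- an element of order seven -/
def C : G3 := ⟨!![0, 0, 1; 1, 0, 1; 0, 1, 0], !![1, 1, 0; 0, 0, 1; 1, 0, 0], by decide, by decide⟩

/-- the fixed vector of `R` -/
def vc : V3 := ![0, 0, 1]

/-- the middle vector -/
def ve : V3 := ![0, 1, 0]

def T : G3 := R * R

def U : G3 := H * R * H⁻¹

def S : G3 := H * T * H⁻¹

def E : G3 := H * S * H⁻¹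

theorem R_four : R ^ 4 = 1 := by decide +kernel

theorem R_two : R ^ 2 ≠ 1 := by decide +kernel

theorem U_sq : U * U = S := by decide +kernel

theorem S_inv : S * R * S⁻¹ = R⁻¹ := by decide +kernel

theorem H_three : H * E * H⁻¹ = T := by decide +kernel

theorem H_vc : act H vc = vc := by decide +kernel

theorem U_vc : act U vc = vc := by decide +kernel

theorem R_vc : act R vc = vc := by decide +kernel

theorem T_ve : act T ve = ve := by decide +kernel

theorem T_S : T * S = E := by decide +kernel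

theorem four_group : T ≠ 1 ∧ S ≠ 1 ∧ E ≠ 1 ∧ S ≠ T ∧ S * S = 1 ∧ T * T = 1 := by decide +kernel

theorem exists_K : ∃ K : G3, K * T * K⁻¹ = R * S ∧ act K vc 0 = 0 :=
  ⟨⟨!![1, 0, 0; 0, 1, 1; 0, 0, 1], !![1, 0, 0; 0, 1, 1; 0, 0, 1], by decide, by decide⟩,
    by decide +kernel, by decide +kernel⟩

theorem coord_RS : ∀ v : V3, (v + act (R * S) v) 0 = 0 := by decide +kernel

theorem coord_R : ∀ v : V3, (v + act R v) 0 = 0 := by decide +kernel

theorem coord_zero : ∀ v : V3, v 0 = 0 → ∃ w, w + act R w = v := by decide +kernel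

theorem fix_R : ∀ v : V3, act R v = v → v = 0 ∨ v = vc := by decide +kernel

theorem fix_pair : ∀ p : V3, (act R p = p ∨ act R p = p + vc) → (act U p = p ∨ act U p = p + vc) →
    p = 0 ∨ p = vc := by decide +kernel

theorem not_vc : vc ≠ 0 ∧ ve ≠ 0 := by decide +kernel

theorem norm_T : ∀ v : V3, v + act T v = 0 ∨ v + act T v = vc := by decide +kernel

theorem norm_S : ∀ v : V3, v + act S v = 0 ∨ v + act S v = vc := by decide +kernel

theorem ne_norm_T : ∀ v : V3, v + act T v ≠ ve := by decide +kernel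

theorem vc_norm : ∃ v : V3, v + act T v = vc := by decide +kernel

theorem span_vc : ∀ d : V3, ∃ i j k : ZMod 2,
    d = i • ve + j • act H ve + k • vc ∧ j • act H ve + act T (j • act H ve) ∈ ({0, vc} : Finset V3) := by
  decide +kernel

theorem trans_C : ∀ v : V3, v ≠ 0 → ∃ i : Fin 7, act (C ^ (i : ℕ)) vc = v := by decide +kernel

theorem trans (v : V3) (hv : v ≠ 0) : ∃ g : G3, act g vc = v := by
  obtain ⟨i, hi⟩ := trans_C v hv
  exact ⟨_, hi⟩

/-- an invariant linear functional vanishes -/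
theorem functional_zero : ∀ f : V3, (∀ v : V3, f 0 * act C v 0 + f 1 * act C v 1 + f 2 * act C v 2 =
    f 0 * v 0 + f 1 * v 1 + f 2 * v 2) → f = 0 := by decide +kernel

/-- an invariant alternating form vanishes -/
theorem alt_zero : ∀ f : V3, (∀ v w : V3,
    f 0 * (act C v 0 * act C w 1 + act C v 1 * act C w 0) +
    f 1 * (act C v 0 * act C w 2 + act C v 2 * act C w 0) +
    f 2 * (act C v 1 * act C w 2 + act C v 2 * act C w 1) =
    f 0 * (v 0 * w 1 + v 1 * w 0) + f 1 * (v 0 * w 2 + v 2 * w 0) + f 2 * (v 1 * w 2 + v 2 * w 1)) →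
    f = 0 := by decide +kernel

theorem transvection_data : ∀ a b w : V3, w ≠ 0 → w ≠ a → w ≠ b → w ≠ a + b →
    ∃ f d : V3, f 0 * d 0 + f 1 * d 1 + f 2 * d 2 = 0 ∧
      f 0 * a 0 + f 1 * a 1 + f 2 * a 2 = 0 ∧ f 0 * b 0 + f 1 * b 1 + f 2 * b 2 = 0 ∧
      f 0 * w 0 + f 1 * w 1 + f 2 * w 2 = 1 ∧ d ≠ 0 := by decide +kernel

/-- the pointwise stabiliser of two vectors fixes only their span -/
theorem pair_stab (a b w : V3) (h0 : w ≠ 0) (ha : w ≠ a) (hb : w ≠ b) (hab : w ≠ a + b) :
    ∃ g : G3, act g a = a ∧ act g b = b ∧ act g w ≠ w := by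
  obtain ⟨f, d, hfd, hfa, hfb, hfw, hd⟩ := transvection_data a b w h0 ha hb hab
  have happly : ∀ v : V3, (1 + Matrix.vecMulVec d f) *ᵥ v = v + (f ⬝ᵥ v) • d := by
    intro v
    rw [Matrix.add_mulVec, Matrix.one_mulVec, Matrix.vecMulVec_mulVec]
    congr 1
    funext i
    simp [mul_comm]
  have hdot : ∀ v : V3, f ⬝ᵥ v = f 0 * v 0 + f 1 * v 1 + f 2 * v 2 := fun v => by
    simp [dotProduct, Fin.sum_univ_three]
  have hsq : (1 + Matrix.vecMulVec d f : M3) * (1 + Matrix.vecMulVec d f) = 1 := by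
    refine Matrix.ext_of_mulVec_single fun i => ?_
    rw [← Matrix.mulVec_mulVec, Matrix.one_mulVec, happly, happly, dotProduct_add, dotProduct_smul,
      hdot d, hfd, smul_zero, add_zero, add_assoc, ← add_smul, CharTwo.add_self_eq_zero, zero_smul,
      add_zero]
  refine ⟨⟨_, _, hsq, hsq⟩, ?_, ?_, ?_⟩
  · show _ *ᵥ a = a
    rw [happly, hdot, hfa, zero_smul, add_zero]
  · show _ *ᵥ b = b
    rw [happly, hdot, hfb, zero_smul, add_zero]
  · show _ *ᵥ w ≠ w
    rw [happly, hdot, hfw, one_smul]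
    exact fun h => hd (add_left_cancel (h.trans (add_zero w).symm))

/-- fixed point of a pair stabiliser -/
theorem pair_fix (a b w : V3)
    (h : ∀ g : G3, act g a = a → act g b = b → act g w = w) :
    w = 0 ∨ w = a ∨ w = b ∨ w = a + b := by
  by_contra hne
  simp only [not_or] at hne
  obtain ⟨g, ga, gb, gw⟩ := pair_stab a b w hne.1 hne.2.1 hne.2.2.1 hne.2.2.2
  exact gw (h g ga gb)

/-- every element fixing `vc` is a short word in `R` and `U` -/
theorem word_K : ∀ a b d e f g : ZMod 2, a * e + b * d = 1 →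
    ∃ i j k l : Fin 4, ((R ^ (i : ℕ) * U ^ (j : ℕ) * R ^ (k : ℕ) * U ^ (l : ℕ) : G3) : M3) =
      !![a, b, 0; d, e, 0; f, g, 1] := by decide +kernel

theorem stab_vc (g : G3) (hg : act g vc = vc) :
    ∃ i j k l : ℕ, g = R ^ i * U ^ j * R ^ k * U ^ l := by
  have h0 : (g : M3) 0 2 = 0 := by
    have := congrFun hg 0
    simpa [act, Matrix.mulVec, dotProduct, vc, Fin.sum_univ_three] using this
  have h1 : (g : M3) 1 2 = 0 := by
    have := congrFun hg 1
    simpa [act, Matrix.mulVec, dotProduct, vc, Fin.sum_univ_three] using this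
  have h2 : (g : M3) 2 2 = 1 := by
    have := congrFun hg 2
    simpa [act, Matrix.mulVec, dotProduct, vc, Fin.sum_univ_three] using this
  have hdet : IsUnit (g : M3).det := (Matrix.isUnit_iff_isUnit_det _).mp g.isUnit
  rw [Matrix.det_fin_three, h0, h1, h2] at hdet
  have h2x : ∀ x : ZMod 2, IsUnit x → x = 1 := by
    intro x hx
    have hx0 := hx.ne_zero
    revert x
    decide
  obtain ⟨i, j, k, l, hw⟩ := word_K ((g : M3) 0 0) ((g : M3) 0 1) ((g : M3) 1 0) ((g : M3) 1 1)
    ((g : M3) 2 0) ((g : M3) 2 1) (by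
      have := h2x _ hdet
      simpa [CharTwo.sub_eq_add] using this)
  refine ⟨i, j, k, l, Units.ext ?_⟩
  rw [hw]
  ext x y
  fin_cases x <;> fin_cases y <;> simp [h0, h1, h2]

end Cfsg.Agent.H34.L32
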