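import Cfsg.Agent.H34.L32.Sections

/-! Fixed points in cosets, and the modules of order 16. -/

set_option autoImplicit false

namespace Cfsg.Agent.H34.L32

open Subgroup

universe u

variable {X : Type u} [Group X] [Finite X] {Q : Subgroup X}

/-- if a regular unipotent element fixes a point of a coset of order eight, all of `X` fixes one -/
theorem coset_fixed (H : Hyp Q) {ρ : X →* G3} (hρ : Function.Surjective ρ) (hker : ρ.ker = Q)
    (B : Subgroup X) (hB : Nat.card B = 8) (u r : X) (hr : ρ r = R) (hru : r * u = u * r)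
    (hconj : ∀ y, u⁻¹ * y ∈ B → ∀ g, u⁻¹ * (g * y * g⁻¹) ∈ B)
    (hQ : ∀ y, u⁻¹ * y ∈ B → ∀ q ∈ Q, q * y = y * q) :
    ∃ y, u⁻¹ * y ∈ B ∧ ∀ g, g * y = y * g := by
  classical
  have hu : u⁻¹ * u ∈ B := by rw [inv_mul_cancel]; exact one_mem _
  set K := (centralizer {u}).comap (MonoidHom.id X) with hK
  have hQK : Q ≤ K := fun q hq => mem_comap.mpr (mem_centralizer_singleton_iff.mpr (hQ u hu q hq))
  by_cases h7 : K.index < 7
  · refine ⟨u, hu, fun g => ?_⟩
    have e := H.core K hQK h7
    exact mem_centralizer_singleton_iff.mp (mem_comap.mp (e ▸ mem_top g : g ∈ K))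
  have hrK : r ∈ K := mem_comap.mpr (mem_centralizer_singleton_iff.mpr hru)
  have h42 : K.index ∣ 42 := by
    have h1 : (K.map ρ).index = K.index := index_map_eq _ hρ (hker.le.trans hQK)
    have h4 : 4 ∣ Nat.card (K.map ρ) := by
      have : orderOf R = 4 := orderOf_eq_prime_pow (p := 2) (n := 1) (by rw [pow_one]; exact R_two) (by exact R_four)
      rw [← this]
      exact Subgroup.orderOf_dvd_natCard _ ⟨r, hrK, hr⟩
    obtain ⟨k, hk⟩ := h4
    have h168 := card_mul_index (K.map ρ)
    rw [Cfsg.Agent.H27.SevenPoints.card_GL_three_two, h1, hk] at h168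
    exact ⟨k, Nat.eq_of_mul_eq_mul_left (show 4 > 0 by norm_num) (by linarith)⟩
  have hcount := card_conjugates (MonoidHom.id X) u
  let S := {y : X // u⁻¹ * y ∈ B}
  let e : S ≃ B :=
    { toFun := fun y => ⟨u⁻¹ * y.1, y.2⟩
      invFun := fun b => ⟨u * b, by rw [inv_mul_cancel_left]; exact b.2⟩
      left_inv := fun y => Subtype.ext (mul_inv_cancel_left u y.1)
      right_inv := fun b => Subtype.ext (inv_mul_cancel_left u (b : X)) }
  have hS : Nat.card S = 8 := (Nat.card_congr e).trans hB
  let O : Set S := {y | ∃ g, g * u * g⁻¹ = y.1}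
  have hO : O.ncard = K.index := by
    rw [hK, ← hcount, ← Nat.card_coe_set_eq]
    refine Nat.card_congr ?_
    exact
      { toFun := fun y => ⟨y.1.1, y.2⟩
        invFun := fun z => ⟨⟨z.1, by obtain ⟨g, hg⟩ := z.2; rw [← hg]; exact hconj u hu g⟩, z.2⟩
        left_inv := fun y => rfl
        right_inv := fun z => rfl }
  have hle : K.index ≤ 8 := hO ▸ hS ▸ Set.ncard_le_card O
  have h7' : K.index = 7 := by
    interval_cases K.index <;> omega
  have hc : Oᶜ.ncard = 1 := by
    have := Set.ncard_add_ncard_compl O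
    rw [hS, hO, h7'] at this
    omega
  obtain ⟨y, hy⟩ := Set.ncard_eq_one.mp hc
  refine ⟨y.1, y.2, fun g => ?_⟩
  have hmem : (⟨g * y.1 * g⁻¹, hconj y.1 y.2 g⟩ : S) ∈ Oᶜ := by
    rintro ⟨k, hk⟩
    have hy' : y ∈ Oᶜ := hy.symm ▸ Set.mem_singleton _
    refine hy' ⟨g⁻¹ * k, ?_⟩
    calc g⁻¹ * k * u * (g⁻¹ * k)⁻¹ = g⁻¹ * (k * u * k⁻¹) * g := by group
      _ = g⁻¹ * (g * y.1 * g⁻¹) * g := congrArg (fun z => g⁻¹ * z * g) hk
      _ = y.1 := by group
  rw [hy, Set.mem_singleton_iff] at hmem
  exact mul_inv_eq_iff_eq_mul.mp (congrArg Subtype.val hmem)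

/-- an elementary abelian normal subgroup moved by `X` has order 8, or order 16 with a fixed point or a
normal subgroup of order 8 -/
theorem dim_four (H : Hyp Q) (V : Subgroup X) [hV : V.Normal]
    (hsq : ∀ v ∈ V, v * v = 1) (hQ : ∀ q ∈ Q, ∀ v ∈ V, q * v = v * q)
    (h16 : Nat.card V ≤ 16) (hm : ∃ g, ∃ v ∈ V, g * v ≠ v * g) :
    Nat.card V = 8 ∨ (Nat.card V = 16 ∧ ((∃ e ∈ V, e ≠ 1 ∧ ∀ g, g * e = e * g) ∨
      ∃ U : Subgroup X, U.Normal ∧ U ≤ V ∧ Nat.card U = 8)) := by
  classical
  haveI := H.norm
  have hQc : Q ≤ secCent V (⊥ : Subgroup X) := fun q hq => mem_secCent.mpr fun v hv => by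
    rw [mem_bot, hQ q hq v hv]; group
  have hmv : Moves V (⊥ : Subgroup X) := by
    obtain ⟨g, v, hv, hne⟩ := hm
    refine ⟨g, v, hv, fun h => hne ?_⟩
    rw [mem_bot, mul_inv_eq_one, mul_inv_eq_iff_eq_mul] at h
    exact h
  have h5 : 4 < Nat.card V := by
    by_contra hle
    exact not_moves_small H bot_le hQc (by rw [card_bot]; omega) hmv
  haveI : Fact (Nat.Prime 2) := ⟨Nat.prime_two⟩
  have hp : IsPGroup 2 V := fun v => ⟨1, Subtype.ext (by
    show ((v : X)) ^ 2 ^ 1 = 1
    rw [pow_one, pow_two]; exact hsq v v.2)⟩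
  obtain ⟨n, hn⟩ := IsPGroup.iff_card.mp hp
  rcases Nat.lt_or_ge n 4 with hn4 | hn4
  · left
    interval_cases n <;> omega
  have hn4' : n ≤ 4 := (Nat.pow_le_pow_iff_right (a := 2) one_lt_two).mp (show 2 ^ n ≤ 2 ^ 4 by omega)
  have hV16 : Nat.card V = 16 := by rw [hn, show n = 4 by omega]; rfl
  refine Or.inr ⟨hV16, ?_⟩
  have hcomm : ∀ a b : V, a * b = b * a := by
    intro a b
    have h2 : ∀ c : V, c⁻¹ = c := fun c => inv_eq_of_mul_eq_one_right (Subtype.ext (hsq c c.2))
    calc a * b = (a * b)⁻¹ := (h2 _).symm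
      _ = b⁻¹ * a⁻¹ := mul_inv_rev a b
      _ = b * a := by rw [h2, h2]
  obtain ⟨g, hg, hg7⟩ := H.exists_seven
  set φ : MulAut V := MulAut.conjNormal g with hφdef
  have hφ7 : φ ^ 7 = 1 := by
    rw [hφdef, ← map_pow]
    refine MulEquiv.ext fun v => Subtype.ext ?_
    rw [MulAut.conjNormal_apply, hQ _ hg7 v v.2, mul_inv_cancel_right]
    rfl
  have h7v : ∀ v, φ^[7] v = v := fun v => by
    have h' : ∀ k : ℕ, φ^[k] v = (φ ^ k) v := by
      intro k
      induction k with
      | zero => rfl
      | succ k ih => rw [Function.iterate_succ_apply', pow_succ', MulAut.mul_apply, ih]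
    rw [h', hφ7]
    rfl
  have hfixne : ∀ v : V, φ v ≠ v → ∀ i : ℕ, i < 7 → 0 < i → φ^[i] v ≠ v := by
    intro v hv i hi hi0 he
    refine hv ?_
    have h1 : ∀ m, φ^[i * m] v = v := fun m => by
      induction m with
      | zero => rfl
      | succ m ih => rw [Nat.mul_succ, Function.iterate_add_apply, he, ih]
    have h2 : ∀ m, φ^[7 * m] v = v := fun m => by
      induction m with
      | zero => rfl
      | succ m ih => rw [Nat.mul_succ, Function.iterate_add_apply, h7v, ih]
    obtain ⟨a, b, hab⟩ : ∃ a b : ℕ, i * a = 7 * b + 1 := by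
      interval_cases i
      exacts [⟨1, 0, rfl⟩, ⟨4, 1, rfl⟩, ⟨5, 2, rfl⟩, ⟨2, 1, rfl⟩, ⟨3, 2, rfl⟩, ⟨6, 5, rfl⟩]
    have := h1 a
    rw [hab, Function.iterate_succ_apply', h2] at this
    exact this
  let D : V →* V :=
    { toFun := fun v => φ v * v
      map_one' := by rw [map_one, one_mul]
      map_mul' := fun a b => by
        rw [map_mul]
        exact (show Commute (φ b) a from hcomm _ _).mul_mul_mul_comm (φ a) b }
  have hDker : ∀ v, v ∈ D.ker ↔ φ v = v := fun v => by
    rw [MonoidHom.mem_ker]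
    show φ v * v = 1 ↔ _
    rw [mul_eq_one_iff_eq_inv, inv_eq_of_mul_eq_one_right (show v * v = 1 from Subtype.ext (hsq v v.2))]
  -- the fixed points of an element of order seven
  let zs : Subgroup (MulAut V) := zpowers φ
  have hp7 : IsPGroup 7 zs := by
    rintro ⟨ψ, k, rfl⟩
    exact ⟨1, Subtype.ext (by
      show (φ ^ k) ^ 7 ^ 1 = 1
      rw [pow_one, ← zpow_natCast, ← zpow_mul, mul_comm, zpow_mul, zpow_natCast, hφ7, one_zpow])⟩
  have hmod : Nat.card V ≡ Nat.card D.ker [MOD 7] := by
    haveI : Fact (Nat.Prime 7) := ⟨by norm_num⟩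
    refine (hp7.card_modEq_card_fixedPoints V).trans ?_
    refine congrArg (· % 7) ?_
    refine Nat.card_congr (Equiv.subtypeEquivRight fun v => ?_)
    rw [MulAction.mem_fixedPoints]
    show _ ↔ v ∈ D.ker
    rw [hDker]
    constructor
    · intro h; exact h ⟨φ, mem_zpowers φ⟩
    · rintro h ⟨ψ, k, rfl⟩
      show (φ ^ k) v = v
      exact MulAction.mem_stabilizer_iff.mp (zpow_mem (MulAction.mem_stabilizer_iff.mpr
        (show φ • v = v from h) : φ ∈ MulAction.stabilizer (MulAut V) v) k)
  have hDlt : D.ker ≠ ⊤ := fun e => by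
    obtain ⟨v, hv, hne⟩ := moves_elt H hQc hmv hg
    refine hne ?_
    rw [mem_bot]
    have h' : g * v * g⁻¹ = v := congrArg Subtype.val ((hDker ⟨v, hv⟩).mp (e ▸ mem_top _))
    rw [h', mul_inv_cancel]
  obtain ⟨j, hj⟩ := IsPGroup.iff_card.mp (hp.to_subgroup D.ker)
  have hj4 : j < 4 := by
    by_contra hge
    have h1 : 2 ^ 4 ≤ 2 ^ j := Nat.pow_le_pow_right (by norm_num) (by omega)
    exact hDlt (eq_top_of_card_eq _ (le_antisymm (card_le_card_group _) (by omega)))
  rw [hV16, hj] at hmod
  have hker2 : Nat.card D.ker = 2 := by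
    rw [hj]
    interval_cases j <;> first | rfl | exact absurd hmod (by decide)
  have hrange : Nat.card D.range = 8 := by
    have h := D.ker.card_mul_index
    rw [index_ker, hker2, hV16] at h
    omega
  obtain ⟨e, he, he1, heu⟩ : ∃ e : V, φ e = e ∧ e ≠ 1 ∧ ∀ v, φ v = v → v = 1 ∨ v = e := by
    obtain ⟨x, y, hxy, hset⟩ := Nat.card_eq_two_iff.mp hker2
    have hall : ∀ z : D.ker, z = x ∨ z = y := fun z => by
      have : z ∈ ({x, y} : Set D.ker) := hset ▸ Set.mem_univ z
      exact this
    rcases hall 1 with h1 | h1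
    · refine ⟨y.1, (hDker _).mp y.2, fun h => hxy (h1.symm.trans (Subtype.ext h.symm)), fun v hv => ?_⟩
      rcases hall ⟨v, (hDker v).mpr hv⟩ with h | h
      · exact Or.inl (congrArg Subtype.val (h.trans h1.symm))
      · exact Or.inr (congrArg Subtype.val h)
    · refine ⟨x.1, (hDker _).mp x.2, fun h => hxy ((Subtype.ext h).trans h1), fun v hv => ?_⟩
      rcases hall ⟨v, (hDker v).mpr hv⟩ with h | h
      · exact Or.inr (congrArg Subtype.val h)
      · exact Or.inl (congrArg Subtype.val (h.trans h1.symm))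
  have heR : e ∉ D.range := by
    rintro ⟨v, hv⟩
    have hv' : φ v = v * e := by
      rw [← hv]
      show φ v = v * (φ v * v)
      rw [hcomm (φ v) v, ← mul_assoc, show v * v = 1 from Subtype.ext (hsq v v.2), one_mul]
    have hk : ∀ k : ℕ, φ^[k] v = v * e ^ k := by
      intro k
      induction k with
      | zero => simp
      | succ k ih => rw [Function.iterate_succ_apply', ih, map_mul, map_pow, he, hv', pow_succ', mul_assoc]
    have h7 := hk 7
    rw [h7v, left_eq_mul, show e ^ 7 = e ^ (2 * 3) * e from pow_succ e 6, pow_mul, pow_two,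
      show e * e = 1 from Subtype.ext (hsq e e.2), one_pow, one_mul] at h7
    exact he1 h7
  have hRinv : ∀ v ∈ D.range, φ v ∈ D.range := by
    rintro _ ⟨w, rfl⟩
    exact ⟨φ w, (map_mul φ _ _).symm⟩
  have htrans : ∀ u ∈ D.range, u ≠ 1 → ∀ w ∈ D.range, w ≠ 1 → ∃ i : ℕ, φ^[i] u = w := by
    intro u hu hu1 w hw hw1
    have hne : φ u ≠ u := fun h => (heu u h).elim hu1 fun h' => heR (h' ▸ hu)
    have hin : ∀ i : ℕ, φ^[i] u ∈ D.range := fun i => by
      induction i with
      | zero => exact hu
      | succ i ih => rw [Function.iterate_succ_apply']; exact hRinv _ ih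
    have h1 : ∀ i : ℕ, φ^[i] u ≠ 1 := fun i => by
      induction i with
      | zero => exact hu1
      | succ i ih => rw [Function.iterate_succ_apply']; exact fun h => ih ((map_eq_one_iff φ φ.injective).mp h)
    have hinj : Function.Injective (fun i : Fin 7 => (⟨⟨φ^[(i : ℕ)] u, hin i⟩,
        fun h => h1 i (congrArg Subtype.val h)⟩ : {z : D.range // z ≠ 1})) := by
      intro a b hab
      have hab' : φ^[(a : ℕ)] u = φ^[(b : ℕ)] u := congrArg (fun z : {z : D.range // z ≠ 1} => (z.1 : V)) hab
      by_contra hne'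
      have hne'' : (a : ℕ) ≠ b := fun h => hne' (Fin.ext h)
      rcases Nat.lt_or_gt_of_ne hne'' with h | h
      · refine hfixne u hne (b - a) (by omega) (by omega) ?_
        refine (φ.injective.iterate a) ?_
        rw [← Function.iterate_add_apply, Nat.add_sub_cancel' h.le, hab']
      · refine hfixne u hne (a - b) (by omega) (by omega) ?_
        refine (φ.injective.iterate b) ?_
        rw [← Function.iterate_add_apply, Nat.add_sub_cancel' h.le, hab']
    have hcard7 : Nat.card {z : D.range // z ≠ 1} = 7 := by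
      haveI := Fintype.ofFinite D.range
      rw [Nat.card_eq_fintype_card, Fintype.card_subtype_compl, Fintype.card_subtype_eq,
        ← Nat.card_eq_fintype_card, hrange]
    have hsur := ((Nat.bijective_iff_injective_and_card _).mpr ⟨hinj, by
      rw [hcard7, Nat.card_fin]⟩).2 ⟨⟨w, hw⟩, fun h => hw1 (congrArg Subtype.val h)⟩
    obtain ⟨i, hi⟩ := hsur
    exact ⟨i, congrArg (fun z : {z : D.range // z ≠ 1} => (z.1 : V)) hi⟩
  have hdec : ∀ v : V, v ∈ D.range ∨ e * v ∈ D.range := by
    intro v
    have hidx : D.range.index = 2 := by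
      have h := D.range.card_mul_index
      rw [hrange, hV16] at h
      omega
    by_cases hv : v ∈ D.range
    · exact Or.inl hv
    · exact Or.inr ((mul_mem_iff_of_index_two hidx).mpr ⟨fun h => absurd h heR, fun h => absurd h hv⟩)
  -- the orbit of the fixed point
  let cj : X → V → V := fun k v => MulAut.conjNormal k v
  let O : Set V := {z | ∃ k, cj k e = z}
  have hOφ : ∀ z ∈ O, ∀ i : ℕ, φ^[i] z ∈ O := by
    intro z hz i
    induction i with
    | zero => exact hz
    | succ i ih =>
      obtain ⟨k, hk⟩ := ih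
      refine ⟨g * k, ?_⟩
      rw [Function.iterate_succ_apply', ← hk]
      show MulAut.conjNormal (g * k) e = φ (MulAut.conjNormal k e)
      rw [map_mul]; rfl
  have hOe : e ∈ O := ⟨1, by show MulAut.conjNormal (1 : X) e = e; rw [map_one]; rfl⟩
  have hOconj : ∀ k, ∀ z ∈ O, cj k z ∈ O := by
    rintro k _ ⟨l, rfl⟩
    refine ⟨k * l, ?_⟩
    show MulAut.conjNormal (k * l) e = MulAut.conjNormal k (MulAut.conjNormal l e)
    rw [map_mul]; rfl
  have hee : e * e = 1 := Subtype.ext (hsq e e.2)
  by_cases hR : ∃ u ∈ D.range, u ≠ 1 ∧ u ∈ O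
  · obtain ⟨u, hu, hu1, huO⟩ := hR
    have hRO : ∀ w ∈ D.range, w ≠ 1 → w ∈ O := fun w hw hw1 => by
      obtain ⟨i, hi⟩ := htrans u hu hu1 w hw hw1
      exact hi ▸ hOφ u huO i
    by_cases hE : ∃ w ∈ D.range, w ≠ 1 ∧ e * w ∈ O
    · exfalso
      obtain ⟨w, hw, hw1, hwO⟩ := hE
      have hall : ∀ z : V, z ≠ 1 → z ∈ O := by
        intro z hz
        rcases hdec z with h | h
        · exact hRO z h hz
        · by_cases hez : e * z = 1
          · have : z = e := by
              calc z = e * (e * z) := by rw [← mul_assoc, hee, one_mul]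
                _ = e := by rw [hez, mul_one]
            exact this ▸ hOe
          · obtain ⟨i, hi⟩ := htrans w hw hw1 _ h hez
            have hzz : φ^[i] (e * w) = z := by
              have hmul : ∀ m : ℕ, φ^[m] (e * w) = e * φ^[m] w := fun m => by
                induction m with
                | zero => rfl
                | succ m ih => rw [Function.iterate_succ_apply', ih, map_mul, he, Function.iterate_succ_apply']
              rw [hmul, hi, ← mul_assoc, hee, one_mul]
            exact hzz ▸ hOφ _ hwO i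
      have hO : O = {z | z ≠ 1} := Set.ext fun z => ⟨fun ⟨k, hk⟩ h => he1
        ((map_eq_one_iff _ (MulAut.conjNormal k : MulAut V).injective).mp (hk.trans h)), hall z⟩
      have h15 : O.ncard = 15 := by
        rw [hO, show ({z : V | z ≠ 1}) = ({1} : Set V)ᶜ from rfl, Set.ncard_compl, hV16, Set.ncard_singleton]
      have hidx : O.ncard = ((centralizer {(e : X)}).comap (MonoidHom.id X)).index := by
        rw [← card_conjugates (MonoidHom.id X) (e : X), ← Nat.card_coe_set_eq]
        refine Nat.card_congr ?_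
        exact
          { toFun := fun z => ⟨(z.1 : X), by obtain ⟨k, hk⟩ := z.2; exact ⟨k, by rw [← hk]; rfl⟩⟩
            invFun := fun z => ⟨⟨z.1, by obtain ⟨k, hk⟩ := z.2; rw [← hk]; exact hV.conj_mem _ e.2 k⟩,
              by obtain ⟨k, hk⟩ := z.2; exact ⟨k, Subtype.ext hk⟩⟩
            left_inv := fun z => rfl
            right_inv := fun z => rfl }
      have hQe : Q ≤ (centralizer {(e : X)}).comap (MonoidHom.id X) := fun q hq =>
        mem_comap.mpr (mem_centralizer_singleton_iff.mpr (hQ q hq e e.2))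
      have := Subgroup.index_dvd_of_le hQe
      rw [H.index, ← hidx, h15] at this
      norm_num at this
    · exfalso
      simp only [not_exists, not_and] at hE
      obtain ⟨k, hk⟩ := huO
      have hku : cj k⁻¹ u = e := by
        rw [← hk]
        show MulAut.conjNormal k⁻¹ (MulAut.conjNormal k e) = e
        rw [← MulAut.mul_apply, ← map_mul, inv_mul_cancel, map_one]
        rfl
      obtain ⟨b, hb, hb1, hbu⟩ : ∃ b ∈ D.range, b ≠ 1 ∧ b ≠ u := by
        by_contra hno
        simp only [not_exists, not_and, not_not] at hno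
        have : ((D.range : Set V)).ncard ≤ ({1, u} : Set V).ncard := Set.ncard_le_ncard fun z hz => by
          by_cases hz1 : z = 1
          · exact Or.inl hz1
          · exact Or.inr (hno z hz hz1)
        rw [← Nat.card_coe_set_eq, show Nat.card (D.range : Set V) = Nat.card D.range from rfl, hrange,
          Set.ncard_pair (fun h => hu1 h.symm)] at this
        omega
      set σ : MulAut V := MulAut.conjNormal k⁻¹ with hσ
      have hbO := hOconj k⁻¹ b (hRO b hb hb1)
      have hb' : cj k⁻¹ b ∈ D.range := by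
        rcases hdec (cj k⁻¹ b) with h | h
        · exact h
        · by_cases h1 : e * cj k⁻¹ b = 1
          · exfalso
            refine hbu (σ.injective ?_)
            show cj k⁻¹ b = cj k⁻¹ u
            rw [hku]
            calc cj k⁻¹ b = e * (e * cj k⁻¹ b) := by rw [← mul_assoc, hee, one_mul]
              _ = e := by rw [h1, mul_one]
          · exact absurd (by rwa [← mul_assoc, hee, one_mul]) (hE _ h h1)
      have hsum : u * b ∈ D.range := mul_mem hu hb
      have hsum1 : u * b ≠ 1 := fun h => hbu (by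
        calc b = u * (u * b) := by rw [← mul_assoc, show u * u = 1 from Subtype.ext (hsq u u.2), one_mul]
          _ = u := by rw [h, mul_one])
      have hO := hOconj k⁻¹ _ (hRO _ hsum hsum1)
      have hval : cj k⁻¹ (u * b) = e * cj k⁻¹ b := by
        rw [← hku]
        exact map_mul _ u b
      rw [hval] at hO
      exact hE _ hb' (fun h => hb1 ((map_eq_one_iff _ σ.injective).mp h)) hO
  · simp only [not_exists, not_and] at hR
    by_cases hE : ∃ w ∈ D.range, w ≠ 1 ∧ e * w ∈ O
    · obtain ⟨w, hw, hw1, hwO⟩ := hE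
      have hEO : ∀ z ∈ D.range, e * z ∈ O := by
        intro z hz
        by_cases hz1 : z = 1
        · rw [hz1, mul_one]; exact hOe
        · obtain ⟨i, hi⟩ := htrans w hw hw1 z hz hz1
          have hmul : ∀ m : ℕ, φ^[m] (e * w) = e * φ^[m] w := fun m => by
            induction m with
            | zero => rfl
            | succ m ih => rw [Function.iterate_succ_apply', ih, map_mul, he, Function.iterate_succ_apply']
          exact hi ▸ hmul i ▸ hOφ _ hwO i
      have hOnR : ∀ z ∈ O, e * z ∈ D.range := by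
        intro z hz
        rcases hdec z with h | h
        · exfalso
          obtain ⟨k, hk⟩ := hz
          by_cases hz1 : z = 1
          · exact he1 ((map_eq_one_iff _ (MulAut.conjNormal k : MulAut V).injective).mp (hk.trans hz1))
          · exact hR z h hz1 ⟨k, hk⟩
        · exact h
      refine Or.inr ⟨(D.range).map V.subtype, ⟨?_⟩, map_subtype_le _, ?_⟩
      · rintro _ ⟨z, hz, rfl⟩ k
        have hz' : z = e * (e * z) := by rw [← mul_assoc, hee, one_mul]
        have hA := hOnR _ (hOconj k e hOe)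
        have hB := hOnR _ (hOconj k _ (hEO z hz))
        refine ⟨cj k z, ?_, ?_⟩
        · have : cj k z = (e * cj k e) * (e * cj k (e * z)) := by
            conv_lhs => rw [hz']
            rw [show cj k (e * (e * z)) = cj k e * cj k (e * z) from map_mul _ _ _,
              (show Commute (cj k e) e from hcomm _ _).mul_mul_mul_comm e _, hee, one_mul]
          rw [this]
          exact mul_mem hA hB
        · rfl
      · rw [card_map_of_injective V.subtype_injective, hrange]
    · simp only [not_exists, not_and] at hE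
      refine Or.inl ⟨e, e.2, fun h => he1 (Subtype.ext h), fun k => ?_⟩
      have hz := hOconj k e hOe
      have hz1 : cj k e ≠ 1 := fun h =>
        he1 ((map_eq_one_iff _ (MulAut.conjNormal k : MulAut V).injective).mp h)
      rcases hdec (cj k e) with h | h
      · exact absurd hz (hR _ h hz1)
      · by_cases h1 : e * cj k e = 1
        · have h' : cj k e = e := by
            calc cj k e = e * (e * cj k e) := by rw [← mul_assoc, hee, one_mul]
              _ = e := by rw [h1, mul_one]
          exact mul_inv_eq_iff_eq_mul.mp (congrArg Subtype.val h')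
        · exact absurd (by rwa [← mul_assoc, hee, one_mul]) (hE _ h h1)

end Cfsg.Agent.H34.L32
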