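import Cfsg.Agent.H34.L32.Setup

/-! Natural sections, modules of order 16, and a few generalities. -/

set_option autoImplicit false

namespace Cfsg.Agent.H34.L32

open Subgroup
open scoped Matrix
open scoped commutatorElement

universe u

variable {X : Type u} [Group X]

theorem simple_G3 : IsSimpleGroup G3 := by
  haveI : Fact (Nat.Prime 2) := ⟨Nat.prime_two⟩
  obtain ⟨e⟩ := Cfsg.Agent.H27.SevenPoints.psl_three_two_equiv (K := ZMod 2) (ZMod.card 2)
  haveI := Cfsg.Agent.Linear.isSimpleGroup_PSL_fin (F := ZMod 2) (n := 3) (by norm_num) (by norm_num)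
  exact e.symm.isSimpleGroup

/-- a group generated by commuting involutions is elementary -/
theorem closure_elem {G : Type*} [Group G] (T : Set G) (hT : closure T = ⊤)
    (hsq : ∀ a ∈ T, a * a = 1) (hc : ∀ a ∈ T, ∀ b ∈ T, a * b = b * a) :
    (∀ a b : G, a * b = b * a) ∧ ∀ a : G, a * a = 1 := by
  have h1 : ∀ a b : G, a * b = b * a := by
    intro a b
    have ha : a ∈ closure T := hT ▸ mem_top a
    have hb : b ∈ closure T := hT ▸ mem_top b
    exact congrArg Subtype.val
      ((Subgroup.isMulCommutative_closure hc).is_comm.comm ⟨a, ha⟩ ⟨b, hb⟩)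
  refine ⟨h1, fun a => ?_⟩
  refine Subgroup.closure_induction (p := fun x _ => x * x = 1) hsq (by simp) ?_ ?_ (hT ▸ mem_top a)
  · intro x y _ _ hx hy
    rw [(show Commute y x from h1 y x).mul_mul_mul_comm x y, hx, hy, one_mul]
  · intro x _ hx
    rw [← mul_inv_rev, hx, inv_one]

/-- no section of order 32 generated by commuting involutions -/
theorem rank_contra [Finite X] (hr : Cfsg.SectionalPRankLE 2 4 X) (T : Set X) (Z : Subgroup X)
    (hZ : Z ≤ closure T) (hcen : ∀ z ∈ Z, ∀ t ∈ T, z * t = t * z)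
    (hsq : ∀ a ∈ T, a * a ∈ Z) (hcomm : ∀ a ∈ T, ∀ b ∈ T, a * b * a⁻¹ * b⁻¹ ∈ Z)
    (hcard : 16 * Nat.card Z < Nat.card (closure T)) : False := by
  set K := closure T
  haveI : (Z.subgroupOf K).Normal := by
    refine ⟨fun n hn g => ?_⟩
    have hc : (g : X) * (n : X) = (n : X) * g := by
      have : (g : X) ∈ centralizer (Z : Set X) :=
        (closure_le _).mpr (fun t ht => mem_centralizer_iff.mpr fun z hz => hcen z hz t ht) g.2
      exact (mem_centralizer_iff.mp this _ hn).symm
    rw [mem_subgroupOf] at hn ⊢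
    push_cast
    rw [hc, mul_inv_cancel_right]
    exact hn
  let π := QuotientGroup.mk' (Z.subgroupOf K)
  have hgen : closure (π '' ((↑) ⁻¹' T)) = ⊤ := by
    rw [← MonoidHom.map_closure, closure_closure_coe_preimage,
      map_top_of_surjective _ (QuotientGroup.mk'_surjective _)]
  obtain ⟨hab, hel⟩ := closure_elem _ hgen
    (by
      rintro _ ⟨a, ha, rfl⟩
      rw [← map_mul]
      exact (QuotientGroup.eq_one_iff _).mpr (hsq _ ha))
    (by
      rintro _ ⟨a, ha, rfl⟩ _ ⟨b, hb, rfl⟩
      rw [← mul_inv_eq_one, mul_inv_rev, ← map_inv, ← map_inv, ← map_mul, ← map_mul, ← map_mul]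
      refine (QuotientGroup.eq_one_iff _).mpr ?_
      rw [mem_subgroupOf]
      push_cast
      rw [← mul_assoc]
      exact hcomm _ ha _ hb)
  have h := Cfsg.Agent.Signalizer.AltFive.elem_le_16 hr K π (QuotientGroup.mk'_surjective _) hab hel
  have e := card_eq_card_quotient_mul_card_subgroup (Z.subgroupOf K)
  rw [Nat.card_congr (subgroupOfEquivOfLe hZ).toEquiv] at e
  rw [e] at hcard
  exact absurd (Nat.mul_le_mul_right _ h) (not_le.mpr hcard)

/-- `A/B` is moved by `X` -/
def Moves (A B : Subgroup X) : Prop := ∃ g : X, ∃ a ∈ A, g * a * g⁻¹ * a⁻¹ ∉ B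

theorem mk_comm_iff (B : Subgroup X) [B.Normal] (g a : X) :
    (g : X ⧸ B) * (a : X ⧸ B) = (a : X ⧸ B) * (g : X ⧸ B) ↔ g * a * g⁻¹ * a⁻¹ ∈ B := by
  rw [← QuotientGroup.eq_one_iff, QuotientGroup.mk_mul, QuotientGroup.mk_mul, QuotientGroup.mk_mul,
    QuotientGroup.mk_inv, QuotientGroup.mk_inv, mul_inv_eq_one, mul_inv_eq_iff_eq_mul]

/-- the centraliser of a section -/
def secCent (A B : Subgroup X) [B.Normal] : Subgroup X :=
  (centralizer ((A.map (QuotientGroup.mk' B) : Subgroup (X ⧸ B)) : Set (X ⧸ B))).comap (QuotientGroup.mk' B)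

theorem mem_secCent {A B : Subgroup X} [B.Normal] {g : X} :
    g ∈ secCent A B ↔ ∀ a ∈ A, g * a * g⁻¹ * a⁻¹ ∈ B := by
  rw [secCent, mem_comap, mem_centralizer_iff]
  constructor
  · intro h a ha
    exact (mk_comm_iff B g a).mp (h _ (mem_map_of_mem _ ha)).symm
  · rintro h _ ⟨a, ha, rfl⟩
    exact ((mk_comm_iff B g a).mpr (h a ha)).symm

instance secCent_normal (A B : Subgroup X) [hA : A.Normal] [B.Normal] : (secCent A B).Normal :=
  haveI := hA.map (QuotientGroup.mk' B) (QuotientGroup.mk'_surjective B)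
  (Subgroup.normal_centralizer).comap _

variable [Finite X] {Q : Subgroup X}

theorem secCent_eq (H : Hyp Q) {A B : Subgroup X} [A.Normal] [B.Normal]
    (hQ : Q ≤ secCent A B) (hm : Moves A B) : secCent A B = Q := by
  rcases H.max _ inferInstance hQ with e | e
  · exact e
  · obtain ⟨g, a, ha, hn⟩ := hm
    exact absurd (mem_secCent.mp (e ▸ mem_top g) a ha) hn

theorem moves_elt (H : Hyp Q) {A B : Subgroup X} [A.Normal] [B.Normal]
    (hQ : Q ≤ secCent A B) (hm : Moves A B) {g : X} (hg : g ∉ Q) :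
    ∃ a ∈ A, g * a * g⁻¹ * a⁻¹ ∉ B := by
  by_contra h
  simp only [not_exists, not_and, not_not] at h
  exact hg ((secCent_eq H hQ hm).le (mem_secCent.mpr h))

/-- an element with fewer than seven conjugates is fixed -/
theorem few_conjugates (H : Hyp Q) {Y : Type*} [Group Y] (f : X →* Y) (y : Y)
    (hQ : ∀ q ∈ Q, f q * y = y * f q)
    (hfew : Nat.card {z : Y // ∃ g, f g * y * (f g)⁻¹ = z} < 7) (g : X) : f g * y = y * f g := by
  rw [card_conjugates] at hfew
  have e := H.core _ (fun q hq => mem_comap.mpr (mem_centralizer_singleton_iff.mpr (hQ q hq))) hfew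
  exact mem_centralizer_singleton_iff.mp (mem_comap.mp (e ▸ mem_top g))

/-- sections of order at most four are not moved -/
theorem not_moves_small (H : Hyp Q) {A B : Subgroup X} [hA : A.Normal] [B.Normal] (hle : B ≤ A)
    (hQ : Q ≤ secCent A B) (hcard : Nat.card A ≤ 4 * Nat.card B) : ¬ Moves A B := by
  rintro ⟨g, a, ha, hn⟩
  refine hn ((mk_comm_iff B g a).mp ?_)
  refine few_conjugates H (QuotientGroup.mk' B) (a : X ⧸ B)
    (fun q hq => (mk_comm_iff B q a).mpr (mem_secCent.mp (hQ hq) a ha)) ?_ g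
  have hc : Nat.card (A.map (QuotientGroup.mk' B)) * Nat.card B = Nat.card A := by
    have := (Cfsg.Agent.Signalizer.AltFive.card_eq_map_mul (QuotientGroup.mk' B) A
      (by rw [QuotientGroup.ker_mk']; exact hle)).symm
    rwa [QuotientGroup.ker_mk'] at this
  have hc' : Nat.card (A.map (QuotientGroup.mk' B)) ≤ 4 :=
    Nat.le_of_mul_le_mul_right (hc.le.trans hcard) Nat.card_pos
  refine lt_of_le_of_lt (le_trans ?_ hc') (by norm_num)
  refine Nat.card_le_card_of_injective (β := A.map (QuotientGroup.mk' B)) (fun z => ⟨z.1, ?_⟩)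
    fun x y e => Subtype.ext (congrArg (fun w : A.map (QuotientGroup.mk' B) => (w : X ⧸ B)) e)
  obtain ⟨k, hk⟩ := z.2
  rw [← hk]
  exact ⟨k * a * k⁻¹, hA.conj_mem a ha k, by simp⟩

/-- a series with trivial factors is not moved -/
theorem stable (H : Hyp Q) {A C B : Subgroup X} [A.Normal] [B.Normal]
    (hQ : Q ≤ secCent A B) (hsq : ∀ c ∈ C, c * c ∈ B)
    (h1 : ∀ g : X, ∀ a ∈ A, g * a * g⁻¹ * a⁻¹ ∈ C) (h2 : ∀ g : X, ∀ c ∈ C, g * c * g⁻¹ * c⁻¹ ∈ B) :
    ¬ Moves A B := by
  intro hm
  obtain ⟨y, hy, hy7⟩ := H.exists_seven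
  have hsqmem : ∀ g : X, g * g ∈ secCent A B := by
    intro g
    rw [mem_secCent]
    intro a ha
    have hc := h1 g a ha
    have e : g * g * a * (g * g)⁻¹ * a⁻¹ =
        (g * (g * a * g⁻¹ * a⁻¹) * g⁻¹ * (g * a * g⁻¹ * a⁻¹)⁻¹) *
          ((g * a * g⁻¹ * a⁻¹) * (g * a * g⁻¹ * a⁻¹)) := by group
    rw [e]
    exact mul_mem (h2 g _ hc) (hsq _ hc)
  have e := secCent_eq H hQ hm
  rw [e] at hsqmem
  refine hy ?_
  have : y = y ^ 7 * (y * y * (y * y) * (y * y))⁻¹ := by group
  rw [this]
  exact mul_mem hy7 (inv_mem (mul_mem (mul_mem (hsqmem y) (hsqmem y)) (hsqmem y)))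

/-- coordinates on a natural section -/
theorem coords (H : Hyp Q) (A B : Subgroup X) [hA : A.Normal] [B.Normal] (hle : B ≤ A)
    (hcard : Nat.card A = 8 * Nat.card B) (hsq : ∀ a ∈ A, a * a ∈ B)
    (hQ : Q ≤ secCent A B) (hm : Moves A B) :
    ∃ (ρ : X →* G3) (π : X → V3), Function.Surjective ρ ∧ ρ.ker = Q ∧ Coord ρ A B π := by
  classical
  set mk := QuotientGroup.mk' B with hmk
  set M := A.map mk with hM
  have hMn : M.Normal := hA.map mk (QuotientGroup.mk'_surjective B)
  have hM8 : Nat.card M = 8 := by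
    have := Cfsg.Agent.Signalizer.AltFive.card_eq_map_mul mk A (by rw [hmk, QuotientGroup.ker_mk']; exact hle)
    rw [hmk, QuotientGroup.ker_mk', hcard] at this
    exact (Nat.eq_of_mul_eq_mul_right Nat.card_pos this).symm
  have hM2 : ∀ m : M, m * m = 1 := by
    rintro ⟨_, a, ha, rfl⟩
    refine Subtype.ext ?_
    show mk a * mk a = 1
    rw [← map_mul]
    exact (QuotientGroup.eq_one_iff _).mpr (hsq a ha)
  letI : CommGroup M :=
    { (inferInstance : Group M) with
      mul_comm := fun a b => by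
        calc a * b = (a * b)⁻¹ := eq_inv_of_mul_eq_one_left (hM2 _)
          _ = b⁻¹ * a⁻¹ := mul_inv_rev a b
          _ = b * a := by rw [inv_eq_of_mul_eq_one_right (hM2 a), inv_eq_of_mul_eq_one_right (hM2 b)] }
  letI : Module (ZMod 2) (Additive M) := AddCommGroup.zmodModule fun x => by
    show (2 : ℕ) • x = 0
    rw [two_nsmul]
    exact hM2 (Additive.toMul x)
  haveI : Fact (Nat.Prime 2) := ⟨Nat.prime_two⟩
  haveI : Finite (Additive M) := inferInstanceAs (Finite M)
  have hd : Module.finrank (ZMod 2) (Additive M) = 3 := by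
    have h := Module.natCard_eq_pow_finrank (K := ZMod 2) (V := Additive M)
    rw [Nat.card_zmod, show Nat.card (Additive M) = Nat.card M from rfl, hM8] at h
    exact Nat.pow_right_injective le_rfl (show 2 ^ _ = 2 ^ 3 from h.symm.trans rfl)
  let e : Additive M ≃ₗ[ZMod 2] V3 := (Module.finBasisOfFinrankEq (ZMod 2) (Additive M) hd).equivFun
  let cf : X → (Additive M →+ Additive M) := fun g =>
    MonoidHom.toAdditive ((MulAut.conjNormal (mk g) : MulAut M).toMonoidHom)
  have hcf : ∀ g m, cf g (Additive.ofMul m) = Additive.ofMul (MulAut.conjNormal (mk g) m) := fun g m => rfl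
  let Lg : X → (V3 →ₗ[ZMod 2] V3) := fun g =>
    e.toLinearMap.comp (((cf g).toZModLinearMap 2).comp e.symm.toLinearMap)
  have hL : ∀ g v, Lg g v = e (cf g (e.symm v)) := fun g v => rfl
  let Mg : X →* M3 :=
    { toFun := fun g => LinearMap.toMatrix' (Lg g)
      map_one' := by
        rw [← LinearMap.toMatrix'_id]
        congr 1
        refine LinearMap.ext fun v => ?_
        rw [hL]
        show e (Additive.ofMul (MulAut.conjNormal (mk 1) (Additive.toMul (e.symm v)))) = v
        rw [map_one, map_one]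
        exact e.apply_symm_apply v
      map_mul' := fun g k => by
        rw [← LinearMap.toMatrix'_comp]
        congr 1
        refine LinearMap.ext fun v => ?_
        show e (cf (g * k) (e.symm v)) = e (cf g (e.symm (e (cf k (e.symm v)))))
        rw [e.symm_apply_apply]
        congr 1
        show Additive.ofMul (MulAut.conjNormal (mk (g * k)) (Additive.toMul (e.symm v))) = _
        rw [map_mul, map_mul]
        rfl }
  let ρ : X →* G3 := Mg.toHomUnits
  let π : X → V3 := fun x => if h : mk x ∈ M then e (Additive.ofMul ⟨mk x, h⟩) else 0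
  have hπ : ∀ a (ha : a ∈ A), π a = e (Additive.ofMul ⟨mk a, mem_map_of_mem mk ha⟩) := fun a ha =>
    dif_pos (mem_map_of_mem mk ha)
  have hC : Coord ρ A B π := by
    refine ⟨hle, fun a ha b hb => ?_, fun v => ?_, fun a ha => ?_, fun g a ha => ?_⟩
    · rw [hπ _ (mul_mem ha hb), hπ _ ha, hπ _ hb, ← map_add]
      refine congrArg e ?_
      exact congrArg Additive.ofMul (Subtype.ext (map_mul mk a b))
    · obtain ⟨a, ha, h⟩ := (Additive.toMul (e.symm v)).2
      refine ⟨a, ha, ?_⟩
      rw [hπ a ha, show (⟨mk a, mem_map_of_mem mk ha⟩ : M) = Additive.toMul (e.symm v) from Subtype.ext h]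
      exact e.apply_symm_apply v
    · rw [hπ a ha, LinearEquiv.map_eq_zero_iff]
      refine (ofMul_eq_zero).trans ?_
      rw [Subtype.ext_iff]
      exact QuotientGroup.eq_one_iff a
    · rw [hπ _ (hA.conj_mem a ha g), hπ a ha]
      show _ = LinearMap.toMatrix' (Lg g) *ᵥ _
      rw [LinearMap.toMatrix'_mulVec, hL, e.symm_apply_apply, hcf]
      refine congrArg e (congrArg Additive.ofMul (Subtype.ext ?_))
      simp
  have hker : ρ.ker = Q := by
    have hsub : secCent A B = ρ.ker := by
      ext g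
      rw [mem_secCent, MonoidHom.mem_ker]
      constructor
      · intro h
        refine Units.ext (Matrix.ext_of_mulVec_single fun i => ?_)
        obtain ⟨a, ha, hv⟩ := hC.surj (Pi.single i 1)
        rw [Units.val_one, Matrix.one_mulVec, ← hv]
        refine (hC.equiv g a ha).symm.trans ?_
        have h' := hC.add _ (hle (h a ha)) a ha
        rw [show g * a * g⁻¹ * a⁻¹ * a = g * a * g⁻¹ by group,
          (hC.zero _ (hle (h a ha))).mpr (h a ha), zero_add] at h'
        exact h'
      · intro h a ha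
        have h' := hC.equiv g a ha
        rw [h, act_one] at h'
        rw [← hC.zero _ (mul_mem (hA.conj_mem a ha g) (inv_mem ha)),
          hC.add _ (hA.conj_mem a ha g) _ (inv_mem ha), hC.inv ha, h']
        funext i
        exact CharTwo.add_self_eq_zero _
    rw [← hsub]
    exact secCent_eq H hQ hm
  refine ⟨ρ, π, ?_, hker, hC⟩
  rw [← MonoidHom.range_eq_top]
  refine Subgroup.eq_top_of_card_eq _ ?_
  rw [← Subgroup.index_ker, hker, H.index, Cfsg.Agent.H27.SevenPoints.card_GL_three_two]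

end Cfsg.Agent.H34.L32
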