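import Cfsg.Prelude.Def_CaseTheorems
import Cfsg.Agent.Signalizer.AltFiveRadical.Chain
import Cfsg.Agent.H27.SevenPoints
import Cfsg.Agent.H34.L32.Mat

/-! Groups `X` with a normal 2-subgroup `Q` such that `X/Q` is simple of order 168: basic tools. -/

set_option autoImplicit false

namespace Cfsg.Agent.H34.L32

open Subgroup

universe u

variable {X : Type u} [Group X]

/-- `Q` is a normal 2-subgroup with simple quotient of order 168, and the sectional rank is at most 4. -/
structure Hyp (Q : Subgroup X) : Prop where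
  norm : Q.Normal
  two : IsPGroup 2 Q
  rank : Cfsg.SectionalPRankLE 2 4 X
  index : Q.index = 168
  max : ∀ K : Subgroup X, K.Normal → Q ≤ K → K = Q ∨ K = ⊤

/-- coordinates on the section `A/B` -/
structure Coord (ρ : X →* G3) (A B : Subgroup X) (π : X → V3) : Prop where
  le : B ≤ A
  add : ∀ a ∈ A, ∀ b ∈ A, π (a * b) = π a + π b
  surj : ∀ v, ∃ a ∈ A, π a = v
  zero : ∀ a ∈ A, (π a = 0 ↔ a ∈ B)
  equiv : ∀ g, ∀ a ∈ A, π (g * a * g⁻¹) = act (ρ g) (π a)

namespace Coord

variable {ρ : X →* G3} {A B : Subgroup X} {π : X → V3}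

theorem one (h : Coord ρ A B π) : π 1 = 0 := (h.zero 1 A.one_mem).mpr B.one_mem

theorem inv (h : Coord ρ A B π) {a : X} (ha : a ∈ A) : π a⁻¹ = π a := by
  have e := h.add a ha a⁻¹ (inv_mem ha)
  rw [mul_inv_cancel, h.one] at e
  funext i
  have := congrFun e i
  simp only [Pi.zero_apply, Pi.add_apply] at this
  exact (CharTwo.add_eq_zero.mp this.symm).symm

theorem sq (h : Coord ρ A B π) {a : X} (ha : a ∈ A) : a * a ∈ B := by
  rw [← h.zero _ (mul_mem ha ha), h.add a ha a ha]
  funext i
  exact CharTwo.add_self_eq_zero _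

theorem pow (h : Coord ρ A B π) {a : X} (ha : a ∈ A) (n : ℕ) : π (a ^ n) = (n : ZMod 2) • π a := by
  induction n with
  | zero => simp [h.one]
  | succ n ih => rw [pow_succ, h.add _ (pow_mem ha n) _ ha, ih, Nat.cast_succ, add_smul, one_smul]

theorem same (h : Coord ρ A B π) {a b : X} (ha : a ∈ A) (hb : b ∈ A) (e : π a = π b) : a⁻¹ * b ∈ B := by
  rw [← h.zero _ (mul_mem (inv_mem ha) hb), h.add _ (inv_mem ha) _ hb, h.inv ha, e]
  funext i
  exact CharTwo.add_self_eq_zero _

theorem comap {Y : Type u} [Group Y] {ρ' : Y →* G3} {A' B' : Subgroup Y} {π' : Y → V3}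
    (h : Coord ρ' A' B' π') (f : X →* Y) (hf : Function.Surjective f) :
    Coord (ρ'.comp f) (A'.comap f) (B'.comap f) (π' ∘ f) where
  le := Subgroup.comap_mono h.le
  add a ha b hb := by
    show π' (f (a * b)) = _
    rw [map_mul]; exact h.add _ ha _ hb
  surj v := by
    obtain ⟨y, hy, e⟩ := h.surj v
    obtain ⟨x, rfl⟩ := hf y
    exact ⟨x, hy, e⟩
  zero a ha := h.zero (f a) ha
  equiv g a ha := by
    show π' (f (g * a * g⁻¹)) = _
    rw [map_mul, map_mul, map_inv]; exact h.equiv _ _ ha

/-- restriction to a subgroup containing `A` -/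
theorem restrict (h : Coord ρ A B π) (K : Subgroup X) (hK : A ≤ K) :
    Coord (ρ.comp K.subtype) (A.subgroupOf K) (B.subgroupOf K) (fun x : K => π x) where
  le := Subgroup.comap_mono h.le
  add a ha b hb := h.add a ha b hb
  surj v := by
    obtain ⟨y, hy, e⟩ := h.surj v
    exact ⟨⟨y, hK hy⟩, hy, e⟩
  zero a ha := h.zero a ha
  equiv g a ha := h.equiv g a ha

theorem card [Finite X] (h : Coord ρ A B π) : Nat.card A = 8 * Nat.card B := by
  classical
  let f : A →* Multiplicative V3 :=
    { toFun := fun a => Multiplicative.ofAdd (π a)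
      map_one' := by simp [h.one]
      map_mul' := fun a b => by
        rw [← ofAdd_add]
        exact congrArg _ (h.add a a.2 b b.2) }
  have hs : Function.Surjective f := fun v => by
    obtain ⟨a, ha, e⟩ := h.surj (Multiplicative.toAdd v)
    exact ⟨⟨a, ha⟩, congrArg Multiplicative.ofAdd e⟩
  have hk : f.ker = B.subgroupOf A := by
    ext a
    rw [MonoidHom.mem_ker, Subgroup.mem_subgroupOf]
    show Multiplicative.ofAdd (π a) = 1 ↔ _
    rw [ofAdd_eq_one]
    exact h.zero a a.2
  have := card_eq_card_quotient_mul_card_subgroup f.ker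
  rw [Nat.card_congr (QuotientGroup.quotientKerEquivOfSurjective f hs).toEquiv, hk,
    Nat.card_congr (Subgroup.subgroupOfEquivOfLe h.le).toEquiv] at this
  rw [this]
  congr 1
  rw [Nat.card_congr (Multiplicative.toAdd (α := V3)), Nat.card_eq_fintype_card]
  rfl

end Coord

namespace Hyp

variable [Finite X] {Q : Subgroup X}

theorem core (h : Hyp Q) (K : Subgroup X) (hK : Q ≤ K) (hi : K.index < 7) : K = ⊤ := by
  have := h.norm
  rcases h.max K.normalCore (normalCore_normal K) (Subgroup.normal_le_normalCore.mpr hK) with e | e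
  · exfalso
    have hd : (K.normalCore).index ∣ (K.index).factorial := by
      rw [normalCore_eq_ker]
      rw [index_ker]
      refine (Subgroup.card_subgroup_dvd_card _).trans ?_
      rw [Nat.card_perm]
      rfl
    rw [e, h.index] at hd
    interval_cases K.index <;> revert hd <;> decide
  · exact eq_top_iff.mpr (e ▸ normalCore_le K)

theorem exists_seven (h : Hyp Q) : ∃ g : X, g ∉ Q ∧ g ^ 7 ∈ Q := by
  have := h.norm
  haveI : Fact (Nat.Prime 7) := ⟨by norm_num⟩
  obtain ⟨y, hy⟩ := exists_prime_orderOf_dvd_card' (G := X ⧸ Q) 7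
    (by rw [show Nat.card (X ⧸ Q) = 168 from h.index]; norm_num)
  obtain ⟨g, rfl⟩ := QuotientGroup.mk_surjective y
  refine ⟨g, fun hg => ?_, ?_⟩
  · rw [(QuotientGroup.eq_one_iff g).mpr hg, orderOf_one] at hy
    norm_num at hy
  · rw [← QuotientGroup.eq_one_iff, QuotientGroup.mk_pow, ← hy, pow_orderOf_eq_one]

theorem commutator_sup (h : Hyp Q) : commutator X ⊔ Q = ⊤ := by
  have := h.norm
  rcases h.max (commutator X ⊔ Q) inferInstance le_sup_right with e | e
  · exfalso
    have hc : commutator X ≤ Q := e ▸ le_sup_left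
    obtain ⟨g, hg, hg7⟩ := h.exists_seven
    have hn : (Q ⊔ zpowers g).Normal := Subgroup.Normal.of_commutator_le X (H := Q ⊔ zpowers g) (hc.trans le_sup_left)
    rcases h.max _ hn le_sup_left with e' | e'
    · exact hg (e' ▸ (mem_sup_right (mem_zpowers g)))
    · have htop : zpowers (g : X ⧸ Q) = ⊤ := by
        have := congrArg (Subgroup.map (QuotientGroup.mk' Q)) e'
        rw [Subgroup.map_sup, MonoidHom.map_zpowers, Subgroup.map_top_of_surjective _ (QuotientGroup.mk'_surjective Q),
          QuotientGroup.map_mk'_self, bot_sup_eq] at this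
        exact this
      have hc : orderOf (g : X ⧸ Q) ∣ 7 := orderOf_dvd_of_pow_eq_one (by
        rw [← QuotientGroup.mk_pow]; exact (QuotientGroup.eq_one_iff _).mpr hg7)
      rw [← Nat.card_zpowers, htop, Subgroup.card_top, show Nat.card (X ⧸ Q) = 168 from h.index] at hc
      norm_num at hc
  · exact e

/-- homomorphisms to commutative groups killing `Q` are trivial -/
theorem hom_trivial (h : Hyp Q) {A : Type*} [CommGroup A] (f : X →* A) (hf : Q ≤ f.ker) : f = 1 := by
  have hk : commutator X ⊔ Q ≤ f.ker := sup_le (Abelianization.commutator_subset_ker f) hf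
  rw [h.commutator_sup] at hk
  ext x
  exact MonoidHom.mem_ker.mp (hk (mem_top x))

theorem quot (h : Hyp Q) (M : Subgroup X) [M.Normal] (hM : M ≤ Q) :
    Hyp (Q.map (QuotientGroup.mk' M)) where
  norm := h.norm.map _ (QuotientGroup.mk'_surjective M)
  two := h.two.map _
  rank := Cfsg.Agent.Signalizer.AltFive.rank_map h.rank _ (QuotientGroup.mk'_surjective M)
  index := by
    rw [Subgroup.index_map_eq _ (QuotientGroup.mk'_surjective M) (by rw [QuotientGroup.ker_mk']; exact hM)]
    exact h.index
  max K hK hQK := by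
    have e := Subgroup.map_comap_eq_self_of_surjective (QuotientGroup.mk'_surjective M) K
    rcases h.max (K.comap (QuotientGroup.mk' M)) (hK.comap _) (map_le_iff_le_comap.mp hQK) with e' | e'
    · left; rw [← e, e']
    · right; rw [← e, e', map_top_of_surjective _ (QuotientGroup.mk'_surjective M)]

/-- a map with kernel `Q` onto `GL₃(2)` -/
theorem of_surj {ρ : X →* G3} (hρ : Function.Surjective ρ) (hker : ρ.ker = Q)
    (hs : IsSimpleGroup G3) (h2 : IsPGroup 2 Q) (hr : Cfsg.SectionalPRankLE 2 4 X) : Hyp Q where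
  norm := hker ▸ inferInstance
  two := h2
  rank := hr
  index := by
    rw [← hker, Subgroup.index_ker, MonoidHom.range_eq_top.mpr hρ, Subgroup.card_top]
    exact Cfsg.Agent.H27.SevenPoints.card_GL_three_two
  max K hK hQK := by
    have e := Subgroup.comap_map_eq_self (f := ρ) (H := K) (hker.le.trans hQK)
    rcases hs.eq_bot_or_eq_top_of_normal _ (hK.map ρ hρ) with e' | e'
    · left; rw [← e, e', MonoidHom.comap_bot, hker]
    · right; rw [← e, e', Subgroup.comap_top]

end Hyp

/-- the number of conjugates of `u` under a homomorphic image -/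
theorem card_conjugates {Y : Type*} [Group Y] (f : X →* Y) (u : Y) :
    Nat.card {y : Y // ∃ g, f g * u * (f g)⁻¹ = y} = ((centralizer {u}).comap f).index := by
  refine (Nat.card_eq_of_bijective (Quotient.lift (fun g : X => (⟨f g * u * (f g)⁻¹, g, rfl⟩ :
    {y : Y // ∃ g, f g * u * (f g)⁻¹ = y})) ?_) ⟨?_, ?_⟩).symm
  · intro a b hab
    have h' : f (a⁻¹ * b) * u = u * f (a⁻¹ * b) :=
      mem_centralizer_singleton_iff.mp (QuotientGroup.leftRel_apply.mp hab)
    refine Subtype.ext ?_
    show f a * u * (f a)⁻¹ = f b * u * (f b)⁻¹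
    rw [map_mul, map_inv] at h'
    calc f a * u * (f a)⁻¹ = f a * (u * ((f a)⁻¹ * f b)) * (f b)⁻¹ := by group
      _ = f b * u * (f b)⁻¹ := by rw [← h']; group
  · intro x y
    induction x using Quotient.inductionOn with
    | h a =>
      induction y using Quotient.inductionOn with
      | h b =>
        intro e
        have e' : f a * u * (f a)⁻¹ = f b * u * (f b)⁻¹ := congrArg Subtype.val e
        refine Quotient.sound (QuotientGroup.leftRel_apply.mpr (mem_centralizer_singleton_iff.mpr ?_))
        rw [map_mul, map_inv]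
        calc (f a)⁻¹ * f b * u = (f a)⁻¹ * (f b * u * (f b)⁻¹) * f b := by group
          _ = u * ((f a)⁻¹ * f b) := by rw [← e']; group
  · rintro ⟨y, g, hg⟩
    exact ⟨Quotient.mk _ g, Subtype.ext hg⟩

end Cfsg.Agent.H34.L32
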