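import Cfsg.Agent.H34.L32.Orbit

/-! A splitting criterion for modules of order 16, and the subgroup of index two. -/

set_option autoImplicit false

namespace Cfsg.Agent.H34.L32

open Subgroup

universe u

theorem line_C : ∀ a b : V3, ∃ i : Fin 7, act (C ^ (i : ℕ)) a 2 = 0 ∧ act (C ^ (i : ℕ)) b 2 = 0 := by
  decide +kernel

set_option synthInstance.maxSize 1000 in
theorem plane_mem : ∀ a b v : V3, a 2 = 0 → b 2 = 0 → a ≠ 0 → b ≠ 0 → a ≠ b →
    ((v = a ∨ v = b ∨ v = a + b) ↔ (v = ![1, 0, 0] ∨ v = ![0, 1, 0] ∨ v = ![1, 1, 0])) := by decide +kernel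

theorem plane_set (a b : V3) (ha2 : a 2 = 0) (hb2 : b 2 = 0) (ha : a ≠ 0) (hb : b ≠ 0) (hab : a ≠ b) :
    ({a, b, a + b} : Finset V3) = {![1, 0, 0], ![0, 1, 0], ![1, 1, 0]} := by
  ext v
  simp only [Finset.mem_insert, Finset.mem_singleton]
  exact plane_mem a b v ha2 hb2 ha hb hab

/-- an invariant function on unordered lines is constant -/
theorem line_const {α : Type*} [CommMonoid α] (f : V3 → α) (δ : V3 → V3 → α)
    (hδ : ∀ a b, a ≠ 0 → b ≠ 0 → a ≠ b → δ a b = f a * f b * f (a + b))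
    (hinv : ∀ g : G3, ∀ a b, a ≠ 0 → b ≠ 0 → a ≠ b → δ (act g a) (act g b) = δ a b)
    {a b : V3} (ha : a ≠ 0) (hb : b ≠ 0) (hab : a ≠ b) :
    δ a b = ∏ v ∈ ({![1, 0, 0], ![0, 1, 0], ![1, 1, 0]} : Finset V3), f v := by
  obtain ⟨i, hia, hib⟩ := line_C a b
  set g := C ^ (i : ℕ)
  have hne : ∀ {v : V3}, v ≠ 0 → act g v ≠ 0 := fun {v} hv h => hv (by
    rw [← act_inv_act g v, h, act_zero])
  have hne' : act g a ≠ act g b := fun h => hab (by rw [← act_inv_act g a, h, act_inv_act])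
  rw [← hinv g a b ha hb hab, ← plane_set _ _ hia hib (hne ha) (hne hb) hne',
    hδ _ _ (hne ha) (hne hb) hne']
  have h3a : act g a ≠ act g a + act g b := fun h => hne hb (left_eq_add.mp h)
  have h3b : act g b ≠ act g a + act g b := fun h => hne ha (right_eq_add.mp h)
  rw [Finset.prod_insert (by simp [hne', h3a]), Finset.prod_insert (by simp [h3b]), Finset.prod_singleton,
    mul_assoc]

variable {X : Type u} [Group X] [Finite X] {Q : Subgroup X}

/-- if a regular unipotent element fixes a lift of its fixed vector, there is a complement to the fixed point -/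
theorem split_one_three {ρ : X →* G3} (hρ : Function.Surjective ρ) (V : Subgroup X) [hV : V.Normal]
    (hsq : ∀ v ∈ V, v * v = 1) (hcom : ∀ a ∈ V, ∀ b ∈ V, a * b = b * a)
    (hQ : ∀ q, ρ q = 1 → ∀ v ∈ V, q * v = v * q)
    (x : X) (hxV : x ∈ V) (hxc : ∀ g, g * x = x * g)
    {π : X → V3} (hπ : Coord ρ V (zpowers x) π)
    (r : X) (hr : ρ r = R) (ct : X) (hctV : ct ∈ V) (hct : π ct = vc) (hrct : r * ct = ct * r) :
    ∃ U : Subgroup X, U.Normal ∧ U ≤ V ∧ Nat.card U = 8 := by
  classical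
  have hxz : ∀ z ∈ zpowers x, z = 1 ∨ z = x := by
    intro z hz
    obtain ⟨k, rfl⟩ := mem_zpowers_iff.mp hz
    rcases Int.even_or_odd k with ⟨m, rfl⟩ | ⟨m, rfl⟩
    · left; rw [← two_mul, zpow_mul, zpow_two, hsq x hxV, one_zpow]
    · right; rw [zpow_add, zpow_mul, zpow_two, hsq x hxV, one_zpow, one_mul, zpow_one]
  obtain ⟨h, hh⟩ := hρ H
  set u := h * r * h⁻¹ with hu
  have hρu : ρ u = U := by rw [hu, map_mul, map_mul, map_inv, hh, hr]; rfl
  have hπh : π (h * ct * h⁻¹) = vc := by rw [hπ.equiv h ct hctV, hh, hct, H_vc]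
  have huct : u * ct = ct * u := by
    have h1 : ct⁻¹ * (h * ct * h⁻¹) ∈ zpowers x :=
      hπ.same hctV (hV.conj_mem _ hctV h) (by rw [hπh, hct])
    have h2 : u * (h * ct * h⁻¹) = (h * ct * h⁻¹) * u := by
      calc u * (h * ct * h⁻¹) = h * (r * ct) * h⁻¹ := by rw [hu]; group
        _ = (h * ct * h⁻¹) * u := by rw [hrct, hu]; group
    have hux : Commute u (ct⁻¹ * (h * ct * h⁻¹)) := by
      rcases hxz _ h1 with e | e <;> rw [e]
      · exact Commute.one_right u
      · exact hxc u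
    have hh2 : Commute u (h * ct * h⁻¹) := h2
    have := hh2.mul_right hux.inv_right
    rw [mul_inv_rev, inv_inv, ← mul_assoc, mul_inv_cancel, one_mul] at this
    exact this
  have hK : ∀ g, act (ρ g) vc = vc → g * ct = ct * g := by
    intro g hg
    obtain ⟨i, j, k, l, hw⟩ := stab_vc (ρ g) hg
    set w := r ^ i * u ^ j * r ^ k * u ^ l with hwdef
    have hρw : ρ w = ρ g := by rw [hw, hwdef]; simp only [map_mul, map_pow, hr, hρu]
    have hwc : Commute w ct :=
      ((((show Commute r ct from hrct).pow_left i).mul_left ((show Commute u ct from huct).pow_left j)).mul_left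
        ((show Commute r ct from hrct).pow_left k)).mul_left ((show Commute u ct from huct).pow_left l)
    have hq : Commute (g * w⁻¹) ct := hQ _ (by rw [map_mul, map_inv, hρw, mul_inv_cancel]) ct hctV
    have := hq.mul_left hwc
    rwa [inv_mul_cancel_right] at this
  choose gv hgv using fun v : {v : V3 // v ≠ 0} => (fun ⟨g, hg⟩ => by
    obtain ⟨x, rfl⟩ := hρ g
    exact ⟨x, hg⟩ : (∃ g, act g vc = v.1) → ∃ g, act (ρ g) vc = v.1) (trans v.1 v.2)
  let sg : V3 → V := fun v => if hv : v ≠ 0 then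
    ⟨gv ⟨v, hv⟩ * ct * (gv ⟨v, hv⟩)⁻¹, hV.conj_mem _ hctV _⟩ else 1
  have hsg : ∀ g : X, (sg (act (ρ g) vc) : X) = g * ct * g⁻¹ := by
    intro g
    have hne : act (ρ g) vc ≠ 0 := fun h0 => not_vc.1 (by rw [← act_inv_act (ρ g) vc, h0, act_zero])
    simp only [sg, dif_pos hne]
    set k := gv ⟨_, hne⟩
    have hk : act (ρ k) vc = act (ρ g) vc := hgv ⟨_, hne⟩
    have := hK (g⁻¹ * k) (by rw [map_mul, map_inv, act_mul, hk, act_inv_act])
    calc k * ct * k⁻¹ = g * ((g⁻¹ * k) * ct) * k⁻¹ := by group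
      _ = g * ct * g⁻¹ := by rw [this]; group
  have hπs : ∀ v, v ≠ 0 → π (sg v) = v := fun v hv => by
    obtain ⟨g, hg⟩ := trans v hv
    obtain ⟨g, rfl⟩ := hρ g
    rw [← hg, hsg g, hπ.equiv g ct hctV, hct]
  letI : CommGroup V :=
    { (inferInstance : Group V) with mul_comm := fun a b => Subtype.ext (hcom a a.2 b b.2) }
  let cj : X → MulAut V := fun k => MulAut.conjNormal k
  have heq : ∀ k : X, ∀ v, v ≠ 0 → cj k (sg v) = sg (act (ρ k) v) := by
    intro k v hv
    obtain ⟨g, hg⟩ := trans v hv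
    obtain ⟨g, rfl⟩ := hρ g
    refine Subtype.ext ?_
    rw [← hg, ← act_mul, ← map_mul, hsg (k * g)]
    show k * (sg (act (ρ g) vc) : X) * k⁻¹ = _
    rw [hsg g]; group
  let δ : V3 → V3 → V := fun a b => sg a * sg b * sg (a + b)
  set τ := ∏ v ∈ ({![1, 0, 0], ![0, 1, 0], ![1, 1, 0]} : Finset V3), sg v with hτ
  have hmem : ∀ a b, a ≠ 0 → b ≠ 0 → a ≠ b → (δ a b : X) ∈ zpowers x := by
    intro a b ha hb hab
    have hab0 : a + b ≠ 0 := fun h => hab (funext fun i =>
      CharTwo.add_eq_zero.mp (by simpa using congrFun h i))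
    refine (hπ.zero _ (δ a b).2).mp ?_
    show π ((sg a : X) * sg b * sg (a + b)) = 0
    rw [hπ.add _ (mul_mem (sg a).2 (sg b).2) _ (sg (a + b)).2, hπ.add _ (sg a).2 _ (sg b).2, hπs _ ha,
      hπs _ hb, hπs _ hab0]
    exact funext fun i => CharTwo.add_self_eq_zero (R := ZMod 2) _
  have hfix : ∀ k : X, ∀ z : V, (z : X) ∈ zpowers x → cj k z = z := by
    intro k z hz
    refine Subtype.ext ?_
    show k * (z : X) * k⁻¹ = z
    rcases hxz _ hz with e | e <;> rw [e]
    · group
    · rw [hxc, mul_inv_cancel_right]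
  have hδc : ∀ a b, a ≠ 0 → b ≠ 0 → a ≠ b → δ a b = τ := by
    intro a b ha hb hab
    refine line_const sg δ (fun _ _ _ _ _ => rfl) ?_ ha hb hab
    intro g a b ha hb hab
    obtain ⟨k, rfl⟩ := hρ g
    have hab0 : a + b ≠ 0 := fun h => hab (funext fun i =>
      CharTwo.add_eq_zero.mp (by simpa using congrFun h i))
    show sg _ * sg _ * sg _ = _
    rw [← act_add, ← heq k a ha, ← heq k b hb, ← heq k _ hab0, ← map_mul, ← map_mul]
    exact hfix k (δ a b) (hmem a b ha hb hab)
  have e100 : (![1, 0, 0] : V3) ≠ 0 ∧ (![0, 1, 0] : V3) ≠ 0 ∧ (![1, 0, 0] : V3) ≠ ![0, 1, 0] := by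
    decide +kernel
  have hτx : (τ : X) ∈ zpowers x := by
    rw [← hδc _ _ e100.1 e100.2.1 e100.2.2]
    exact hmem _ _ e100.1 e100.2.1 e100.2.2
  have hττ : τ * τ = 1 := Subtype.ext (hsq τ τ.2)
  let s : V3 → V := fun v => if v = 0 then 1 else sg v * τ
  have hs : ∀ a b, s (a + b) = s a * s b := by
    intro a b
    by_cases ha : a = 0
    · subst ha; simp [s]
    by_cases hb : b = 0
    · subst hb; simp [s]
    by_cases hab : a = b
    · subst hab
      have : a + a = 0 := funext fun i => CharTwo.add_self_eq_zero _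
      rw [this]
      simp only [s, if_true, if_neg ha]
      exact (Subtype.ext (hsq _ (sg a * τ).2)).symm
    have hab0 : a + b ≠ 0 := fun h => hab (funext fun i =>
      CharTwo.add_eq_zero.mp (by simpa using congrFun h i))
    have h2 : ∀ v : V, v⁻¹ = v := fun v => inv_eq_of_mul_eq_one_right (Subtype.ext (hsq v v.2))
    simp only [s, if_neg ha, if_neg hb, if_neg hab0]
    rw [← h2 (sg a * τ * (sg b * τ))]
    refine eq_inv_of_mul_eq_one_left ?_
    have h3 := hδc a b ha hb hab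
    calc sg (a + b) * τ * (sg a * τ * (sg b * τ)) = (sg a * sg b * sg (a + b)) * (τ * τ * τ) := by
          rw [mul_mul_mul_comm (sg a) τ, mul_mul_mul_comm (sg (a + b)) τ, mul_comm (sg (a + b)),
            mul_assoc τ τ τ]
      _ = 1 := by rw [show sg a * sg b * sg (a + b) = τ from h3, hττ, one_mul, hττ]
  let f : Multiplicative V3 →* X := V.subtype.comp
    { toFun := fun v => s (Multiplicative.toAdd v)
      map_one' := by simp [s]
      map_mul' := fun a b => hs _ _ }
  have hfπ : ∀ v : V3, π (f (Multiplicative.ofAdd v)) = v := by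
    intro v
    show π (s v : X) = v
    by_cases hv : v = 0
    · subst hv; simp [s, hπ.one]
    · simp only [s, if_neg hv]
      rw [Subgroup.coe_mul, hπ.add _ (sg v).2 _ τ.2, (hπ.zero _ τ.2).mpr hτx, add_zero, hπs v hv]
  have hinj : Function.Injective f := fun a b e => by
    have := congrArg π e
    rw [← ofAdd_toAdd a, ← ofAdd_toAdd b, hfπ, hfπ] at this
    exact this
  refine ⟨f.range, ⟨?_⟩, ?_, ?_⟩
  · rintro _ ⟨v, rfl⟩ k
    refine ⟨Multiplicative.ofAdd (act (ρ k) (Multiplicative.toAdd v)), ?_⟩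
    show (s (act (ρ k) (Multiplicative.toAdd v)) : X) = k * (s (Multiplicative.toAdd v) : X) * k⁻¹
    by_cases hv : Multiplicative.toAdd v = 0
    · simp [s, hv, act_zero]
    · have hv' : act (ρ k) (Multiplicative.toAdd v) ≠ 0 := fun h0 => hv (by
        rw [← act_inv_act (ρ k) (Multiplicative.toAdd v), h0, act_zero])
      simp only [s, if_neg hv, if_neg hv']
      rw [← heq k _ hv]
      have h1 : cj k (sg (Multiplicative.toAdd v) * τ) = cj k (sg (Multiplicative.toAdd v)) * τ := by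
        rw [map_mul, hfix k τ hτx]
      exact (congrArg Subtype.val h1).symm
  · rintro _ ⟨v, rfl⟩; exact (s _).2
  · rw [show Nat.card f.range = Nat.card (Multiplicative V3) from
      (Nat.card_congr (MonoidHom.ofInjective hinj).toEquiv).symm,
      Nat.card_congr (Multiplicative.toAdd (α := V3)), Nat.card_eq_fintype_card]
    rfl

/-- if the fourth power of a lift of `R` lies in `W`, some subgroup meets `Q` in `W` and covers `X/Q` -/
theorem exists_supplement (H : Hyp Q) {ρ : X →* G3} (hρ : Function.Surjective ρ) (hker : ρ.ker = Q)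
    (W : Subgroup X) [W.Normal] (hW : W ≤ Q) (h2 : Nat.card Q = 2 * Nat.card W)
    (r : X) (hr : ρ r = R) (hr4 : r ^ 4 ∈ W) :
    ∃ X0 : Subgroup X, W ≤ X0 ∧ X0 ⊓ Q = W ∧ ∀ g, ∃ x ∈ X0, ρ x = g := by
  refine ⟨commutator X ⊔ W, le_sup_right, ?_, fun g => ?_⟩
  swap
  · have h := congrArg (Subgroup.map ρ) H.commutator_sup
    rw [Subgroup.map_sup, Subgroup.map_top_of_surjective _ hρ,
      show Q.map ρ = ⊥ from (Subgroup.map_eq_bot_iff Q).mpr hker.ge, sup_bot_eq] at h
    obtain ⟨x, hx, e⟩ := h.ge (mem_top g)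
    exact ⟨x, mem_sup_left hx, e⟩
  haveI := H.norm
  have hWI : W ≤ (commutator X ⊔ W) ⊓ Q := le_inf le_sup_right hW
  by_contra hne
  have hQle : Q ≤ commutator X ⊔ W := by
    obtain ⟨k, hk⟩ := card_dvd_of_le hWI
    have hd := card_dvd_of_le (show (commutator X ⊔ W) ⊓ Q ≤ Q from inf_le_right)
    rw [hk, h2, mul_comm 2] at hd
    have hk2 : k ∣ 2 := Nat.dvd_of_mul_dvd_mul_left Nat.card_pos hd
    rcases (Nat.dvd_prime Nat.prime_two).mp hk2 with rfl | rfl
    · exact absurd (eq_of_le_of_card_ge hWI (le_of_eq (by rw [hk, mul_one]))).symm hne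
    · exact inf_eq_right.mp (eq_of_le_of_card_ge inf_le_right (le_of_eq (by rw [h2, hk, mul_comm])))
  set mk := QuotientGroup.mk' W
  have hmks : Function.Surjective mk := QuotientGroup.mk'_surjective W
  set Z := Q.map mk with hZ
  have hZn : Z.Normal := H.norm.map mk hmks
  have hZ2 : Nat.card Z = 2 := by
    have := Cfsg.Agent.Signalizer.AltFive.card_eq_map_mul mk Q (by rw [QuotientGroup.ker_mk']; exact hW)
    rw [QuotientGroup.ker_mk', h2] at this
    exact (Nat.eq_of_mul_eq_mul_right Nat.card_pos this).symm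
  obtain ⟨z, hz1, hzall⟩ : ∃ z : X ⧸ W, z ≠ 1 ∧ ∀ y ∈ Z, y = 1 ∨ y = z := by
    obtain ⟨a, b, hab, hset⟩ := Nat.card_eq_two_iff.mp hZ2
    have hall : ∀ y : Z, y = a ∨ y = b := fun y => by
      have : y ∈ ({a, b} : Set Z) := hset ▸ Set.mem_univ y
      exact this
    rcases hall 1 with h1 | h1
    · refine ⟨b, fun h => hab (h1.symm.trans (Subtype.ext h.symm)), fun y hy => ?_⟩
      rcases hall ⟨y, hy⟩ with h | h
      · exact Or.inl (congrArg Subtype.val (h.trans h1.symm))
      · exact Or.inr (congrArg Subtype.val h)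
    · refine ⟨a, fun h => hab ((Subtype.ext h).trans h1), fun y hy => ?_⟩
      rcases hall ⟨y, hy⟩ with h | h
      · exact Or.inr (congrArg Subtype.val h)
      · exact Or.inl (congrArg Subtype.val (h.trans h1.symm))
  have hzmem : z ∈ Z := by
    haveI : Nontrivial Z := Finite.one_lt_card_iff_nontrivial.mp (by omega)
    obtain ⟨y, hy⟩ := exists_ne (1 : Z)
    rcases hzall y y.2 with h | h
    · exact absurd (Subtype.ext h) hy
    · exact h ▸ y.2
  have hzc : ∀ e, e * z = z * e := by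
    intro e
    rcases hzall _ (hZn.conj_mem z hzmem e) with h | h
    · exact absurd (by rw [mul_inv_eq_one, mul_eq_left] at h; exact h) hz1
    · exact mul_inv_eq_iff_eq_mul.mp h
  have hzz : z * z = 1 := by
    rcases hzall _ (mul_mem hzmem hzmem) with h | h
    · exact h
    · exact absurd (mul_eq_left.mp h) hz1
  obtain ⟨h, hh⟩ := hρ L32.H
  obtain ⟨K, hK, -⟩ := exists_K
  obtain ⟨k, hk⟩ := hρ K
  set t := mk r with ht
  have ht4 : t ^ 4 = 1 := by rw [ht, ← map_pow]; exact (QuotientGroup.eq_one_iff _).mpr hr4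
  have hsqr : ∀ y : X, ∀ l : X, ρ y = ρ l * T * (ρ l)⁻¹ → mk y * mk y = 1 := by
    intro y l hy
    have hm : (l * (r * r) * l⁻¹)⁻¹ * y ∈ Q := by
      rw [← hker, MonoidHom.mem_ker, map_mul, map_inv, hy, map_mul, map_mul, map_mul, map_inv, hr]
      exact inv_mul_cancel _
    have hzq := hzall _ (mem_map_of_mem mk hm)
    have e : mk y = mk (l * (r * r) * l⁻¹) * mk ((l * (r * r) * l⁻¹)⁻¹ * y) := by
      rw [← map_mul, mul_inv_cancel_left]
    have hc : mk (l * (r * r) * l⁻¹) * mk (l * (r * r) * l⁻¹) = 1 := by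
      simp only [map_mul, map_inv, ← ht]
      rw [conj_mul, show t * t * (t * t) = t ^ 4 by simp only [pow_succ, pow_zero, one_mul, mul_assoc],
        ht4, mul_one, mul_inv_cancel]
    rw [e]
    rcases hzq with h' | h' <;> rw [h']
    · rw [mul_one, hc]
    · rw [(show Commute z (mk (l * (r * r) * l⁻¹)) from (hzc _).symm).mul_mul_mul_comm, hc, hzz, one_mul]
  set s := mk (h * (r * r) * h⁻¹) with hs
  have hρs : ρ (h * (r * r) * h⁻¹) = S := by simp [S, T, hh, hr]
  have hss : s * s = 1 := hsqr _ h (by rw [hρs, hh]; rfl)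
  have hts : t * s * (t * s) = 1 := by
    rw [ht, hs, ← map_mul]
    refine hsqr _ k ?_
    rw [map_mul, hρs, hr, hk, hK]
  have hinv : s * t * s⁻¹ = t⁻¹ := by
    refine eq_inv_of_mul_eq_one_right ?_
    rw [inv_eq_of_mul_eq_one_right hss, ← hts]
    group
  -- a Sylow 2-subgroup of the extension
  set T' : Set (X ⧸ W) := {t, s, z} with hT'
  set SE := closure T' with hSE
  have htS : t ∈ SE := subset_closure (by simp [hT'])
  have hsS : s ∈ SE := subset_closure (by simp [hT'])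
  have hzS : z ∈ SE := subset_closure (by simp [hT'])
  have htc : ∀ a ∈ T', a * (t * t) = (t * t) * a := by
    rintro a (rfl | rfl | rfl)
    · group
    · refine mul_inv_eq_iff_eq_mul.mp ?_
      calc s * (t * t) * s⁻¹ = (s * t * s⁻¹) * (s * t * s⁻¹) := by group
        _ = t⁻¹ * t⁻¹ := by rw [hinv]
        _ = t * t := by
          have h4 : (t * t) * (t * t) = 1 := by
            rw [← ht4]; simp only [pow_succ, pow_zero, one_mul, mul_assoc]
          rw [← mul_inv_rev]
          exact inv_eq_of_mul_eq_one_right h4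
    · exact (hzc _).symm
  have htC : t * t ∈ SE := mul_mem htS htS
  haveI : ((zpowers (⟨t * t, htC⟩ : SE))).Normal := by
    refine ⟨fun n hn g => ?_⟩
    have hg : (g : X ⧸ W) ∈ centralizer {t * t} :=
      (closure_le _).mpr (fun a ha => mem_centralizer_singleton_iff.mpr (htc a ha)) g.2
    have hc : Commute g n := by
      obtain ⟨m, rfl⟩ := mem_zpowers_iff.mp hn
      exact (show Commute g ⟨t * t, htC⟩ from Subtype.ext (mem_centralizer_singleton_iff.mp hg)).zpow_right m
    rw [hc.eq, mul_inv_cancel_right]; exact hn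
  set φ := QuotientGroup.mk' (zpowers (⟨t * t, htC⟩ : SE))
  have hgen : closure (φ '' ((↑) ⁻¹' T')) = ⊤ := by
    rw [← MonoidHom.map_closure, closure_closure_coe_preimage,
      map_top_of_surjective _ (QuotientGroup.mk'_surjective _)]
  have hts' : φ ⟨s, hsS⟩ * φ ⟨t, htS⟩ = φ ⟨t, htS⟩ * φ ⟨s, hsS⟩ := by
    rw [← map_mul φ, ← map_mul φ]
    refine (QuotientGroup.eq.mpr (mem_zpowers_iff.mpr ⟨1, Subtype.ext ?_⟩))
    show (t * t) ^ (1 : ℤ) = (s * t)⁻¹ * (t * s)
    rw [zpow_one, show s * t = t⁻¹ * s by rw [← hinv]; group,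
      show (t⁻¹ * s)⁻¹ * (t * s) = s⁻¹ * (t * t) * s by group]
    rw [mul_assoc, ← htc s (by simp [hT']), inv_mul_cancel_left]
  obtain ⟨hab, hel⟩ := closure_elem _ hgen
    (by
      rintro _ ⟨⟨a, ha⟩, h', rfl⟩
      rw [← map_mul φ]
      refine (QuotientGroup.eq_one_iff _).mpr ?_
      rcases (show a = t ∨ a = s ∨ a = z from h') with e | e | e
      · rw [show (⟨a, ha⟩ : SE) = ⟨t, htS⟩ from Subtype.ext e]; exact mem_zpowers _
      · rw [show (⟨a, ha⟩ : SE) * ⟨a, ha⟩ = 1 from Subtype.ext (by show a * a = 1; rw [e, hss])]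
        exact one_mem _
      · rw [show (⟨a, ha⟩ : SE) * ⟨a, ha⟩ = 1 from Subtype.ext (by show a * a = 1; rw [e, hzz])]
        exact one_mem _)
    (by
      rintro _ ⟨⟨a, ha⟩, h1, rfl⟩ _ ⟨⟨b, hb⟩, h2', rfl⟩
      have hz : ∀ w : SE, φ ⟨z, hzS⟩ * φ w = φ w * φ ⟨z, hzS⟩ := fun w => by
        rw [← map_mul φ, ← map_mul φ]; exact congrArg φ (Subtype.ext (hzc w).symm)
      rcases (show a = t ∨ a = s ∨ a = z from h1) with e | e | e <;>
      rcases (show b = t ∨ b = s ∨ b = z from h2') with e' | e' | e'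
      · rw [show (⟨a, ha⟩ : SE) = ⟨b, hb⟩ from Subtype.ext (e.trans e'.symm)]
      · rw [show (⟨a, ha⟩ : SE) = ⟨t, htS⟩ from Subtype.ext e,
          show (⟨b, hb⟩ : SE) = ⟨s, hsS⟩ from Subtype.ext e', hts']
      · rw [show (⟨b, hb⟩ : SE) = ⟨z, hzS⟩ from Subtype.ext e']; exact (hz _).symm
      · rw [show (⟨a, ha⟩ : SE) = ⟨s, hsS⟩ from Subtype.ext e,
          show (⟨b, hb⟩ : SE) = ⟨t, htS⟩ from Subtype.ext e', hts']
      · rw [show (⟨a, ha⟩ : SE) = ⟨b, hb⟩ from Subtype.ext (e.trans e'.symm)]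
      · rw [show (⟨b, hb⟩ : SE) = ⟨z, hzS⟩ from Subtype.ext e']; exact (hz _).symm
      all_goals (rw [show (⟨a, ha⟩ : SE) = ⟨z, hzS⟩ from Subtype.ext e]; exact hz _))
  haveI : Fact (Nat.Prime 2) := ⟨Nat.prime_two⟩
  have h2p : IsPGroup 2 SE := by
    intro y
    refine ⟨2, ?_⟩
    have hy : y * y ∈ zpowers (⟨t * t, htC⟩ : SE) := (QuotientGroup.eq_one_iff _).mp ((map_mul φ y y).trans (hel (φ y)))
    obtain ⟨m, hm⟩ := mem_zpowers_iff.mp hy
    show y ^ (2 * 2) = 1
    rw [pow_mul, pow_two y, ← hm]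
    refine Subtype.ext ?_
    show ((t * t) ^ m) ^ 2 = 1
    rw [← zpow_natCast, ← zpow_mul, mul_comm, zpow_mul, zpow_natCast,
      show (t * t) ^ 2 = t ^ 4 by rw [← pow_two t, ← pow_mul], ht4, one_zpow]
  let ρb : X ⧸ W →* G3 := QuotientGroup.lift W ρ (hker.symm ▸ hW)
  have hρz : ρb z = 1 := by
    obtain ⟨q, hq, rfl⟩ := hzmem
    show ρ q = 1
    exact MonoidHom.mem_ker.mp (hker.ge hq)
  obtain ⟨n, hn⟩ := IsPGroup.iff_card.mp h2p
  have h16 : 16 ≤ Nat.card SE := by
    let f : SE →* G3 := ρb.comp SE.subtype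
    have hR : R ∈ f.range := ⟨⟨t, htS⟩, hr⟩
    have hS : S ∈ f.range := ⟨⟨s, hsS⟩, hρs⟩
    have h4 : Nat.card (zpowers R) = 4 := by
      rw [Nat.card_zpowers]
      exact orderOf_eq_prime_pow (p := 2) (n := 1) (by rw [pow_one]; exact R_two) R_four
    have h5 : 5 ≤ Nat.card f.range := by
      have hle : zpowers R ≤ f.range := zpowers_le.mpr hR
      by_contra hlt
      have e := eq_of_le_of_card_ge hle (by rw [h4]; omega)
      rw [← e] at hS
      have hcm : Commute S R := by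
        obtain ⟨m, hm⟩ := mem_zpowers_iff.mp hS
        rw [← hm]; exact (Commute.refl R).zpow_left m
      have := S_inv
      rw [hcm.eq, mul_inv_cancel_right] at this
      exact R_two (by rw [pow_two]; exact mul_eq_one_iff_eq_inv.mpr this)
    have h2k : 2 ≤ Nat.card f.ker := by
      haveI : Nontrivial f.ker := ⟨⟨⟨⟨z, hzS⟩, hρz⟩, 1, fun e => hz1
        (congrArg (fun w : f.ker => ((w : SE) : X ⧸ W)) e)⟩⟩
      exact Finite.one_lt_card
    have hcard := f.ker.card_mul_index
    rw [index_ker] at hcard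
    have : 2 * 5 ≤ Nat.card SE := hcard ▸ Nat.mul_le_mul h2k h5
    rw [hn] at this ⊢
    rcases Nat.lt_or_ge n 4 with h | h
    · interval_cases n <;> omega
    · exact le_trans (by norm_num) (Nat.pow_le_pow_right (by norm_num) h)
  have hE : Nat.card (X ⧸ W) = 336 := by
    have h1 := Subgroup.card_mul_index Q
    have h3 := Subgroup.card_mul_index W
    rw [H.index, h2] at h1
    rw [← h3] at h1
    have : Nat.card W * W.index = Nat.card W * 336 := by linarith
    exact Nat.eq_of_mul_eq_mul_left Nat.card_pos this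
  have hi := SE.card_mul_index
  rw [hE, hn] at hi
  have hn4 : n = 4 := by
    have h4 : 4 ≤ n := (Nat.pow_le_pow_iff_right (a := 2) one_lt_two).mp (by rw [← hn]; exact h16)
    by_contra hne
    have h5 : 2 ^ 5 ∣ 336 := (pow_dvd_pow 2 (show 5 ≤ n by omega)).trans (Dvd.intro _ hi)
    norm_num at h5
  have h21 : SE.index = 21 := by rw [hn4] at hi; omega
  letI : CommGroup (SE ⧸ zpowers (⟨t * t, htC⟩ : SE)) :=
    { (inferInstance : Group (SE ⧸ zpowers (⟨t * t, htC⟩ : SE))) with mul_comm := hab }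
  have hkey := MonoidHom.transfer_eq_pow φ z (fun m g _ => by
    rw [mul_assoc, ((show Commute g z from hzc g).pow_right m).symm.eq, inv_mul_cancel_left])
  have hzcomm : z ∈ commutator (X ⧸ W) := by
    obtain ⟨q, hq, rfl⟩ := hzmem
    obtain ⟨c, hc, w, hw, rfl⟩ := Subgroup.mem_sup_of_normal_left.mp (hQle hq)
    have : mk (c * w) = mk c := by
      rw [map_mul, show mk w = 1 from (QuotientGroup.eq_one_iff w).mpr hw, mul_one]
    rw [this]
    have hmap : (commutator X).map mk ≤ commutator (X ⧸ W) := by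
      rw [_root_.commutator_def, _root_.commutator_def, map_commutator]
      exact commutator_mono le_top le_top
    exact hmap (mem_map_of_mem mk hc)
  rw [show MonoidHom.transfer φ z = 1 from
    MonoidHom.mem_ker.mp (Abelianization.commutator_subset_ker (MonoidHom.transfer φ) hzcomm)] at hkey
  have hpow : z ^ SE.index = z := by
    rw [h21, show z ^ 21 = (z * z) ^ 10 * z by rw [← pow_two, ← pow_mul, ← pow_succ], hzz, one_pow, one_mul]
  have hzC : (⟨z, hzS⟩ : SE) ∈ zpowers (⟨t * t, htC⟩ : SE) := by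
    refine (QuotientGroup.eq_one_iff _).mp ?_
    rw [hkey]
    exact congrArg φ (Subtype.ext hpow.symm)
  obtain ⟨m, hm⟩ := mem_zpowers_iff.mp hzC
  have hm' : (t * t) ^ m = z := congrArg Subtype.val hm
  have hρt : ρb (t * t) = T := by rw [map_mul]; show ρ r * ρ r = T; rw [hr]; rfl
  rcases Int.even_or_odd m with ⟨j, hj⟩ | ⟨j, hj⟩
  · rw [hj, ← two_mul, zpow_mul, zpow_two, show t * t * (t * t) = t ^ 4 by simp only [pow_succ, pow_zero, one_mul, mul_assoc], ht4, one_zpow] at hm'
    exact hz1 hm'.symm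
  · rw [hj, zpow_add, zpow_mul, zpow_two, show t * t * (t * t) = t ^ 4 by simp only [pow_succ, pow_zero, one_mul, mul_assoc], ht4, one_zpow, one_mul,
      zpow_one] at hm'
    rw [hm', hρz] at hρt
    exact four_group.1 hρt.symm

end Cfsg.Agent.H34.L32
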