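import Cfsg.Agent.H34.L32.Orbit
import Cfsg.Agent.H34.L32.Split
import Cfsg.Agent.H34.L32.KillB

/-! Squaring maps and commutator maps on natural sections. -/

set_option autoImplicit false

namespace Cfsg.Agent.H34.L32

open Subgroup

universe u

variable {X : Type u} [Group X]

theorem rank_sub (hr : Cfsg.SectionalPRankLE 2 4 X) (K : Subgroup X) : Cfsg.SectionalPRankLE 2 4 K := by
  intro H N _ A hA hA2
  let A' := A.comap (QuotientGroup.mk' N)
  let f : A' →* X := (K.subtype.comp H.subtype).comp A'.subtype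
  have hf : Function.Injective f :=
    (K.subtype_injective.comp H.subtype_injective).comp A'.subtype_injective
  let g : f.range →* A :=
    (((QuotientGroup.mk' N).comp A'.subtype).codRestrict A fun x => x.2).comp
      (MonoidHom.ofInjective hf).symm.toMonoidHom
  refine Cfsg.Agent.Signalizer.AltFive.elem_le_16 hr f.range g ?_ (fun a b => hA.is_comm.comm a b)
    (fun a => Subtype.ext (by show (a : H ⧸ N) * a = 1; rw [← pow_two]; exact hA2 a a.2))
  intro a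
  obtain ⟨x, hx⟩ := QuotientGroup.mk'_surjective N (a : H ⧸ N)
  have hxm : x ∈ A' := by
    show QuotientGroup.mk' N x ∈ A
    rw [hx]; exact a.2
  obtain ⟨k, hk⟩ := (MonoidHom.ofInjective hf).symm.surjective ⟨x, hxm⟩
  refine ⟨k, Subtype.ext ?_⟩
  show QuotientGroup.mk' N (((MonoidHom.ofInjective hf).symm k : A') : H) = a
  rw [hk]; exact hx

/-- an elementary subgroup has order at most 16 -/
theorem elem_sub_le (hr : Cfsg.SectionalPRankLE 2 4 X) (K : Subgroup X) (h2 : ∀ a ∈ K, a * a = 1) :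
    Nat.card K ≤ 16 := by
  refine Cfsg.Agent.Signalizer.AltFive.elem_le_16 hr K (MonoidHom.id K) Function.surjective_id ?_
    (fun a => Subtype.ext (h2 a a.2))
  intro a b
  have hi : ∀ c : K, c⁻¹ = c := fun c => inv_eq_of_mul_eq_one_right (Subtype.ext (h2 c c.2))
  calc a * b = (a * b)⁻¹ := (hi _).symm
    _ = b⁻¹ * a⁻¹ := mul_inv_rev a b
    _ = b * a := by rw [hi, hi]

theorem closure_sq_normal (Q : Subgroup X) [hQ : Q.Normal] :
    (closure {f | ∃ a ∈ Q, a * a = f}).Normal := by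
  refine ⟨fun n hn g => ?_⟩
  refine Subgroup.closure_induction (p := fun x _ => g * x * g⁻¹ ∈ closure {f | ∃ a ∈ Q, a * a = f})
    ?_ (by simp) ?_ ?_ hn
  · rintro _ ⟨a, ha, rfl⟩
    refine subset_closure ⟨g * a * g⁻¹, hQ.conj_mem a ha g, ?_⟩
    group
  · intro x y _ _ hx hy
    rw [← conj_mul]; exact mul_mem hx hy
  · intro x _ hx
    rw [← conj_inv]; exact inv_mem hx

/-- squares in `N` give commutators in `N` -/
theorem comm_of_sq {A N : Subgroup X} [N.Normal] (hsq : ∀ a ∈ A, a * a ∈ N) {a b : X} (ha : a ∈ A)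
    (hb : b ∈ A) : a * b * a⁻¹ * b⁻¹ ∈ N := by
  have e : a * b * a⁻¹ * b⁻¹ = a * b * (a * b) * (b⁻¹ * (a⁻¹ * a⁻¹) * b) * (b⁻¹ * b⁻¹) := by group
  rw [e]
  exact mul_mem (mul_mem (hsq _ (mul_mem ha hb))
    (by simpa using ‹N.Normal›.conj_mem _ (hsq _ (inv_mem ha)) b⁻¹)) (hsq _ (inv_mem hb))

theorem Coord.induct {ρ : X →* G3} {A B : Subgroup X} {π : X → V3} (h : Coord ρ A B π) (P : X → Prop)
    {a b e : X} (ha : a ∈ A) (hb : b ∈ A) (he : e ∈ A) (hπa : π a = ![1, 0, 0]) (hπb : π b = ![0, 1, 0])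
    (hπe : π e = ![0, 0, 1]) (hP : P a ∧ P b ∧ P e) (hB : ∀ m ∈ B, P m)
    (hmul : ∀ v ∈ A, ∀ w ∈ A, P v → P w → P (v * w)) {w : X} (hw : w ∈ A) : P w := by
  have hdec : ∀ v : V3, ∃ i j k : Bool, v = (if i then ![1, 0, 0] else 0) + (if j then ![0, 1, 0] else 0) +
      (if k then ![0, 0, 1] else 0) := by decide +kernel
  obtain ⟨i, j, k, hv⟩ := hdec (π w)
  have pick : ∀ (i : Bool) (x : X) (v : V3), x ∈ A → π x = v → P x →
      ∃ y ∈ A, π y = (if i then v else 0) ∧ P y := by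
    intro i x v hx hv hPx
    cases i
    · exact ⟨1, A.one_mem, h.one, hB 1 B.one_mem⟩
    · exact ⟨x, hx, hv, hPx⟩
  obtain ⟨x, hx, hπx, hPx⟩ := pick i a _ ha hπa hP.1
  obtain ⟨y, hy, hπy, hPy⟩ := pick j b _ hb hπb hP.2.1
  obtain ⟨z, hz, hπz, hPz⟩ := pick k e _ he hπe hP.2.2
  have hxyz := mul_mem (mul_mem hx hy) hz
  have hm := h.same hxyz hw (by rw [h.add _ (mul_mem hx hy) _ hz, h.add _ hx _ hy, hπx, hπy, hπz, hv])
  have := hmul _ hxyz _ (h.le hm) (hmul _ (mul_mem hx hy) _ hz (hmul _ hx _ hy hPx hPy) hPz) (hB _ hm)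
  rwa [mul_inv_cancel_left] at this

variable {ρ : X →* G3} {A B : Subgroup X} {π : X → V3}

theorem C_cols : act C ![1, 0, 0] = ![0, 1, 0] ∧ act C ![0, 1, 0] = ![0, 0, 1] ∧
    act C ![0, 0, 1] = ![1, 0, 0] + ![0, 1, 0] := by decide +kernel

/-- an invariant homomorphism from a natural section is trivial -/
theorem inv_hom_trivial (hρ : Function.Surjective ρ) [hA : A.Normal] (hπ : Coord ρ A B π) (f : X → X)
    (hmul : ∀ a ∈ A, ∀ b ∈ A, f (a * b) = f a * f b) (hB : ∀ b ∈ B, f b = 1)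
    (hinv : ∀ g, ∀ a ∈ A, f (g * a * g⁻¹) = f a) {w : X} (hw : w ∈ A) : f w = 1 := by
  obtain ⟨g, hg⟩ := hρ C
  obtain ⟨a, ha, hπa⟩ := hπ.surj ![1, 0, 0]
  have hb := hA.conj_mem a ha g
  have hπb : π (g * a * g⁻¹) = ![0, 1, 0] := by rw [hπ.equiv g a ha, hg, hπa, C_cols.1]
  set b := g * a * g⁻¹
  have he := hA.conj_mem b hb g
  have hπe : π (g * b * g⁻¹) = ![0, 0, 1] := by rw [hπ.equiv g b hb, hg, hπb, C_cols.2.1]
  set e := g * b * g⁻¹
  have hge : f (g * e * g⁻¹) = f a * f b := by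
    have hm := hπ.same (mul_mem ha hb) (hA.conj_mem e he g) (by
      rw [hπ.add _ ha _ hb, hπ.equiv g e he, hg, hπa, hπb, hπe, C_cols.2.2])
    have := hmul _ (mul_mem ha hb) _ (hπ.le hm)
    rw [mul_inv_cancel_left, hB _ hm, mul_one, hmul a ha b hb] at this
    exact this
  have h1 : f b = f a := hinv g a ha
  have h2 : f e = f a := (hinv g b hb).trans h1
  rw [hinv g e he, h2, h1, eq_comm, mul_eq_left] at hge
  exact hπ.induct (fun x => f x = 1) ha hb he hπa hπb hπe ⟨hge, h1.trans hge, h2.trans hge⟩ hB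
    (fun v hv w hw h3 h4 => by rw [hmul v hv w hw, h3, h4, one_mul]) hw

/-- an invariant commutator form on a natural section is trivial -/
theorem inv_form_trivial (hρ : Function.Surjective ρ) [hA : A.Normal] (hπ : Coord ρ A B π)
    (N : Subgroup X) (hN : ∀ n ∈ N, ∀ g, g * n = n * g) (hN2 : ∀ n ∈ N, n * n = 1)
    (hcomm : ∀ a ∈ A, ∀ b ∈ A, a * b * a⁻¹ * b⁻¹ ∈ N) (hB : ∀ b ∈ B, ∀ a ∈ A, b * a = a * b)
    {v w : X} (hv : v ∈ A) (hw : w ∈ A) : v * w = w * v := by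
  obtain ⟨g, hg⟩ := hρ C
  obtain ⟨a, ha, hπa⟩ := hπ.surj ![1, 0, 0]
  have hb := hA.conj_mem a ha g
  have hπb : π (g * a * g⁻¹) = ![0, 1, 0] := by rw [hπ.equiv g a ha, hg, hπa, C_cols.1]
  obtain ⟨b, hbdef⟩ : ∃ b, b = g * a * g⁻¹ := ⟨_, rfl⟩
  rw [← hbdef] at hb hπb
  have he := hA.conj_mem b hb g
  have hπe : π (g * b * g⁻¹) = ![0, 0, 1] := by rw [hπ.equiv g b hb, hg, hπb, C_cols.2.1]
  obtain ⟨e, hedef⟩ : ∃ e, e = g * b * g⁻¹ := ⟨_, rfl⟩
  rw [← hedef] at he hπe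
  let c : X → X → X := fun x y => x * y * x⁻¹ * y⁻¹
  have hcN : ∀ x ∈ A, ∀ y ∈ A, c x y ∈ N := fun x hx y hy => hcomm x hx y hy
  have hlin : ∀ x ∈ A, ∀ y ∈ A, ∀ z ∈ A, c x (y * z) = c x y * c x z := by
    intro x hx y hy z hz
    show x * (y * z) * x⁻¹ * (y * z)⁻¹ = c x y * c x z
    calc x * (y * z) * x⁻¹ * (y * z)⁻¹ = c x y * (y * c x z * y⁻¹) := by simp only [c]; group
      _ = c x y * c x z := by rw [hN _ (hcN x hx z hz) y, mul_inv_cancel_right]
  have hswap : ∀ x ∈ A, ∀ y ∈ A, c y x = c x y := by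
    intro x hx y hy
    refine Eq.trans ?_ (inv_eq_of_mul_eq_one_right (hN2 _ (hcN x hx y hy)))
    simp only [c]; group
  have hinv : ∀ x ∈ A, ∀ y ∈ A, c (g * x * g⁻¹) (g * y * g⁻¹) = c x y := by
    intro x hx y hy
    calc c (g * x * g⁻¹) (g * y * g⁻¹) = g * c x y * g⁻¹ := by simp only [c]; group
      _ = c x y := by rw [hN _ (hcN x hx y hy) g, mul_inv_cancel_right]
  obtain ⟨m, hm, hge⟩ : ∃ m ∈ B, g * e * g⁻¹ = a * b * m :=
    ⟨_, hπ.same (mul_mem ha hb) (hA.conj_mem e he g) (by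
      rw [hπ.add _ ha _ hb, hπ.equiv g e he, hg, hπa, hπb, hπe, C_cols.2.2]), (mul_inv_cancel_left _ _).symm⟩
  have hcm : ∀ x ∈ A, c x m = 1 := fun x hx => by
    show x * m * x⁻¹ * m⁻¹ = 1
    rw [← hB m hm x hx, mul_inv_cancel_right, mul_inv_cancel]
  have hab := mul_mem ha hb
  have h1 : c b e = c a b := by rw [hbdef, hedef, hbdef]; exact hinv a ha _ (hA.conj_mem a ha g)
  have h2 : c e (a * b * m) = c b e := by
    rw [← hge, hedef]; exact hinv b hb _ (hA.conj_mem b hb g)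
  rw [hlin e he _ hab m (hπ.le hm), hcm e he, mul_one, hlin e he a ha b hb, hswap b hb e he, mul_eq_right] at h2
  have h3 : c (a * b * m) b = c e a := by
    rw [← hge, hbdef]; exact hinv e he a ha
  rw [hswap b hb _ (mul_mem hab (hπ.le hm)), hlin b hb _ hab m (hπ.le hm), hcm b hb, mul_one,
    hlin b hb a ha b hb, hswap a ha b hb, show c b b = 1 by simp [c], mul_one, h2] at h3
  have h4 : c b e = 1 := h1.trans h3
  have hc : ∀ {x y : X}, c x y = 1 → x * y = y * x := fun {x y} h => by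
    simp only [c, mul_inv_eq_one, mul_inv_eq_iff_eq_mul, one_mul] at h
    exact h
  have hfix : ∀ x ∈ A, c x a = 1 → c x b = 1 → c x e = 1 → x * w = w * x := fun x hx i1 i2 i3 =>
    hπ.induct (fun y => x * y = y * x) ha hb he hπa hπb hπe ⟨hc i1, hc i2, hc i3⟩
      (fun m hm => (hB m hm x hx).symm)
      (fun p _ q _ hp hq => ((show Commute x p from hp).mul_right (show Commute x q from hq)).eq) hw
  refine hπ.induct (fun x => x * w = w * x) ha hb he hπa hπb hπe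
    ⟨hfix a ha (by simp [c]) h3 ?_, hfix b hb ?_ (by simp [c]) h4, hfix e he h2 ?_ (by simp [c])⟩
    (fun m hm => hB m hm w hw)
    (fun p _ q _ hp hq => ((show Commute p w from hp).mul_left (show Commute q w from hq)).eq) hv
  · rw [hswap e he a ha]; exact h2
  · rw [hswap a ha b hb]; exact h3
  · rw [hswap b hb e he]; exact h4

/-- squaring on a natural section -/
theorem quad [Finite X] (hρ : Function.Surjective ρ) [hA : A.Normal] (hπ : Coord ρ A B π)
    (N : Subgroup X) [hN : N.Normal] (hNA : ∀ n ∈ N, ∀ a ∈ A, n * a = a * n) (hN2 : ∀ n ∈ N, n * n = 1)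
    (hsmall : Nat.card N = 2 ∨ (Nat.card N = 8 ∧ ∀ x ∈ N, ∀ y ∈ N, x ≠ 1 → y ≠ 1 → ∃ g, g * x * g⁻¹ = y))
    (hsq : ∀ a ∈ A, a * a ∈ N) (hB2 : ∀ b ∈ B, b * b = 1) (hBc : ∀ b ∈ B, ∀ a ∈ A, b * a = a * b) :
    (∀ a ∈ A, a * a = 1) ∨
      (Nat.card N = 8 ∧ (∀ a ∈ A, ∀ b ∈ A, a * b = b * a) ∧ ∀ a ∈ A, (a * a = 1 ↔ a ∈ B)) := by
  classical
  have hsame : ∀ a ∈ A, ∀ b ∈ A, π a = π b → a * a = b * b := by
    intro a ha b hb e
    have hm := hπ.same ha hb e
    conv_rhs => rw [← mul_inv_cancel_left a b]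
    rw [(show Commute (a⁻¹ * b) a from hBc _ hm a ha).mul_mul_mul_comm, hB2 _ hm, mul_one]
  have heq : ∀ g, ∀ a ∈ A, g * a * g⁻¹ * (g * a * g⁻¹) = g * (a * a) * g⁻¹ := fun g a _ => conj_mul
  by_cases hall : ∀ a ∈ A, a ∉ B → a * a = 1
  · left
    intro a ha
    by_cases hb : a ∈ B
    · exact hB2 a hb
    · exact hall a ha hb
  simp only [not_forall] at hall
  obtain ⟨a0, ha0, ha0B, hq0⟩ := hall
  have htr : ∀ a ∈ A, a ∉ B → ∀ b ∈ A, b ∉ B → ∃ g, π (g * a * g⁻¹) = π b := by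
    intro a ha haB b hb hbB
    obtain ⟨g1, h1⟩ := trans (π a) (fun e => haB ((hπ.zero a ha).mp e))
    obtain ⟨g2, h2⟩ := trans (π b) (fun e => hbB ((hπ.zero b hb).mp e))
    obtain ⟨g, hg⟩ := hρ (g2 * g1⁻¹)
    exact ⟨g, by rw [hπ.equiv g a ha, hg, ← h1, act_mul, act_inv_act, h2]⟩
  have hne : ∀ a ∈ A, a ∉ B → a * a ≠ 1 := by
    intro a ha haB h1
    obtain ⟨g, hg⟩ := htr a ha haB a0 ha0 ha0B
    refine hq0 ?_
    rw [← hsame _ (hA.conj_mem a ha g) a0 ha0 hg, heq g a ha, h1, mul_one, mul_inv_cancel]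
  obtain ⟨a1, ha1, hπ1⟩ := hπ.surj ![1, 0, 0]
  obtain ⟨a2, ha2, hπ2⟩ := hπ.surj ![0, 1, 0]
  have hnB : ∀ {a}, a ∈ A → π a ≠ 0 → a ∉ B := fun ha h hb => h ((hπ.zero _ ha).mpr hb)
  rcases hsmall with h2 | ⟨h8, htrN⟩
  · exfalso
    obtain ⟨n0, hn0, hall2⟩ : ∃ n0, n0 ≠ 1 ∧ ∀ n ∈ N, n = 1 ∨ n = n0 := by
      refine ⟨a0 * a0, hq0, fun n hn => ?_⟩
      by_contra hno
      simp only [not_or] at hno
      have h3 : ({1, a0 * a0, n} : Set X).ncard ≤ (N : Set X).ncard := Set.ncard_le_ncard (by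
        rintro x (rfl | rfl | rfl)
        · exact N.one_mem
        · exact hsq a0 ha0
        · exact hn)
      rw [← Nat.card_coe_set_eq (N : Set X), show Nat.card (N : Set X) = Nat.card N from rfl, h2,
        Set.ncard_insert_of_notMem (by simp [Ne.symm hq0, Ne.symm hno.1]), Set.ncard_pair (Ne.symm hno.2)] at h3
      omega
    have hval : ∀ a ∈ A, π a ≠ 0 → a * a = n0 := fun a ha h =>
      ((hall2 _ (hsq a ha)).resolve_left (hne a ha (hnB ha h)))
    have hn2 : n0 * n0 = 1 := by rw [← hval a1 ha1 (by rw [hπ1]; decide +kernel)]; exact hN2 _ (hsq a1 ha1)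
    let c : X → X → X := fun x y => x * y * x⁻¹ * y⁻¹
    have hc : ∀ x ∈ A, ∀ y ∈ A, π x ≠ 0 → π y ≠ 0 → π x + π y ≠ 0 → c x y = n0 := by
      intro x hx y hy h1 h2 h3
      have hxy := hval _ (mul_mem hx hy) (by rwa [hπ.add x hx y hy])
      have hi : n0⁻¹ = n0 := inv_eq_of_mul_eq_one_right hn2
      have hn0c : ∀ a ∈ A, n0 * a = a * n0 := fun a ha => hNA _ (hval x hx h1 ▸ hsq x hx) a ha
      calc c x y = x * y * (x * y) * (y⁻¹ * (x * x)⁻¹ * y⁻¹) := by simp only [c]; group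
        _ = n0 := by
          rw [hxy, hval x hx h1, hi, ← hn0c _ (inv_mem hy), mul_assoc, ← mul_inv_rev,
            hval y hy h2, hi, ← mul_assoc, hn2, one_mul]
    obtain ⟨a3, ha3, hπ3⟩ := hπ.surj ![0, 0, 1]
    have h12 := hc a1 ha1 a2 ha2 (by rw [hπ1]; decide +kernel) (by rw [hπ2]; decide +kernel)
      (by rw [hπ1, hπ2]; decide +kernel)
    have h13 := hc a1 ha1 a3 ha3 (by rw [hπ1]; decide +kernel) (by rw [hπ3]; decide +kernel)
      (by rw [hπ1, hπ3]; decide +kernel)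
    have h123 := hc a1 ha1 _ (mul_mem ha2 ha3) (by rw [hπ1]; decide +kernel)
      (by rw [hπ.add _ ha2 _ ha3, hπ2, hπ3]; decide +kernel)
      (by rw [hπ.add _ ha2 _ ha3, hπ1, hπ2, hπ3]; decide +kernel)
    have hl : c a1 (a2 * a3) = c a1 a2 * (a2 * c a1 a3 * a2⁻¹) := by simp only [c]; group
    rw [h123, h12, h13, ← hNA n0 (h13 ▸ comm_of_sq hsq ha1 ha3) a2 ha2, mul_inv_cancel_right, hn2] at hl
    exact hn0 hl
  · refine Or.inr ⟨h8, ?_, fun a ha => ⟨fun h1 => by_contra fun hb => hne a ha hb h1, hB2 a⟩⟩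
    choose sv hsv hπsv using hπ.surj
    let f : {v : V3 // v ≠ 0} → {n : N // n ≠ 1} := fun v =>
      ⟨⟨sv v.1 * sv v.1, hsq _ (hsv _)⟩,
        fun e => hne _ (hsv _) (hnB (hsv _) (by rw [hπsv]; exact v.2)) (congrArg Subtype.val e)⟩
    have hsurj : Function.Surjective f := by
      rintro ⟨⟨n, hn⟩, hn1⟩
      obtain ⟨g, hg⟩ := htrN _ (hsq a0 ha0) n hn hq0 (fun e => hn1 (Subtype.ext e))
      have hb := hA.conj_mem a0 ha0 g
      have hv : π (g * a0 * g⁻¹) ≠ 0 := fun e => ha0B (by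
        rw [← hπ.zero a0 ha0, ← act_inv_act (ρ g) (π a0), ← hπ.equiv g a0 ha0, e, act_zero])
      refine ⟨⟨_, hv⟩, Subtype.ext (Subtype.ext ?_)⟩
      show sv _ * sv _ = n
      rw [hsame _ (hsv _) _ hb (hπsv _), heq g a0 ha0, hg]
    have hinj : Function.Injective f := ((Nat.bijective_iff_surjective_and_card f).mpr ⟨hsurj, by
      haveI := Fintype.ofFinite N
      rw [Nat.card_eq_fintype_card, Nat.card_eq_fintype_card, Fintype.card_subtype_compl,
        Fintype.card_subtype_compl, Fintype.card_subtype_eq, Fintype.card_subtype_eq,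
        ← Nat.card_eq_fintype_card (α := N), h8]
      rfl⟩).1
    have hkey : ∀ a ∈ A, ∀ b ∈ A, π a ≠ 0 → π b ≠ 0 → π a ≠ π b → a * b * (a * b) = a * a * (b * b) := by
      intro a ha b hb h1 h2 h3
      have hw1 : a * a * (b * b) ≠ 1 := fun e => by
        have e' : a * a = b * b := (mul_eq_one_iff_eq_inv.mp e).trans (inv_eq_of_mul_eq_one_right (hN2 _ (hsq b hb)))
        have := @hinj ⟨π a, h1⟩ ⟨π b, h2⟩ (Subtype.ext (Subtype.ext (by
          show sv (π a) * sv (π a) = sv (π b) * sv (π b)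
          rw [hsame _ (hsv _) a ha (hπsv _), hsame _ (hsv _) b hb (hπsv _), e'])))
        exact h3 (congrArg Subtype.val this)
      obtain ⟨⟨v, hv⟩, hfv⟩ := hsurj ⟨⟨_, mul_mem (hsq a ha) (hsq b hb)⟩, fun e => hw1 (congrArg Subtype.val e)⟩
      have hsv' : sv v * sv v = a * a * (b * b) := congrArg (fun z : {n : N // n ≠ 1} => ((z.1 : N) : X)) hfv
      have hfix : ∀ g, act g (π a) = π a → act g (π b) = π b → act g v = v := by
        intro g ga gb
        obtain ⟨x, rfl⟩ := hρ g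
        have hq : x * (sv v * sv v) * x⁻¹ = sv v * sv v := by
          rw [hsv', ← conj_mul, ← heq x a ha, ← heq x b hb,
            hsame _ (hA.conj_mem a ha x) a ha (by rw [hπ.equiv x a ha, ga]),
            hsame _ (hA.conj_mem b hb x) b hb (by rw [hπ.equiv x b hb, gb])]
        have hne' : act (ρ x) v ≠ 0 := fun e => hv (by rw [← act_inv_act (ρ x) v, e, act_zero])
        have := @hinj ⟨_, hne'⟩ ⟨v, hv⟩ (Subtype.ext (Subtype.ext (by
          show sv _ * sv _ = sv v * sv v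
          rw [hsame _ (hsv _) _ (hA.conj_mem _ (hsv v) x) (by rw [hπsv, hπ.equiv x _ (hsv v), hπsv]), heq x _ (hsv v), hq])))
        exact congrArg Subtype.val this
      have hself : ∀ x ∈ A, π x = v → sv v * sv v = x * x := fun x hx e => hsame _ (hsv _) x hx (by rw [hπsv, e])
      rcases pair_fix _ _ _ hfix with e | e | e | e
      · exact absurd e hv
      · rw [hself a ha e.symm] at hsv'
        exact absurd (left_eq_mul.mp hsv') (hne b hb (hnB hb h2))
      · rw [hself b hb e.symm] at hsv'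
        exact absurd (right_eq_mul.mp hsv') (hne a ha (hnB ha h1))
      · rw [← hsame _ (hsv v) _ (mul_mem ha hb) (by rw [hπsv, hπ.add a ha b hb, e]), hsv']
    intro a ha b hb
    by_cases hab : a ∈ B
    · exact hBc a hab b hb
    by_cases hbb : b ∈ B
    · exact (hBc b hbb a ha).symm
    by_cases he : π a = π b
    · have hm := hπ.same ha hb he
      have hc := hBc _ hm a ha
      rw [← mul_inv_cancel_left a b]
      exact ((Commute.refl a).mul_right (show Commute (a⁻¹ * b) a from hc).symm).eq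
    have h := hkey a ha b hb (fun e => hab ((hπ.zero a ha).mp e)) (fun e => hbb ((hπ.zero b hb).mp e)) he
    rw [mul_assoc, mul_assoc, mul_left_cancel_iff, ← mul_assoc, ← mul_assoc, mul_right_cancel_iff] at h
    exact h.symm

/-- an equivariant map into the squares is trivial or the squaring map -/
theorem beta_eps [Finite X] (hρ : Function.Surjective ρ) [hA : A.Normal] (hπ : Coord ρ A B π)
    (hcom : ∀ a ∈ A, ∀ b ∈ A, a * b = b * a) (hzero : ∀ a ∈ A, (a * a = 1 ↔ a ∈ B))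
    (N : Subgroup X) (hN8 : Nat.card N = 8) (hsq : ∀ a ∈ A, a * a ∈ N)
    (β : X → X) (hval : ∀ a ∈ A, β a ∈ N) (hB : ∀ b ∈ B, β b = 1)
    (hequiv : ∀ g, ∀ a ∈ A, β (g * a * g⁻¹) = g * β a * g⁻¹)
    (hadd : ∀ a ∈ A, ∀ b ∈ B, β (a * b) = β a) :
    (∀ a ∈ A, β a = 1) ∨ (∀ a ∈ A, β a = a * a) := by
  classical
  have hsame : ∀ a ∈ A, ∀ b ∈ A, π a = π b → a * a = b * b ∧ β a = β b := by
    intro a ha b hb e
    have hm := hπ.same ha hb e
    rw [← mul_inv_cancel_left a b]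
    generalize a⁻¹ * b = m at hm
    refine ⟨?_, (hadd a ha m hm).symm⟩
    rw [(show Commute m a from hcom m (hπ.le hm) a ha).mul_mul_mul_comm, (hzero m (hπ.le hm)).mpr hm, mul_one]
  letI : CommGroup A :=
    { (inferInstance : Group A) with mul_comm := fun a b => Subtype.ext (hcom a a.2 b b.2) }
  let sq : A →* X := A.subtype.comp (powMonoidHom 2)
  have hsqv : ∀ a : A, sq a = (a : X) * a := fun a => by
    show ((a ^ 2 : A) : X) = _
    rw [SubgroupClass.coe_pow, pow_two]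
  have hrange : sq.range = N := by
    refine eq_of_le_of_card_ge ?_ ?_
    · rintro _ ⟨a, rfl⟩
      rw [hsqv]; exact hsq a a.2
    · have h := sq.ker.card_mul_index
      have hk : sq.ker = B.subgroupOf A := by
        ext a
        rw [MonoidHom.mem_ker, hsqv, mem_subgroupOf]
        exact hzero a a.2
      rw [index_ker, hk, Nat.card_congr (subgroupOfEquivOfLe hπ.le).toEquiv, hπ.card] at h
      rw [hN8]
      exact le_of_eq (Nat.eq_of_mul_eq_mul_left Nat.card_pos (h.trans (mul_comm _ _)).symm)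
  obtain ⟨r, hr⟩ := hρ R
  obtain ⟨c, hc, hπc⟩ := hπ.surj vc
  obtain ⟨d, hd⟩ := hrange.ge (hval c hc)
  rw [hsqv] at hd
  have hdfix : act R (π d) = π d := by
    have h1 : r * d * r⁻¹ * (r * d * r⁻¹) = (d : X) * d := by
      rw [conj_mul, hd, ← hequiv r c hc]
      exact (hsame _ (hA.conj_mem c hc r) c hc (by rw [hπ.equiv r c hc, hr, hπc, R_vc])).2
    have hm : (r * d * r⁻¹)⁻¹ * d ∈ B := by
      have hd' := hA.conj_mem _ d.2 r
      refine (hzero _ (mul_mem (inv_mem hd') d.2)).mp ?_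
      rw [(show Commute (d : X) (r * d * r⁻¹)⁻¹ from hcom _ d.2 _ (inv_mem hd')).mul_mul_mul_comm,
        ← mul_inv_rev, h1, inv_mul_cancel]
    have hd' := hA.conj_mem _ d.2 r
    have h2 : π ((r * d * r⁻¹)⁻¹ * d) = 0 := (hπ.zero _ (mul_mem (inv_mem hd') d.2)).mpr hm
    rw [hπ.add _ (inv_mem hd') _ d.2, hπ.inv hd', hπ.equiv r _ d.2, hr] at h2
    exact funext fun i => CharTwo.add_eq_zero.mp (congrFun h2 i)
  have hspread : ∀ (φ : X → X), (∀ g, ∀ a ∈ A, φ (g * a * g⁻¹) = g * φ a * g⁻¹) → (∀ b ∈ B, φ b = 1) →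
      (∀ a ∈ A, ∀ b ∈ A, π a = π b → φ a = φ b) → β c = φ c → ∀ a ∈ A, β a = φ a := by
    intro φ hφg hφB hφs hφc a ha
    by_cases h0 : a ∈ B
    · rw [hB a h0, hφB a h0]
    obtain ⟨g, hg⟩ := trans (π a) (fun e => h0 ((hπ.zero a ha).mp e))
    obtain ⟨g, rfl⟩ := hρ g
    have e : π (g * c * g⁻¹) = π a := by rw [hπ.equiv g c hc, hπc, hg]
    rw [← (hsame _ (hA.conj_mem c hc g) a ha e).2, ← hφs _ (hA.conj_mem c hc g) a ha e, hequiv g c hc,
      hφg g c hc, hφc]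
  rcases fix_R _ hdfix with h0 | h0
  · left
    refine hspread (fun _ => 1) (fun g _ _ => by group) (fun _ _ => rfl) (fun _ _ _ _ _ => rfl) ?_
    rw [← hd]
    exact (hzero _ d.2).mpr ((hπ.zero _ d.2).mp h0)
  · right
    refine hspread (fun a => a * a) (fun g a _ => conj_mul) (fun b hb => (hzero b (hπ.le hb)).mpr hb)
      (fun a ha b hb e => (hsame a ha b hb e).1) ?_
    rw [← hd]
    exact (hsame _ d.2 c hc (h0.trans hπc.symm)).1

end Cfsg.Agent.H34.L32
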